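import Groth.Agent.Hensel1.Lift
import Mathlib.RingTheory.AdjoinRoot

/-!
# Henselian pairs: equivalent conditions and permanence

`HenselianRing A I`, Gabber's condition, étale lifting, and lifting of idempotents in finite or
integral algebras are equivalent.
-/

set_option autoImplicit false

namespace Groth.Hensel1

open Polynomial

universe u v

variable {A : Type u} [CommRing A] {I : Ideal A}

/-- Points `C → A/I` of étale algebras lift to `A`. -/
def EtaleLifts (I : Ideal A) : Prop :=
  ∀ (C : Type u) [CommRing C] [Algebra A C] [Algebra.Etale A C] (σ : C →ₐ[A] A ⧸ I),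
    ∃ τ : C →ₐ[A] A, (Ideal.Quotient.mkₐ A I).comp τ = σ

lemma EtaleLifts.jac (h : EtaleLifts I) : I ≤ Ideal.jacobson ⊥ := fun a ha => by
  refine Ideal.mem_jacobson_bot.mpr fun y => ?_
  have hu : IsUnit ((Algebra.ofId A (A ⧸ I)) (a * y + 1)) := by
    simp [Ideal.Quotient.eq_zero_iff_mem.mpr ha]
  obtain ⟨τ, -⟩ := h (Localization.Away (a * y + 1))
    (IsLocalization.Away.liftAlgHom (f := Algebra.ofId A (A ⧸ I)) (a * y + 1) hu)
  have := (IsLocalization.Away.algebraMap_isUnit (S := Localization.Away (a * y + 1))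
    (a * y + 1)).map τ
  rwa [AlgHom.commutes] at this

theorem henselianRing_of_etaleLifts (h : EtaleLifts I) : HenselianRing A I where
  jac := h.jac
  is_henselian f hf a₀ h₁ h₂ := by
    let P : StandardEtalePair A :=
      ⟨f, hf, f.derivative, 1, 0, 1, by simp⟩
    have hP : P.HasMap (Ideal.Quotient.mk I a₀) := by
      constructor
      · rw [← Ideal.Quotient.algebraMap_eq, aeval_algebraMap_apply_eq_algebraMap_eval,
          Ideal.Quotient.algebraMap_eq]
        exact Ideal.Quotient.eq_zero_iff_mem.mpr h₁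
      · rw [← Ideal.Quotient.algebraMap_eq, aeval_algebraMap_apply_eq_algebraMap_eval,
          Ideal.Quotient.algebraMap_eq]
        exact h₂
    obtain ⟨τ, hτ⟩ := h P.Ring (P.lift _ hP)
    refine ⟨τ P.X, ?_, ?_⟩
    · rw [IsRoot, ← coe_aeval_eq_eval]
      exact (StandardEtalePair.hasMap_X.map τ).1
    · refine Ideal.Quotient.eq.mp ?_
      simpa using DFunLike.congr_fun hτ P.X

theorem etaleLifts_of_gabber (hI : Gabber I) : EtaleLifts I :=
  fun _ _ _ _ σ => exists_etale_lift hI σ

theorem henselianRing_iff_gabber : HenselianRing A I ↔ Gabber I :=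
  ⟨fun _ => gabber_of_henselianRing,
    fun h => henselianRing_of_etaleLifts (etaleLifts_of_gabber h)⟩

theorem henselianRing_iff_etaleLifts : HenselianRing A I ↔ EtaleLifts I :=
  ⟨fun _ => etaleLifts_of_gabber gabber_of_henselianRing, henselianRing_of_etaleLifts⟩

lemma subsingleton_of_eq_top [h : HenselianRing A I] (hI : I = ⊤) : Subsingleton A := by
  have := Ideal.mem_jacobson_bot.mp (h.jac (hI ▸ Submodule.mem_top : (-1 : A) ∈ I)) 1
  refine isUnit_zero_iff.mp ?_ |> fun h0 => subsingleton_of_zero_eq_one h0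
  simpa using this

/-- Coprime monic factorizations lift along a henselian pair. -/
theorem exists_monic_factor_lift [HenselianRing A I] {f : A[X]} (hf : f.Monic)
    {g₀ h₀ : (A ⧸ I)[X]} (hg : g₀.Monic) (hh : h₀.Monic) (hc : IsCoprime g₀ h₀)
    (he : f.map (Ideal.Quotient.mk I) = g₀ * h₀) :
    ∃ g h : A[X], g.Monic ∧ h.Monic ∧ f = g * h ∧ g.map (Ideal.Quotient.mk I) = g₀ ∧
      h.map (Ideal.Quotient.mk I) = h₀ ∧ IsCoprime g h := by
  rcases subsingleton_or_nontrivial (A ⧸ I) with hs | hs
  · have : Subsingleton A := subsingleton_of_eq_top (Ideal.Quotient.subsingleton_iff.mp hs)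
    exact ⟨1, 1, monic_one, monic_one, Subsingleton.elim _ _, Subsingleton.elim _ _,
      Subsingleton.elim _ _, isCoprime_one_left⟩
  have hn : f.natDegree = g₀.natDegree + h₀.natDegree := by
    rw [← hg.natDegree_mul hh, ← he, hf.natDegree_map]
  let p : MonicDegreeEq A f.natDegree := .mk f hf rfl
  let q₁ : MonicDegreeEq (A ⧸ I) g₀.natDegree := .mk g₀ hg rfl
  let q₂ : MonicDegreeEq (A ⧸ I) h₀.natDegree := .mk h₀ hh rfl
  let σ : UniversalCoprimeFactorizationRing g₀.natDegree h₀.natDegree hn p →ₐ[A] A ⧸ I :=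
    (UniversalCoprimeFactorizationRing.homEquiv (A ⧸ I) _ _ hn p).symm
      ⟨(q₁, q₂), he.symm, hc⟩
  obtain ⟨τ, hτ⟩ := exists_etale_lift (gabber_of_henselianRing (I := I)) σ
  obtain ⟨⟨⟨g, h⟩, hgh, hcop⟩, hq⟩ :
      ∃ q, UniversalCoprimeFactorizationRing.homEquiv A _ _ hn p τ = q := ⟨_, rfl⟩
  have h1 := UniversalCoprimeFactorizationRing.homEquiv_comp_fst A g₀.natDegree h₀.natDegree
    hn p τ (Ideal.Quotient.mkₐ A I)
  have h2 := UniversalCoprimeFactorizationRing.homEquiv_comp_snd A g₀.natDegree h₀.natDegree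
    hn p τ (Ideal.Quotient.mkₐ A I)
  simp only [hτ, hq, σ, Equiv.apply_symm_apply] at h1 h2
  refine ⟨g.1, h.1, g.monic, h.monic, ?_, ?_, ?_, hcop⟩
  · simpa [p, Algebra.algebraMap_self] using hgh.symm
  · exact (congr_arg Subtype.val h1).symm
  · exact (congr_arg Subtype.val h2).symm

lemma map_le_jacobson_of_isIntegral (hI : I ≤ Ideal.jacobson ⊥) (B : Type v) [CommRing B]
    [Algebra A B] [Algebra.IsIntegral A B] : I.map (algebraMap A B) ≤ Ideal.jacobson ⊥ := by
  rw [Ideal.map_le_iff_le_comap]
  refine hI.trans fun a ha => ?_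
  refine Ideal.mem_comap.mpr (Ideal.mem_sInf.mpr fun {M} hM => ?_)
  have : M.IsMaximal := hM.2
  exact Ideal.mem_sInf.mp ha (I := M.comap (algebraMap A B))
    ⟨bot_le, Ideal.isMaximal_comap_of_isIntegral_of_isMaximal (R := A) M⟩

lemma idempotent_eq_of_sub_mem_jacobson {B : Type v} [CommRing B] {x y : B}
    (hx : IsIdempotentElem x) (hy : IsIdempotentElem y)
    (h : x - y ∈ Ideal.jacobson (⊥ : Ideal B)) : x = y := by
  have h3 : (x - y) * (1 - (x - y) * (x - y)) = 0 := by
    unfold IsIdempotentElem at hx hy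
    linear_combination (3 * y - 1 - x) * hx + (1 + y - 3 * x) * hy
  have hu : IsUnit (1 - (x - y) * (x - y)) := by
    convert Ideal.mem_jacobson_bot.mp h (-(x - y)) using 1
    ring
  exact sub_eq_zero.mp (hu.mul_left_eq_zero.mp h3)

/-- Idempotents of integral algebras lift along a henselian pair. -/
theorem exists_idempotent_lift [HenselianRing A I] {B : Type v} [CommRing B] [Algebra A B]
    [Algebra.IsIntegral A B] (b : B) (hb : b * b - b ∈ I.map (algebraMap A B)) :
    ∃ e : B, IsIdempotentElem e ∧ e - b ∈ I.map (algebraMap A B) := by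
  classical
  obtain ⟨c, hc⟩ := (Finsupp.mem_span_iff_linearCombination B _ _).mp hb
  let T : Set B := insert b (c '' ↑c.support)
  have hT : T.Finite := (c.support.finite_toSet.image _).insert _
  let B' : Subalgebra A B := Algebra.adjoin A T
  have hfin : Module.Finite A B' := Module.Finite.iff_fg.mpr
    (fg_adjoin_of_finite hT fun x _ => Algebra.IsIntegral.isIntegral x)
  let b' : B' := ⟨b, Algebra.subset_adjoin (Set.mem_insert _ _)⟩
  have hmem : b' * b' - b' ∈ I • (⊤ : Submodule A B') := by
    let z : B' := ∑ i ∈ c.support.attach,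
      (⟨c i.1, Algebra.subset_adjoin (Set.mem_insert_of_mem _ ⟨i.1, i.2, rfl⟩)⟩ : B') *
        ⟨i.1.1, by
          obtain ⟨a, -, ha⟩ := i.1.2
          exact ha ▸ B'.algebraMap_mem a⟩
    have hz : z = b' * b' - b' := by
      apply Subtype.ext
      simp only [z, AddSubmonoidClass.coe_finset_sum, Subalgebra.coe_mul, Subalgebra.coe_sub, b']
      rw [← hc, Finsupp.linearCombination_apply, Finsupp.sum,
        Finset.sum_attach c.support (fun i => c i * (i : B))]
      simp
    rw [← hz, Ideal.smul_top_eq_map, Submodule.restrictScalars_mem]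
    refine Ideal.sum_mem _ fun i _ => Ideal.mul_mem_left _ _ ?_
    obtain ⟨a, ha, hai⟩ := i.1.2
    convert Ideal.mem_map_of_mem (algebraMap A B') ha using 1
    exact Subtype.ext hai.symm
  obtain ⟨p, hpm, -, hpI, hp0⟩ :=
    LinearMap.exists_monic_and_natDegree_eq_and_coeff_mem_pow_and_aeval_eq_zero A
      (Algebra.lmul A B' (b' * b' - b')) I (by
        rintro _ ⟨x, rfl⟩
        rw [Ideal.smul_top_eq_map, Submodule.restrictScalars_mem] at hmem ⊢
        exact Ideal.mul_mem_right _ _ hmem)
  have hpb : aeval (b * b - b) p = 0 := by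
    rw [aeval_algHom_apply] at hp0
    have h0 : aeval (b' * b' - b') p = 0 := by
      have := DFunLike.congr_fun hp0 1
      simpa using this
    have h1 := congr_arg B'.val h0
    rwa [← aeval_algHom_apply, map_zero] at h1
  have hpmk : p.map (Ideal.Quotient.mk I) = X ^ p.natDegree := by
    ext i
    rw [coeff_map, coeff_X_pow]
    rcases eq_or_ne i p.natDegree with rfl | hi
    · simp [hpm.coeff_natDegree]
    rw [if_neg hi, Ideal.Quotient.eq_zero_iff_mem]
    rcases lt_or_gt_of_ne hi with h | h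
    · exact Ideal.pow_le_self (by omega) (hpI i)
    · simp [coeff_eq_zero_of_natDegree_lt h]
  rcases subsingleton_or_nontrivial A with hA | hA
  · have : Subsingleton B := Module.subsingleton A B
    exact ⟨b, Subsingleton.elim _ _, by simp⟩
  set n := p.natDegree + 1 with hn
  let f : A[X] := (X * p).comp (X ^ 2 - X)
  have hX2 : (X ^ 2 - X : A[X]) = X * (X - C 1) := by rw [C_1]; ring
  have hm : f.Monic := by
    show ((X * p).comp (X ^ 2 - X)).Monic
    rw [hX2]
    refine (monic_X.mul hpm).comp (monic_X.mul (monic_X_sub_C 1)) ?_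
    rw [monic_X.natDegree_mul (monic_X_sub_C 1), natDegree_X, natDegree_X_sub_C]
    omega
  have hfmk : f.map (Ideal.Quotient.mk I) = X ^ n * (X - C 1) ^ n := by
    simp only [f, Polynomial.map_comp, Polynomial.map_mul, hpmk, map_X, Polynomial.map_sub,
      Polynomial.map_pow, mul_comp, X_comp, pow_comp, C_1, hn, ← pow_succ']
    rw [← mul_pow]; ring
  have hfb : aeval b f = 0 := by
    simp [f, aeval_comp, pow_two, hpb]
  have hcX : IsCoprime (X : (A ⧸ I)[X]) (X - C 1) := ⟨1, -1, by rw [C_1]; ring⟩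
  obtain ⟨g, h, -, -, hgh, hg', -, u, w, huw⟩ := exists_monic_factor_lift hm (monic_X_pow n)
    ((monic_X_sub_C 1).pow n) hcX.pow hfmk
  refine ⟨aeval b (u * g), ?_, ?_⟩
  · have h1 := congr_arg (aeval b) huw
    have h2 : aeval b g * aeval b h = 0 := by rw [← map_mul, ← hgh, hfb]
    simp only [map_add, map_mul, map_one, IsIdempotentElem] at h1 ⊢
    linear_combination (aeval b u * aeval b g) * h1 - (aeval b u * aeval b w) * h2
  · set J := I.map (algebraMap A B)
    rw [← Ideal.Quotient.eq]
    have hbb : Ideal.Quotient.mk J b * Ideal.Quotient.mk J b = Ideal.Quotient.mk J b := by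
      rw [← map_mul]; exact Ideal.Quotient.eq.mpr hb
    let φ : A ⧸ I →ₐ[A] B ⧸ J := Ideal.Quotient.liftₐ I (Algebra.ofId A _) fun a ha => by
      rw [Algebra.ofId_apply, IsScalarTower.algebraMap_apply A B (B ⧸ J),
        Ideal.Quotient.algebraMap_eq, Ideal.Quotient.eq_zero_iff_mem]
      exact Ideal.mem_map_of_mem _ ha
    set β := Ideal.Quotient.mk J b with hβ
    have key : ∀ r : A[X], Ideal.Quotient.mk J (aeval b r) =
        (r.map (Ideal.Quotient.mk I)).eval₂ φ.toRingHom β := fun r => by
      rw [eval₂_map, ← Ideal.Quotient.mkₐ_eq_mk A, ← aeval_algHom_apply, aeval_def]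
      congr 1
    have hh' : h.map (Ideal.Quotient.mk I) = (X - C 1) ^ n := by
      have := congr_arg (Polynomial.map (Ideal.Quotient.mk I)) hgh
      rw [hfmk, Polynomial.map_mul, hg'] at this
      exact ((monic_X_pow n).isRegular.left this).symm
    have h1 := congr_arg (Polynomial.map (Ideal.Quotient.mk I)) huw
    simp only [Polynomial.map_add, Polynomial.map_mul, hg', hh', Polynomial.map_one] at h1
    have h2 := congr_arg (fun r => β * r.eval₂ φ.toRingHom β) h1
    simp only [eval₂_add, eval₂_mul, eval₂_pow, eval₂_sub, eval₂_X, eval₂_C, map_one, eval₂_one,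
      mul_one] at h2
    have hpow : β ^ n = β := by rw [hn]; exact IsIdempotentElem.pow_succ_eq _ hbb
    have hz : β * (β - 1) ^ n = 0 := by
      rw [hn, pow_succ', ← mul_assoc, mul_sub, hbb, mul_one, sub_self, zero_mul]
    rw [key, Polynomial.map_mul, hg', eval₂_mul, eval₂_pow, eval₂_X, hpow]
    rw [hpow] at h2
    linear_combination h2 - (u.map (Ideal.Quotient.mk I)).eval₂ φ.toRingHom β * hbb -
      (w.map (Ideal.Quotient.mk I)).eval₂ φ.toRingHom β * hz

theorem bijOn_idempotents [HenselianRing A I] (B : Type v) [CommRing B] [Algebra A B]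
    [Algebra.IsIntegral A B] :
    Set.BijOn (Ideal.Quotient.mk (I.map (algebraMap A B)))
      {e : B | IsIdempotentElem e} {e | IsIdempotentElem e} := by
  refine ⟨fun e he => IsIdempotentElem.map he _, fun x hx y hy hxy => ?_, fun ε hε => ?_⟩
  · exact idempotent_eq_of_sub_mem_jacobson hx hy
      (map_le_jacobson_of_isIntegral HenselianRing.jac B (Ideal.Quotient.eq.mp hxy))
  · obtain ⟨b, rfl⟩ := Ideal.Quotient.mk_surjective ε
    obtain ⟨e, he, he'⟩ := exists_idempotent_lift (I := I) b
      (Ideal.Quotient.eq.mp (by rw [map_mul]; exact hε))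
    exact ⟨e, he, Ideal.Quotient.eq.mpr he'⟩

/-- An idempotent cutting out a point of a flat finite algebra gives a section. -/
theorem exists_algHom_of_idempotent (hI : I ≤ Ideal.jacobson ⊥) {B : Type v} [CommRing B]
    [Algebra A B] [Module.Finite A B] [Module.Flat A B] (σ : B →ₐ[A] A ⧸ I) (e : B)
    (he : IsIdempotentElem e) (hσe : σ e = 1)
    (heK : ∀ x, σ x = 0 → e * x ∈ I.map (algebraMap A B)) :
    ∃ τ : B →ₐ[A] A, (Ideal.Quotient.mkₐ A I).comp τ = σ := by
  let N : Submodule A B := LinearMap.range (Algebra.lmul A B e)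
  have hN : N ≤ Submodule.span A {e} := by
    have hfg : N.FG := by
      simp only [N, LinearMap.range_eq_map]
      exact Module.Finite.fg_top.map _
    refine Submodule.le_of_le_smul_of_le_jacobson_bot hfg hI ?_
    rintro _ ⟨x, rfl⟩
    obtain ⟨a, ha⟩ := Ideal.Quotient.mk_surjective (σ x)
    have h1 : e * (x - algebraMap A B a) ∈ I • (⊤ : Submodule A B) := by
      rw [Ideal.smul_top_eq_map]; exact heK _ (by simp [← ha])
    have h2 : e * (e * (x - algebraMap A B a)) ∈ I • N := by
      have := Submodule.mem_map_of_mem (f := Algebra.lmul A B e) h1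
      rwa [Submodule.map_smul'', Submodule.map_top] at this
    have : e * x = a • e + e * (e * (x - algebraMap A B a)) := by
      rw [← mul_assoc, he, Algebra.smul_def]; ring
    simp only [Algebra.coe_lmul_eq_mul, LinearMap.mul_apply']
    rw [this]
    exact add_mem (Submodule.mem_sup_left (Submodule.smul_mem _ _
      (Submodule.mem_span_singleton_self e))) (Submodule.mem_sup_right h2)
  have hex : ∀ x, ∃ a : A, e * x = a • e := fun x => by
    obtain ⟨a, ha⟩ := Submodule.mem_span_singleton.mp (hN ⟨x, rfl⟩ : e * x ∈ _)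
    exact ⟨a, ha.symm⟩
  choose r hr using hex
  let D := B ⧸ Ideal.span ({1 - e} : Set B)
  have he1 : Ideal.Quotient.mk (Ideal.span ({1 - e} : Set B)) e = 1 := by
    rw [← map_one (Ideal.Quotient.mk _), Ideal.Quotient.eq]
    exact Ideal.mem_span_singleton'.mpr ⟨-1, by ring⟩
  have hrD : ∀ x, Ideal.Quotient.mk (Ideal.span ({1 - e} : Set B)) x = algebraMap A D (r x) := by
    intro x
    have := congr_arg (Ideal.Quotient.mk (Ideal.span ({1 - e} : Set B))) (hr x)
    rw [map_mul, he1, one_mul, Algebra.smul_def, map_mul, he1, mul_one] at this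
    exact this
  have hsurj : Function.Surjective (Algebra.ofId A D) := fun y => by
    obtain ⟨x, rfl⟩ := Ideal.Quotient.mk_surjective y
    exact ⟨r x, (hrD x).symm⟩
  have hker : RingHom.ker (Algebra.ofId A D) ≤ I := fun a ha => by
    have : algebraMap A B a ∈ Ideal.span ({1 - e} : Set B) :=
      Ideal.Quotient.eq_zero_iff_mem.mp ha
    obtain ⟨y, hy⟩ := Ideal.mem_span_singleton'.mp this
    rw [← Ideal.Quotient.eq_zero_iff_mem]
    simpa [hσe] using (congr_arg σ hy).symm
  have : IsLocalization.Away e D := IsLocalization.Away.quotient_of_isIdempotentElem he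
  have : Module.Flat B D := IsLocalization.flat D (Submonoid.powers e)
  have : Module.Flat A D := Module.Flat.trans A B D
  have : (RingHom.ker (Algebra.ofId A D)).Pure :=
    Module.Flat.of_linearEquiv (Ideal.quotientKerAlgEquivOfSurjective hsurj).toLinearEquiv
  have hinj : Function.Injective (Algebra.ofId A D) :=
    (RingHom.injective_iff_ker_eq_bot _).mpr (ideal_eq_bot_of_pure (hker.trans hI))
  let eqv := AlgEquiv.ofBijective (Algebra.ofId A D) ⟨hinj, hsurj⟩
  refine ⟨eqv.symm.toAlgHom.comp (Ideal.Quotient.mkₐ A _), AlgHom.ext fun x => ?_⟩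
  have hx : eqv.symm (Ideal.Quotient.mk (Ideal.span ({1 - e} : Set B)) x) = r x := by
    rw [AlgEquiv.symm_apply_eq, hrD]
    rfl
  show Ideal.Quotient.mk I (eqv.symm (Ideal.Quotient.mk _ x)) = σ x
  rw [hx]
  simpa [hσe, Algebra.smul_def] using (congr_arg σ (hr x)).symm

/-- If idempotents of finite algebras lift bijectively, the pair is henselian. -/
theorem henselianRing_of_bijOn_idempotents
    (h : ∀ (B : Type u) [CommRing B] [Algebra A B], Module.Finite A B →
      Set.BijOn (Ideal.Quotient.mk (I.map (algebraMap A B)))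
        {e : B | IsIdempotentElem e} {e | IsIdempotentElem e}) : HenselianRing A I := by
  have hjac : I ≤ Ideal.jacobson ⊥ := fun a ha => Ideal.mem_jacobson_bot.mpr fun y => by
    set s := a * y + 1 with hs
    have htop : I.map (algebraMap A (A ⧸ Ideal.span ({s} : Set A))) = ⊤ := by
      refine (Ideal.eq_top_iff_one _).mpr ?_
      have h0 : algebraMap A (A ⧸ Ideal.span ({s} : Set A)) s = 0 := by
        rw [Ideal.Quotient.algebraMap_eq, Ideal.Quotient.eq_zero_iff_mem]
        exact Ideal.mem_span_singleton_self s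
      have := Ideal.mem_map_of_mem (algebraMap A (A ⧸ Ideal.span ({s} : Set A)))
        (I.mul_mem_right (-y) ha)
      convert this using 1
      rw [hs, map_add, map_one] at h0
      rw [mul_neg, map_neg]
      linear_combination h0
    have := (h (A ⧸ Ideal.span ({s} : Set A)) inferInstance).injOn
      IsIdempotentElem.zero IsIdempotentElem.one (Ideal.Quotient.eq.mpr (htop ▸ Submodule.mem_top))
    exact Ideal.span_singleton_eq_top.mp (Ideal.Quotient.subsingleton_iff.mp
      (subsingleton_of_zero_eq_one this))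
  refine ⟨hjac, fun f hf a₀ h₁ h₂ => ?_⟩
  have := hf.finite_adjoinRoot
  have := hf.free_adjoinRoot
  let σ : AdjoinRoot f →ₐ[A] A ⧸ I := AdjoinRoot.liftAlgHom f (Algebra.ofId _ _)
    (Ideal.Quotient.mk I a₀) (by
      show f.eval₂ (algebraMap A (A ⧸ I)) (Ideal.Quotient.mk I a₀) = 0
      rw [Ideal.Quotient.algebraMap_eq, eval₂_at_apply, Ideal.Quotient.eq_zero_iff_mem]
      exact h₁)
  set B := AdjoinRoot f
  set J := I.map (algebraMap A B) with hJ
  set x : B := AdjoinRoot.root f with hx
  obtain ⟨q, hq⟩ := X_sub_C_dvd_sub_C_eval (a := a₀) (p := f)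
  have hqa : q.eval a₀ = f.derivative.eval a₀ := by
    have := congr_arg (fun p => (derivative p).eval a₀) hq
    simpa using this.symm
  obtain ⟨w, hw⟩ := isUnit_of_isUnit_mk hjac h₂
  obtain ⟨r, hr⟩ := X_sub_C_dvd_sub_C_eval (a := a₀) (p := q)
  set ε₀ : B := algebraMap A B (↑w⁻¹ : A) * aeval x q with hε₀
  have hxq : (x - algebraMap A B a₀) * aeval x q ∈ J := by
    have := congr_arg (aeval x) hq
    simp only [map_sub, map_mul, aeval_C, aeval_X] at this
    rw [← this, show aeval x f = 0 from by rw [hx, AdjoinRoot.aeval_eq, AdjoinRoot.mk_self], zero_sub]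
    exact neg_mem (Ideal.mem_map_of_mem _ h₁)
  have hqq : algebraMap A B (↑w⁻¹ : A) * algebraMap A B (q.eval a₀) = 1 := by
    rw [← map_mul, hqa, ← hw, Units.inv_mul, map_one]
  have hεε : ε₀ * ε₀ - ε₀ ∈ J := by
    have h3 := congr_arg (aeval x) hr
    simp only [map_sub, map_mul, aeval_C, aeval_X] at h3
    have : ε₀ * ε₀ - ε₀ = (algebraMap A B (↑w⁻¹ : A) ^ 2 * aeval x r) *
        ((x - algebraMap A B a₀) * aeval x q) := by
      rw [hε₀]
      linear_combination (algebraMap A B (↑w⁻¹ : A) ^ 2 * aeval x q) * h3 +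
        (algebraMap A B (↑w⁻¹ : A) * aeval x q) * hqq
    rw [this]
    exact Ideal.mul_mem_left _ _ hxq
  obtain ⟨e, he, hee⟩ := (h B inferInstance).surjOn (show Ideal.Quotient.mk J ε₀ ∈ _ from
    (by rw [← map_mul]; exact Ideal.Quotient.eq.mpr hεε :
      Ideal.Quotient.mk J ε₀ * Ideal.Quotient.mk J ε₀ = Ideal.Quotient.mk J ε₀))
  have hee' : e - ε₀ ∈ J := Ideal.Quotient.eq.mp hee
  have hJσ : ∀ y ∈ J, σ y = 0 := fun y hy => by
    have hle : J ≤ RingHom.ker σ := Ideal.map_le_iff_le_comap.mpr fun a ha => by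
      simp [Ideal.Quotient.eq_zero_iff_mem.mpr ha]
    exact hle hy
  have hσx : σ x = Ideal.Quotient.mk I a₀ := by simp [σ, hx]
  have hσe : σ e = 1 := by
    have h4 : σ e = σ ε₀ := by rw [← sub_eq_zero, ← map_sub]; exact hJσ _ hee'
    rw [h4, hε₀, map_mul, ← aeval_algHom_apply, hσx, AlgHom.commutes,
      ← Ideal.Quotient.algebraMap_eq, aeval_algebraMap_apply_eq_algebraMap_eval, ← map_mul, hqa,
      ← hw, Units.inv_mul, map_one]
  obtain ⟨τ, hτ⟩ := exists_algHom_of_idempotent hjac σ e he hσe fun y hy => by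
    obtain ⟨p, rfl⟩ : ∃ p : A[X], aeval x p = y := by
      obtain ⟨p, rfl⟩ := AdjoinRoot.mk_surjective y
      exact ⟨p, AdjoinRoot.aeval_eq p⟩
    obtain ⟨s, hs⟩ := X_sub_C_dvd_sub_C_eval (a := a₀) (p := p)
    have hpa : p.eval a₀ ∈ I := by
      rw [← Ideal.Quotient.eq_zero_iff_mem, ← Ideal.Quotient.algebraMap_eq,
        ← aeval_algebraMap_apply_eq_algebraMap_eval, Ideal.Quotient.algebraMap_eq, ← hσx,
        aeval_algHom_apply, hy]
    have h5 := congr_arg (aeval x) hs
    simp only [map_sub, map_mul, aeval_C, aeval_X] at h5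
    have : e * aeval x p = e * algebraMap A B (p.eval a₀) +
        (e - ε₀) * ((x - algebraMap A B a₀) * aeval x s) +
        (algebraMap A B (↑w⁻¹ : A) * aeval x s) * ((x - algebraMap A B a₀) * aeval x q) := by
      rw [hε₀]
      linear_combination e * h5
    rw [this]
    exact add_mem (add_mem (Ideal.mul_mem_left _ _ (Ideal.mem_map_of_mem _ hpa))
      (Ideal.mul_mem_right _ _ hee')) (Ideal.mul_mem_left _ _ hxq)
  refine ⟨τ x, ?_, Ideal.Quotient.eq.mp ((DFunLike.congr_fun hτ x).trans hσx)⟩
  rw [IsRoot, ← coe_aeval_eq_eval, aeval_algHom_apply, hx, AdjoinRoot.aeval_eq, AdjoinRoot.mk_self,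
    map_zero]

/-- Henselian pairs pass to integral algebras. -/
theorem henselianRing_of_isIntegral [HenselianRing A I] (B : Type u) [CommRing B] [Algebra A B]
    [Algebra.IsIntegral A B] : HenselianRing B (I.map (algebraMap A B)) := by
  refine henselianRing_of_bijOn_idempotents fun C _ _ hC => ?_
  let := ((algebraMap B C).comp (algebraMap A B)).toAlgebra
  have : IsScalarTower A B C := IsScalarTower.of_algebraMap_eq' rfl
  have : Algebra.IsIntegral B C := Algebra.IsIntegral.of_finite B C
  have : Algebra.IsIntegral A C := Algebra.IsIntegral.trans B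
  rw [Ideal.map_map, ← IsScalarTower.algebraMap_eq]
  exact bijOn_idempotents C

end Groth.Hensel1
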