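import Groth.Agent.Hensel1.Lift
import Groth.Agent.NeronArea.StandardSmoothRetract
import Mathlib.RingTheory.RingHom.StandardSmooth
import Mathlib.RingTheory.RingHom.Etale

/-!
# Points of smooth algebras factor through étale algebras
-/

set_option autoImplicit false

namespace Groth.Hensel1

open TensorProduct

universe u

/-- An `A/I`-point of a smooth `A`-algebra factors through an étale `A`-algebra. -/
theorem exists_etale_factor {A T : Type u} [CommRing A] [CommRing T] [Algebra A T]
    [Algebra.Smooth A T] (I : Ideal A) (σ : T →ₐ[A] A ⧸ I) :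
    ∃ (E : Type u) (_ : CommRing E) (_ : Algebra A E) (τ : T →ₐ[A] E) (ρ : E →ₐ[A] A ⧸ I),
      Algebra.Etale A E ∧ ρ.comp τ = σ := by
  obtain ⟨B, _, _, _, _, -, ⟨r⟩, hB⟩ :=
    Groth.NeronArea.StandardSmoothRetract.exists_smooth_retract (R := A) (A := T)
  obtain ⟨n, g, hgC, hg⟩ := RingHom.IsStandardSmooth.exists_etale_mvPolynomial
    (f := algebraMap A B) (RingHom.isStandardSmooth_algebraMap.mpr hB)
  let := g.toAlgebra
  have : IsScalarTower A (MvPolynomial (Fin n) A) B := IsScalarTower.of_algebraMap_eq fun a =>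
    (RingHom.congr_fun hgC a).symm
  have : Algebra.Etale (MvPolynomial (Fin n) A) B := RingHom.etale_algebraMap.mp hg
  let ψ : B →ₐ[A] A ⧸ I := σ.comp (r.restrictScalars A)
  choose a ha using fun i => Ideal.Quotient.mk_surjective (I := I) (ψ (g (MvPolynomial.X i)))
  let := (MvPolynomial.aeval a : MvPolynomial (Fin n) A →ₐ[A] A).toRingHom.toAlgebra
  have : IsScalarTower A (MvPolynomial (Fin n) A) A := IsScalarTower.of_algebraMap_eq fun x =>
    ((MvPolynomial.aeval a).commutes x).symm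
  have : IsScalarTower (MvPolynomial (Fin n) A) A (A ⧸ I) :=
    IsScalarTower.of_algebraMap_eq fun x => rfl
  have hψ : ∀ p, ψ (g p) = Ideal.Quotient.mk I (MvPolynomial.aeval a p) := fun p =>
    DFunLike.congr_fun (MvPolynomial.algHom_ext
      (f := ψ.comp (IsScalarTower.toAlgHom A (MvPolynomial (Fin n) A) B))
      (g := (Ideal.Quotient.mkₐ A I).comp (MvPolynomial.aeval a)) fun i => by
        show ψ (g (MvPolynomial.X i)) = Ideal.Quotient.mk I (MvPolynomial.aeval a (MvPolynomial.X i))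
        rw [MvPolynomial.aeval_X, ha]) p
  let ψ' : B →ₐ[MvPolynomial (Fin n) A] A ⧸ I := { ψ with commutes' := hψ }
  let ρ : A ⊗[MvPolynomial (Fin n) A] B →ₐ[A] A ⧸ I :=
    Algebra.TensorProduct.lift (Ideal.Quotient.mkₐ A I) ψ' fun _ _ => Commute.all _ _
  let ι : B →ₐ[A] A ⊗[MvPolynomial (Fin n) A] B :=
    (Algebra.TensorProduct.includeRight (R := MvPolynomial (Fin n) A) (A := A) (B := B)).restrictScalars A
  refine ⟨A ⊗[MvPolynomial (Fin n) A] B, inferInstance, inferInstance,
    ι.comp (IsScalarTower.toAlgHom A T B), ρ, inferInstance, AlgHom.ext fun t => ?_⟩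
  simp [ι, ρ, ψ', ψ]

/-- Points of smooth algebras lift along henselian pairs. -/
theorem exists_smooth_lift {A T : Type u} [CommRing A] [CommRing T] [Algebra A T]
    [Algebra.Smooth A T] {I : Ideal A} (hI : Gabber I) (σ : T →ₐ[A] A ⧸ I) :
    ∃ s : T →ₐ[A] A, (Ideal.Quotient.mkₐ A I).comp s = σ := by
  obtain ⟨E, _, _, τ, ρ, _, hρ⟩ := exists_etale_factor I σ
  obtain ⟨t, ht⟩ := exists_etale_lift hI ρ
  exact ⟨t.comp τ, by rw [← AlgHom.comp_assoc, ht, hρ]⟩

end Groth.Hensel1
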