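import Mathlib.RingTheory.MvPolynomial.Homogeneous
import Mathlib.RingTheory.Noetherian.Basic
import Mathlib.RingTheory.Polynomial.Basic
import Mathlib.RingTheory.PrincipalIdealDomain
import Mathlib.RingTheory.LocalRing.ResidueField.Basic

/-!
# Finitely generated approximations of ideals in a local ring with finitely generated maximal ideal

If the maximal ideal `m` of a local ring `H` is finitely generated then every ideal `I` contains a
finitely generated ideal `I₀` with `I ≤ I₀ + mⁿ` for all `n` (the associated graded ring is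
noetherian).
-/

set_option autoImplicit false

namespace Groth.Hensel1

open IsLocalRing MvPolynomial

universe u

variable {H : Type u} [CommRing H] [IsLocalRing H]

section

variable {t : ℕ} (a : Fin t → H)

/-- Homogeneous polynomials over the residue field which are leading forms of elements of `I`. -/
def leadingForms (I : Ideal H) : Set (MvPolynomial (Fin t) (ResidueField H)) :=
  {F | ∃ d : ℕ, ∃ F' : MvPolynomial (Fin t) H, F'.IsHomogeneous d ∧
    MvPolynomial.map (residue H) F' = F ∧ ∃ z ∈ I, z - aeval a F' ∈ maximalIdeal H ^ (d + 1)}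

variable {a}

lemma aeval_mem_pow (ha : Ideal.span (Set.range a) = maximalIdeal H) {F : MvPolynomial (Fin t) H}
    {d : ℕ} (hF : F.IsHomogeneous d) : aeval a F ∈ maximalIdeal H ^ d := by
  rw [F.as_sum, map_sum]
  refine Ideal.sum_mem _ fun s hs => ?_
  have hd : Finsupp.degree s = d := by
    have := hF (mem_support_iff.mp hs)
    rwa [Finsupp.degree_eq_weight_one]
  rw [aeval_monomial]
  refine Ideal.mul_mem_left _ _ ?_
  rw [Finsupp.degree_apply] at hd
  rw [← hd, ← Finset.prod_pow_eq_pow_sum, Finsupp.prod]
  exact Ideal.prod_mem_prod fun i _ => Ideal.pow_mem_pow (ha ▸ Ideal.subset_span ⟨i, rfl⟩) _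

lemma aeval_mem_pow_succ (ha : Ideal.span (Set.range a) = maximalIdeal H)
    {F : MvPolynomial (Fin t) H} {d : ℕ} (hF : F.IsHomogeneous d)
    (h0 : MvPolynomial.map (residue H) F = 0) : aeval a F ∈ maximalIdeal H ^ (d + 1) := by
  rw [F.as_sum, map_sum]
  refine Ideal.sum_mem _ fun s hs => ?_
  have hc : F.coeff s ∈ maximalIdeal H := by
    rw [← residue_eq_zero_iff, ← coeff_map, h0, coeff_zero]
  have hmon : aeval a (monomial s (1 : H)) ∈ maximalIdeal H ^ d :=
    aeval_mem_pow ha (isHomogeneous_monomial 1 (by
      have := hF (mem_support_iff.mp hs)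
      rwa [Finsupp.degree_eq_weight_one]))
  rw [show monomial s (F.coeff s) = C (F.coeff s) * monomial s 1 by rw [C_mul_monomial, mul_one],
    map_mul, aeval_C, Algebra.algebraMap_self, RingHom.id_apply, pow_succ']
  exact Ideal.mul_mem_mul hc hmon

lemma exists_homogeneous_of_mem_pow (ha : Ideal.span (Set.range a) = maximalIdeal H) :
    ∀ (d : ℕ) {z : H}, z ∈ maximalIdeal H ^ d →
      ∃ F : MvPolynomial (Fin t) H, F.IsHomogeneous d ∧ aeval a F = z
  | 0, z, _ => ⟨C z, isHomogeneous_C _ _, by simp⟩
  | d + 1, z, hz => by
    rw [pow_succ] at hz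
    induction hz using Submodule.mul_induction_on' with
    | mem_mul_mem x hx y hy =>
      obtain ⟨F, hF, rfl⟩ := exists_homogeneous_of_mem_pow ha d hx
      obtain ⟨c, rfl⟩ := Ideal.mem_span_range_iff_exists_fun.mp (ha.symm ▸ hy : y ∈ Ideal.span _)
      refine ⟨F * ∑ i, C (c i) * X i, hF.mul (IsHomogeneous.sum _ _ _ fun i _ =>
        (isHomogeneous_C_mul_X (c i) i)), ?_⟩
      simp
    | add x _ y _ hx hy =>
      obtain ⟨F, hF, rfl⟩ := hx
      obtain ⟨G, hG, rfl⟩ := hy
      exact ⟨F + G, hF.add hG, map_add _ _ _⟩

lemma homogeneousComponent_mul {R : Type*} [CommRing R] {σ : Type*} (d e : ℕ) (he : e ≤ d)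
    (c g : MvPolynomial σ R) (hg : g.IsHomogeneous e) :
    homogeneousComponent d (c * g) = homogeneousComponent (d - e) c * g := by
  classical
  conv_lhs => rw [← sum_homogeneousComponent c, Finset.sum_mul, map_sum]
  have hterm : ∀ j, homogeneousComponent d (homogeneousComponent j c * g) =
      if j = d - e then homogeneousComponent (d - e) c * g else 0 := fun j => by
    rw [homogeneousComponent_of_mem ((mem_homogeneousSubmodule _ _).mpr
      ((homogeneousComponent_isHomogeneous j c).mul hg))]
    by_cases hj : j = d - e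
    · rw [if_pos (by omega), if_pos hj, hj]
    · rw [if_neg (by omega), if_neg hj]
  simp only [hterm, Finset.sum_ite_eq', Finset.mem_range]
  split_ifs with h
  · rfl
  · rw [homogeneousComponent_eq_zero _ c (by omega), zero_mul]

end

theorem exists_fg_le_forall_le_sup_pow (hm : (maximalIdeal H).FG) (I : Ideal H) :
    ∃ I₀ : Ideal H, I₀.FG ∧ I₀ ≤ I ∧ ∀ n, I ≤ I₀ ⊔ maximalIdeal H ^ n := by
  classical
  obtain ⟨t, a, ha⟩ := Submodule.fg_iff_exists_fin_generating_family.mp hm
  replace ha : Ideal.span (Set.range a) = maximalIdeal H := ha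
  obtain ⟨s, hs, hspan⟩ := Submodule.fg_span_iff_fg_span_finset_subset (R := MvPolynomial (Fin t)
    (ResidueField H)) (leadingForms a I) |>.mp
      ((isNoetherianRing_iff.mp (MvPolynomial.isNoetherianRing :
        IsNoetherianRing (MvPolynomial (Fin t) (ResidueField H)))).noetherian _)
  choose deg F' hF' hmap z hz hzF using fun G : {x // x ∈ s} => (hs G.2 : G.1 ∈ leadingForms a I)
  refine ⟨Ideal.span (Set.range z), Submodule.fg_span (Set.finite_range z),
    Ideal.span_le.mpr (by rintro _ ⟨G, rfl⟩; exact hz G), fun n => ?_⟩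
  induction n with
  | zero => rw [pow_zero, Ideal.one_eq_top, sup_top_eq]; exact le_top
  | succ n ih =>
    intro x hx
    obtain ⟨y, hy, w, hw, rfl⟩ := Submodule.mem_sup.mp (ih hx)
    have hwI : w ∈ I := by
      have := I.sub_mem hx (Ideal.span_le.mpr (by rintro _ ⟨G, rfl⟩; exact hz G) hy)
      simpa using this
    obtain ⟨F, hF, rfl⟩ := exists_homogeneous_of_mem_pow ha n hw
    have hmem : MvPolynomial.map (residue H) F ∈ leadingForms a I :=
      ⟨n, F, hF, rfl, _, hwI, by simp⟩
    have hin : MvPolynomial.map (residue H) F ∈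
        Submodule.span (MvPolynomial (Fin t) (ResidueField H))
          (↑s : Set (MvPolynomial (Fin t) (ResidueField H))) := by
      rw [← hspan]; exact Submodule.subset_span hmem
    obtain ⟨c, hc⟩ := (Submodule.mem_span_range_iff_exists_fun
        (R := MvPolynomial (Fin t) (ResidueField H))
        (v := fun G : {x // x ∈ s} => G.1)
        (x := MvPolynomial.map (residue H) F)).mp (by
          convert hin using 3
          simp [Set.ext_iff])
    choose c' hc' using fun G : {x // x ∈ s} => map_surjective (residue H) residue_surjective (c G)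
    let d : {x // x ∈ s} → MvPolynomial (Fin t) H := fun G =>
      if deg G ≤ n then homogeneousComponent (n - deg G) (c' G) else 0
    have hd : ∀ G, (d G * F' G).IsHomogeneous n := fun G => by
      by_cases h : deg G ≤ n
      · have := (homogeneousComponent_isHomogeneous (n - deg G) (c' G)).mul (hF' G)
        simpa [d, h, Nat.sub_add_cancel h] using this
      · simp [d, h, isHomogeneous_zero]
    have hkey : MvPolynomial.map (residue H) (F - ∑ G, d G * F' G) = 0 := by
      rw [map_sub, map_sum, sub_eq_zero]
      have h1 := congr_arg (homogeneousComponent n) hc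
      rw [map_sum, homogeneousComponent_of_mem ((mem_homogeneousSubmodule _ _).mpr (hF.map _)),
        if_pos rfl] at h1
      rw [← h1]
      refine Finset.sum_congr rfl fun G _ => ?_
      rw [smul_eq_mul]
      by_cases h : deg G ≤ n
      · rw [homogeneousComponent_mul n (deg G) h _ _ (hmap G ▸ (hF' G).map _), map_mul, hmap]
        congr 1
        simp only [d, if_pos h]
        rw [← hc' G]
        ext m
        simp [coeff_homogeneousComponent, apply_ite (residue H), coeff_map]
      · simp only [d, if_neg h, zero_mul, map_zero]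
        conv_lhs => rw [← sum_homogeneousComponent (c G), Finset.sum_mul, map_sum]
        refine (Finset.sum_eq_zero fun j _ => ?_)
        rw [homogeneousComponent_of_mem ((mem_homogeneousSubmodule _ _).mpr
          ((homogeneousComponent_isHomogeneous j (c G)).mul (hmap G ▸ (hF' G).map _))),
          if_neg (by omega)]
    have h2 : aeval a (F - ∑ G, d G * F' G) ∈ maximalIdeal H ^ (n + 1) :=
      aeval_mem_pow_succ ha (hF.sub (IsHomogeneous.sum _ _ _ fun G _ => hd G)) hkey
    have h3 : ∀ G, aeval a (d G) * (z G - aeval a (F' G)) ∈ maximalIdeal H ^ (n + 1) := fun G => by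
      by_cases h : deg G ≤ n
      · have := Ideal.mul_mem_mul (aeval_mem_pow ha
          (homogeneousComponent_isHomogeneous (n - deg G) (c' G))) (hzF G)
        rw [← pow_add, show n - deg G + (deg G + 1) = n + 1 by omega] at this
        simpa [d, h] using this
      · simp [d, h]
    have : y + aeval a F = (y + ∑ G, aeval a (d G) * z G) +
        (aeval a (F - ∑ G, d G * F' G) - ∑ G, aeval a (d G) * (z G - aeval a (F' G))) := by
      simp only [map_sub, map_sum, map_mul, mul_sub, Finset.sum_sub_distrib]
      ring
    rw [this]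
    exact add_mem (Submodule.mem_sup_left (add_mem hy (Ideal.sum_mem _ fun G _ =>
      Ideal.mul_mem_left _ _ (Ideal.subset_span ⟨G, rfl⟩))))
      (Submodule.mem_sup_right (sub_mem h2 (Ideal.sum_mem _ fun G _ => h3 G)))

end Groth.Hensel1
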