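import Groth.Agent.Hensel1.Std
import Groth.Agent.Hensel1.AdicGen
import Mathlib.RingTheory.Ideal.GoingDown
import Mathlib.RingTheory.QuasiFinite.Basic
import Mathlib.RingTheory.FiniteType
import Mathlib.RingTheory.Filtration
import Mathlib.RingTheory.KrullDimension.Basic
import Mathlib.RingTheory.RingHom.FaithfullyFlat

/-!
# Components of `Hens R Ω`, noetherianity and dimension
-/

set_option autoImplicit false

namespace Groth.Hensel1

open IsLocalRing HensIdx

universe u

noncomputable section

namespace Hens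

variable {R : Type u} [CommRing R] {Ω : Type u} [Field Ω] [Algebra R Ω]

theorem flat_of (i : HensIdx R Ω) : (of i).toRingHom.Flat := by
  classical
  algebraize [(of i).toRingHom]
  refine Module.Flat.of_forall_isTrivialRelation fun {l a x} h => ?_
  obtain ⟨j₀, y, hy⟩ := exists_of_fintype x
  obtain ⟨k₀, hik₀, hjk₀⟩ := exists_ge_ge i j₀
  have h0 : of k₀ (∑ m, tr i k₀ hik₀ (a m) * tr j₀ k₀ hjk₀ (y m)) = of k₀ 0 := by
    simp only [map_sum, map_mul, of_tr, hy, map_zero]
    exact h
  obtain ⟨k₁, hk, hk₁⟩ := exists_tr_eq h0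
  obtain ⟨k, hik, hk₁k, hflat⟩ := exists_ge₂_flat i k₁
  have h1 := congr_arg (tr k₁ k hk₁k) hk₁
  simp only [map_sum, map_mul, map_zero] at h1
  have e1 : ∀ z, tr k₁ k hk₁k (tr k₀ k₁ hk (tr i k₀ hik₀ z)) = tr i k hik z := fun z => by
    rw [← AlgHom.comp_apply, ← AlgHom.comp_apply,
      tr_eq hik (f := (tr k₁ k hk₁k).comp ((tr k₀ k₁ hk).comp (tr i k₀ hik₀))) (by
        rw [← AlgHom.comp_assoc, ptL_comp_tr, ← AlgHom.comp_assoc, ptL_comp_tr, ptL_comp_tr])]
    rfl
  simp only [e1] at h1
  let := (tr i k hik).toRingHom.toAlgebra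
  let : Algebra i.P.Ring k.Obj :=
    ((tr i k hik).toRingHom.comp (algebraMap i.P.Ring i.Obj)).toAlgebra
  have : IsScalarTower i.P.Ring i.Obj k.Obj := IsScalarTower.of_algebraMap_eq' rfl
  have : Module.Flat i.P.Ring k.Obj := hflat
  have : Module.Flat i.Obj k.Obj :=
    (Module.flat_iff_of_isLocalization i.Obj i.q.primeCompl k.Obj).mpr ‹_›
  obtain ⟨n, b, z, hz, hb⟩ := Module.Flat.isTrivialRelation_of_sum_smul_eq_zero
    (R := i.Obj) (M := k.Obj) (f := a)
    (x := fun m => tr k₁ k hk₁k (tr k₀ k₁ hk (tr j₀ k₀ hjk₀ (y m)))) h1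
  refine ⟨n, b, fun q => of k (z q), fun m => ?_, hb⟩
  have h2 := congr_arg (of k) (hz m)
  simp only [of_tr, hy, map_sum] at h2
  rw [h2]
  refine Finset.sum_congr rfl fun q _ => ?_
  show of k (tr i k hik (b m q) * z q) = of i (b m q) * of k (z q)
  rw [map_mul, of_tr]

lemma isLocalHom_of (i : HensIdx R Ω) : IsLocalHom (of i).toRingHom :=
  ⟨fun x hx => by
    have := isUnit_iff.mp hx
    exact i.isUnit_iff.mpr this⟩

theorem faithfullyFlat_of (i : HensIdx R Ω) : (of i).toRingHom.FaithfullyFlat := by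
  have := isLocalHom_of i
  have hflat := flat_of i
  algebraize [(of i).toRingHom]
  have : IsLocalHom (algebraMap i.Obj (Hens R Ω)) := isLocalHom_of i
  exact Module.FaithfullyFlat.of_flat_of_isLocalHom

lemma comap_map_of (i : HensIdx R Ω) (J : Ideal i.Obj) :
    (J.map (of i).toRingHom).comap (of i).toRingHom = J := by
  have := faithfullyFlat_of i
  algebraize [(of i).toRingHom]
  exact Ideal.comap_map_eq_self_of_faithfullyFlat _

lemma injective_of (i : HensIdx R Ω) : Function.Injective (of i) := by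
  rw [← AlgHom.coe_toRingHom, RingHom.injective_iff_ker_eq_bot, RingHom.ker]
  conv_lhs => rw [← Ideal.map_bot (f := (of i).toRingHom)]
  exact comap_map_of i ⊥

variable [IsNoetherianRing R]

instance isNoetherianRing_obj (i : HensIdx R Ω) : IsNoetherianRing i.Obj := by
  have : IsNoetherianRing i.P.Ring := Algebra.FiniteType.isNoetherianRing R i.P.Ring
  exact IsLocalization.isNoetherianRing i.q.primeCompl _ ‹_›

variable [IsLocalRing R] [Algebra (ResidueField R) Ω] [IsScalarTower R (ResidueField R) Ω]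

theorem isNoetherianRing : IsNoetherianRing (Hens R Ω) := by
  classical
  refine (isNoetherianRing_iff_ideal_fg _).mpr fun I => ?_
  have hfg : (maximalIdeal (Hens R Ω)).FG := by
    rw [← map_maximalIdeal]
    exact Ideal.FG.map (IsNoetherian.noetherian (maximalIdeal R)) _
  obtain ⟨I₀, hI₀, hle, hI⟩ := exists_fg_le_forall_le_sup_pow hfg I
  suffices I = I₀ by rw [this]; exact hI₀
  refine le_antisymm (fun x hx => ?_) hle
  obtain ⟨n, g, hg⟩ := Submodule.fg_iff_exists_fin_generating_family.mp hI₀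
  obtain ⟨i, y, hy⟩ := exists_of_fintype (fun k : Option (Fin n) => k.elim x g)
  set J : Ideal i.Obj := Ideal.span (Set.range fun k => y (some k)) with hJ
  have hJmap : J.map (of i).toRingHom = I₀ := by
    rw [hJ, Ideal.map_span, ← Set.range_comp]
    refine Eq.trans ?_ hg
    congr 2
    funext k
    exact hy (some k)
  rcases eq_or_ne J ⊤ with hJtop | hJtop
  · rw [← hJmap, hJtop, Ideal.map_top]
    exact Submodule.mem_top
  have hm : (maximalIdeal i.Obj).map (of i).toRingHom = maximalIdeal (Hens R Ω) := by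
    rw [← i.map_maximalIdeal, Ideal.map_map, ← map_maximalIdeal]
    congr 1
    exact RingHom.ext (of i).commutes
  have hmem : ∀ k, y none ∈ J ⊔ maximalIdeal i.Obj ^ k := fun k => by
    rw [← comap_map_of i (J ⊔ maximalIdeal i.Obj ^ k), Ideal.mem_comap, Ideal.map_sup,
      Ideal.map_pow, hJmap, hm]
    show of i (y none) ∈ _
    rw [hy none]
    exact hI k hx
  have hJx : y none ∈ J := by
    have : Nontrivial (i.Obj ⧸ J) := Ideal.Quotient.nontrivial_iff.mpr hJtop
    have : IsLocalRing (i.Obj ⧸ J) := .of_surjective' _ Ideal.Quotient.mk_surjective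
    rw [← Ideal.Quotient.eq_zero_iff_mem, ← Ideal.mem_bot,
      ← Ideal.iInf_pow_eq_bot_of_isLocalRing ((maximalIdeal i.Obj).map (Ideal.Quotient.mk J))
        (by
          rw [map_maximalIdeal_of_surjective _ Ideal.Quotient.mk_surjective]
          exact (maximalIdeal.isMaximal _).ne_top)]
    refine Ideal.mem_iInf.mpr fun k => ?_
    have h3 := Ideal.mem_map_of_mem (Ideal.Quotient.mk J) (hmem k)
    rwa [Ideal.map_sup, Ideal.map_quotient_self, bot_sup_eq, Ideal.map_pow] at h3
  have := Ideal.mem_map_of_mem (of i).toRingHom hJx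
  rw [hJmap] at this
  rwa [show (of i).toRingHom (y none) = x from hy none] at this

end Hens

namespace Hens

variable {R : Type u} [CommRing R] [IsLocalRing R] {Ω : Type u} [Field Ω] [Algebra R Ω]
  [Algebra (ResidueField R) Ω] [IsScalarTower R (ResidueField R) Ω]

lemma eq_of_le_of_comap_eq {P Q : Ideal (Hens R Ω)} [P.IsPrime] [Q.IsPrime] (hle : P ≤ Q)
    (h : P.comap (algebraMap R _) = Q.comap (algebraMap R _)) : P = Q := by
  refine le_antisymm hle fun x hx => ?_
  obtain ⟨i, y, rfl⟩ := exists_of x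
  have : Algebra.QuasiFinite R i.P.Ring := inferInstance
  have hu : (P.comap (of i)).under R = (Q.comap (of i)).under R := by
    rw [Ideal.under, Ideal.under]
    show (P.comap (of i).toRingHom).comap _ = (Q.comap (of i).toRingHom).comap _
    rw [Ideal.comap_comap, Ideal.comap_comap]
    convert h using 2 <;> exact RingHom.ext (of i).commutes
  have := Algebra.QuasiFinite.eq_of_le_of_under_eq (R := R) (P.comap (of i)) (Q.comap (of i))
    (Ideal.comap_mono hle) hu
  exact (this.ge hx : y ∈ P.comap (of i))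

theorem ringKrullDim_eq : ringKrullDim (Hens R Ω) = ringKrullDim R := by
  refine le_antisymm ?_ ?_
  · refine Order.krullDim_le_of_strictMono (PrimeSpectrum.comap (algebraMap R (Hens R Ω))) ?_
    intro P Q hPQ
    refine lt_of_le_of_ne (Ideal.comap_mono hPQ.le) fun h => hPQ.ne ?_
    exact PrimeSpectrum.ext (eq_of_le_of_comap_eq hPQ.le (congr_arg PrimeSpectrum.asIdeal h))
  · have := faithfullyFlat (R := R) (Ω := Ω)
    refine iSup_le fun l => ?_
    obtain ⟨⟨Q, hQ⟩, hQl⟩ :=
      PrimeSpectrum.comap_surjective_of_faithfullyFlat (B := Hens R Ω) l.last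
    have : Q.LiesOver l.last.asIdeal := ⟨(congr_arg PrimeSpectrum.asIdeal hQl).symm⟩
    obtain ⟨L, hL, -, -⟩ := Ideal.exists_ltSeries_of_hasGoingDown (R := R) l Q
    rw [← hL]
    exact Order.LTSeries.length_le_krullDim L

end Hens

end

end Groth.Hensel1
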