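import Groth.Agent.Hensel1.Std
import Groth.Agent.Hensel1.Noetherian

/-!
# Transfer of properties to an arbitrary (strict) henselization
-/

set_option autoImplicit false

namespace Groth.Hensel1

open IsLocalRing

universe u

theorem isNoetherianRing_of_faithfullyFlat' (R S : Type u) [CommRing R] [CommRing S] [Algebra R S]
    [Module.FaithfullyFlat R S] [IsNoetherianRing S] : IsNoetherianRing R := by
  rw [isNoetherianRing_iff, ← monotone_stabilizes_iff_noetherian]
  intro f
  obtain ⟨n, hn⟩ := monotone_stabilizes_iff_noetherian.mpr (inferInstance : IsNoetherian S S)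
    ⟨fun k => Ideal.map (algebraMap R S) (f k), fun a b h => Ideal.map_mono (f.2 h)⟩
  exact ⟨n, fun m hm => by
    have h : Ideal.map (algebraMap R S) (f n) = Ideal.map (algebraMap R S) (f m) := hn m hm
    have := congr_arg (Ideal.comap (algebraMap R S)) h
    rwa [Ideal.comap_map_eq_self_of_faithfullyFlat, Ideal.comap_map_eq_self_of_faithfullyFlat]
      at this⟩

variable (R S : Type u) [CommRing R] [IsLocalRing R] [CommRing S] [IsLocalRing S] [Algebra R S]
  [IsLocalHom (algebraMap R S)]

/-- A (strict) henselization is isomorphic to some `Hens R Ω`. -/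
structure HensModel : Type (u + 1) where
  /-- the residue field extension -/
  Ω : Type u
  [field : Field Ω]
  [alg : Algebra R Ω]
  [algK : Algebra (ResidueField R) Ω]
  [tower : IsScalarTower R (ResidueField R) Ω]
  [sep : Algebra.IsSeparable (ResidueField R) Ω]
  /-- the isomorphism -/
  equiv : Hens R Ω ≃ₐ[R] S

attribute [instance] HensModel.field HensModel.alg HensModel.algK HensModel.tower HensModel.sep

variable {R S}

theorem hensModel_of_isHenselization [Hensel.IsHenselization R S] : Nonempty (HensModel R S) :=
  (exists_algEquiv_of_isHenselization R S).map fun e => ⟨ResidueField R, e⟩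

theorem hensModel_of_isStrictHenselization [h : Hensel.IsStrictHenselization R S] :
    Nonempty (HensModel R S) :=
  have := h.isSepClosure
  (exists_algEquiv_of_isStrictHenselization R S).map fun e => ⟨ResidueField S, e⟩

variable (M : HensModel R S)
include M

theorem HensModel.flat : Module.Flat R S := Module.Flat.of_linearEquiv M.equiv.symm.toLinearEquiv

theorem HensModel.faithfullyFlat : Module.FaithfullyFlat R S :=
  have := M.flat
  Module.FaithfullyFlat.of_flat_of_isLocalHom

theorem HensModel.map_maximalIdeal :
    (maximalIdeal R).map (algebraMap R S) = maximalIdeal S := by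
  have h1 := congr_arg (Ideal.map M.equiv.toAlgHom.toRingHom)
    (Hens.map_maximalIdeal (R := R) (Ω := M.Ω))
  have h2 := IsLocalRing.map_maximalIdeal_of_surjective M.equiv.toAlgHom.toRingHom
    M.equiv.surjective
  rw [h2, Ideal.map_map] at h1
  rw [← h1]
  congr 1
  exact M.equiv.toAlgHom.comp_algebraMap.symm

theorem HensModel.isNoetherianRing_iff : IsNoetherianRing R ↔ IsNoetherianRing S := by
  refine ⟨fun _ => ?_, fun _ => ?_⟩
  · have := Hens.isNoetherianRing (R := R) (Ω := M.Ω)
    exact isNoetherianRing_of_ringEquiv _ M.equiv.toRingEquiv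
  · have := M.faithfullyFlat
    exact isNoetherianRing_of_faithfullyFlat' R S

theorem HensModel.ringKrullDim_eq : ringKrullDim S = ringKrullDim R := by
  rw [← ringKrullDim_eq_of_ringEquiv M.equiv.toRingEquiv, Hens.ringKrullDim_eq]

end Groth.Hensel1
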