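import Groth.Agent.Hensel1.Transfer
import Mathlib.RingTheory.LocalProperties.Reduced
import Mathlib.RingTheory.UniqueFactorizationDomain.Basic

/-!
# Standard étale algebras over reduced rings are reduced; reducedness of henselizations
-/

set_option autoImplicit false

namespace Groth.Hensel1

open Polynomial

universe u

theorem dvd_mul_pow_natDegree {K : Type*} [Field K] {f G Z p₁ p₂ : K[X]} {n N : ℕ} (hf : f ≠ 0)
    (hcond : derivative f * p₁ + f * p₂ = G ^ n) (hdvd : f ∣ (Z * G) ^ N) :
    f ∣ Z * G ^ f.natDegree := by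
  suffices ∀ h : K[X], h ∣ f → h ∣ Z * G ^ h.natDegree from this f dvd_rfl
  intro h
  induction h using UniqueFactorizationMonoid.induction_on_prime with
  | h₁ => intro h0; exact absurd (zero_dvd_iff.mp h0) hf
  | h₂ x hx => intro _; exact hx.dvd
  | h₃ a π ha hπ ih =>
    intro hπa
    have hd : (π * a).natDegree = π.natDegree + a.natDegree :=
      natDegree_mul hπ.ne_zero ha
    have hpos : 0 < π.natDegree :=
      natDegree_pos_iff_degree_pos.mpr (degree_pos_of_irreducible hπ.irreducible)
    have iha := ih (dvd_trans (dvd_mul_left a π) hπa)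
    rw [hd]
    by_cases hG : π ∣ G
    · have h1 : π * a ∣ G * (Z * G ^ a.natDegree) := mul_dvd_mul hG iha
      refine h1.trans ?_
      rw [show G * (Z * G ^ a.natDegree) = Z * G ^ (a.natDegree + 1) by ring]
      exact mul_dvd_mul_left Z (pow_dvd_pow G (by omega))
    · have hna : ¬ π ∣ a := fun hπa' => by
        obtain ⟨c, rfl⟩ := hπa'
        obtain ⟨f', rfl⟩ := hπa
        have h1 : π ∣ G ^ n := by
          rw [← hcond]
          simp only [derivative_mul]
          exact ⟨(derivative π * c + (derivative π * c + π * derivative c)) * f' * p₁ +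
            π * c * derivative f' * p₁ + π * c * f' * p₂, by ring⟩
        exact hG (hπ.dvd_of_dvd_pow h1)
      have hZ : π ∣ Z := by
        rcases hπ.dvd_or_dvd (hπ.dvd_of_dvd_pow ((dvd_mul_right π a).trans (hπa.trans hdvd))) with
          h | h
        exacts [h, absurd h hG]
      exact (hπ.irreducible.coprime_iff_not_dvd.mpr hna).mul_dvd (hZ.mul_right _)
        (iha.trans (mul_dvd_mul_left Z (pow_dvd_pow G (by omega))))

theorem isReduced_standardEtale {R : Type u} [CommRing R] [IsReduced R] (P : StandardEtalePair R) :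
    IsReduced P.Ring := by
  rcases subsingleton_or_nontrivial R with hR | hR
  · have : Subsingleton P.Ring := Module.subsingleton R P.Ring
    exact ⟨fun x _ => Subsingleton.elim _ _⟩
  have : IsReduced (Localization.Away (AdjoinRoot.mk P.f P.g)) := by
    refine ⟨fun x ⟨N, hN⟩ => ?_⟩
    obtain ⟨z, ⟨_, k, rfl⟩, rfl⟩ :=
      IsLocalization.exists_mk'_eq (Submonoid.powers (AdjoinRoot.mk P.f P.g)) x
    rw [← IsLocalization.mk'_pow, IsLocalization.mk'_eq_zero_iff] at hN
    obtain ⟨⟨_, m, rfl⟩, hm⟩ := hN
    rw [IsLocalization.mk'_eq_zero_iff]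
    refine ⟨⟨_, P.f.natDegree, rfl⟩, ?_⟩
    obtain ⟨Z, rfl⟩ := AdjoinRoot.mk_surjective z
    simp only at hm ⊢
    rw [← map_pow, ← map_mul, AdjoinRoot.mk_eq_zero, mul_comm]
    rw [← modByMonic_eq_zero_iff_dvd P.monic_f]
    obtain ⟨p₁, p₂, n, hcond⟩ := P.cond
    have hdvd : P.f ∣ (Z * P.g) ^ (N + m + 1) := by
      rw [← AdjoinRoot.mk_eq_zero, map_pow, map_mul, mul_pow]
      rw [show (AdjoinRoot.mk P.f Z) ^ (N + m + 1) * (AdjoinRoot.mk P.f P.g) ^ (N + m + 1) =
        ((AdjoinRoot.mk P.f P.g) ^ m * (AdjoinRoot.mk P.f Z) ^ N) *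
          ((AdjoinRoot.mk P.f Z) ^ (m + 1) * (AdjoinRoot.mk P.f P.g) ^ (N + 1)) by ring, hm,
        zero_mul]
    ext i
    rw [coeff_zero]
    refine IsNilpotent.eq_zero (mem_nilradical.mp ?_)
    rw [nilradical_eq_sInf]
    refine Ideal.mem_sInf.mpr fun {p} (hp : p.IsPrime) => ?_
    have hker := Ideal.ker_algebraMap_residueField p
    rw [← hker, RingHom.mem_ker, ← coeff_map, map_modByMonic _ P.monic_f]
    have : (Z * P.g ^ P.f.natDegree).map (algebraMap R p.ResidueField) %ₘ
        P.f.map (algebraMap R p.ResidueField) = 0 :=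
      (modByMonic_eq_zero_iff_dvd (P.monic_f.map _)).mpr (by
        rw [Polynomial.map_mul, Polynomial.map_pow,
          ← P.monic_f.natDegree_map (algebraMap R p.ResidueField)]
        refine dvd_mul_pow_natDegree (P.monic_f.map _).ne_zero
          (p₁ := p₁.map (algebraMap R p.ResidueField)) (p₂ := p₂.map (algebraMap R p.ResidueField))
          (n := n) (N := N + m + 1) ?_ ?_
        · rw [derivative_map, ← Polynomial.map_mul, ← Polynomial.map_mul, ← Polynomial.map_add,
            hcond, Polynomial.map_pow]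
        · rw [← Polynomial.map_mul, ← Polynomial.map_pow]
          exact Polynomial.map_dvd _ hdvd)
    rw [this, coeff_zero]
  exact isReduced_of_injective P.equivAwayAdjoinRoot P.equivAwayAdjoinRoot.injective

namespace Hens

variable {R : Type u} [CommRing R] {Ω : Type u} [Field Ω] [Algebra R Ω]

theorem isReduced [IsReduced R] : IsReduced (Hens R Ω) := ⟨fun x ⟨n, hn⟩ => by
  obtain ⟨i, y, rfl⟩ := exists_of x
  have := isReduced_standardEtale i.P
  have : IsReduced i.Obj := inferInstance
  rw [← map_pow, map_eq_zero_iff _ (injective_of i)] at hn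
  rw [(IsNilpotent.eq_zero ⟨n, hn⟩ : y = 0), map_zero]⟩

end Hens

open IsLocalRing in
theorem HensModel.isReduced_iff {R S : Type u} [CommRing R] [IsLocalRing R] [CommRing S]
    [IsLocalRing S] [Algebra R S] [IsLocalHom (algebraMap R S)] (M : HensModel R S) :
    IsReduced R ↔ IsReduced S := by
  refine ⟨fun _ => ?_, fun _ => ?_⟩
  · have := Hens.isReduced (R := R) (Ω := M.Ω)
    exact isReduced_of_injective M.equiv.symm M.equiv.symm.injective
  · have := M.faithfullyFlat
    exact isReduced_of_injective (algebraMap R S) (FaithfulSMul.algebraMap_injective R S)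

end Groth.Hensel1
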