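import Groth.Agent.Hensel1.Transfer
import Mathlib.RingTheory.RegularLocalRing.Defs
import Mathlib.LinearAlgebra.Matrix.ToLin
import Mathlib.LinearAlgebra.FiniteDimensional.Lemmas

/-!
# Regularity of henselizations
-/

set_option autoImplicit false

namespace Groth.Hensel1

open IsLocalRing

universe u v

/-- Along a flat local homomorphism with `mS = m_S` the embedding dimension is preserved. -/
theorem spanFinrank_maximalIdeal_eq_of_flat {R : Type u} {S : Type v} [CommRing R] [IsLocalRing R]
    [IsNoetherianRing R] [CommRing S] [IsLocalRing S] [Algebra R S] [Module.Flat R S]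
    (hm : (maximalIdeal R).map (algebraMap R S) = maximalIdeal S) :
    (maximalIdeal S).spanFinrank = (maximalIdeal R).spanFinrank := by
  classical
  set n := (maximalIdeal R).spanFinrank with hn
  obtain ⟨s, hscard, hspan⟩ := Submodule.FG.exists_span_finset_card_eq_spanFinrank
    (IsNoetherian.noetherian (maximalIdeal R))
  let a : s → R := fun i => i.1
  have hS : Submodule.span S (Set.range fun i => algebraMap R S (a i)) = maximalIdeal S := by
    rw [← hm, show (fun i => algebraMap R S (a i)) = algebraMap R S ∘ a from rfl, Set.range_comp,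
      show Set.range a = (s : Set R) by simp [a]]
    conv_rhs => rw [← hspan]
    exact (Ideal.map_span _ _).symm
  have hrel : ∀ c : s → S, ∑ i, c i * algebraMap R S (a i) = 0 → ∀ i, c i ∈ maximalIdeal S := by
    intro c hc i
    obtain ⟨k, b, y, hy, hb⟩ := Module.Flat.isTrivialRelation_of_sum_smul_eq_zero (R := R) (M := S)
      (f := a) (x := c) (by simpa [Algebra.smul_def, mul_comm] using hc)
    rw [hy i]
    refine Submodule.sum_mem _ fun j _ => ?_
    rw [Algebra.smul_def]
    refine Ideal.mul_mem_right _ _ (hm ▸ Ideal.mem_map_of_mem _ ?_)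
    by_contra hunit
    rw [mem_maximalIdeal, mem_nonunits_iff, not_not] at hunit
    -- the generator `a i` is redundant
    have hai : a i ∈ Submodule.span R ((s.erase i.1 : Finset R) : Set R) := by
      have h1 := hb j
      rw [← Finset.add_sum_erase _ _ (Finset.mem_univ i)] at h1
      obtain ⟨u, hu⟩ := hunit
      have : a i = -(↑u⁻¹ : R) * ∑ l ∈ Finset.univ.erase i, a l * b l j := by
        have h2 : a i * ↑u + ∑ l ∈ Finset.univ.erase i, a l * b l j = 0 := by
          rw [hu]; exact h1
        linear_combination (↑u⁻¹ : R) * h2 - a i * u.inv_mul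
      rw [this]
      refine Submodule.smul_mem _ (-(↑u⁻¹ : R)) (Submodule.sum_mem _ fun l hl => ?_)
      rw [mul_comm]
      exact Submodule.smul_mem _ _ (Submodule.subset_span (by
        simp only [Finset.coe_erase, Set.mem_sdiff, Set.mem_singleton_iff, a]
        exact ⟨l.2, fun h => (Finset.mem_erase.mp hl).1 (Subtype.ext h)⟩))
    have hle : maximalIdeal R ≤ Submodule.span R ((s.erase i.1 : Finset R) : Set R) := by
      conv_lhs => rw [← hspan]
      refine Submodule.span_le.mpr fun x hx => ?_
      by_cases hxi : x = i.1
      · rw [hxi]; exact hai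
      · exact Submodule.subset_span (Finset.mem_coe.mpr (Finset.mem_erase.mpr ⟨hxi, hx⟩))
    have heq : Submodule.span R ((s.erase i.1 : Finset R) : Set R) = maximalIdeal R :=
      le_antisymm (by
        conv_rhs => rw [← hspan]
        exact Submodule.span_mono (Finset.coe_subset.mpr (Finset.erase_subset _ _))) hle
    have := Submodule.spanFinrank_span_le_ncard_of_finite (R := R)
      (s.erase i.1 : Finset R).finite_toSet
    rw [heq, Set.ncard_coe_finset, Finset.card_erase_of_mem i.2, hscard] at this
    have : 0 < (maximalIdeal R).spanFinrank := hscard ▸ Finset.card_pos.mpr ⟨_, i.2⟩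
    omega
  refine le_antisymm ?_ ?_
  · rw [← hS]
    refine (Submodule.spanFinrank_span_le_ncard_of_finite (Set.finite_range _)).trans ?_
    rw [← Nat.card_coe_set_eq]
    refine (Finite.card_range_le _).trans ?_
    simp [hscard, hn]
  · obtain ⟨t, htcard, htspan⟩ := Submodule.FG.exists_span_finset_card_eq_spanFinrank
      (show (maximalIdeal S).FG from hm ▸ Ideal.FG.map (IsNoetherian.noetherian _) _)
    have hA : ∀ i : s, ∃ f : {x // x ∈ t} → S, ∑ j, f j • (j.1 : S) = algebraMap R S (a i) := fun i =>
      (Submodule.mem_span_range_iff_exists_fun S).mp (by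
        have : algebraMap R S (a i) ∈ maximalIdeal S := hS ▸ Submodule.subset_span ⟨i, rfl⟩
        rw [← htspan] at this
        convert this using 3
        simp [Set.ext_iff])
    have hY : ∀ j : {x // x ∈ t}, ∃ f : s → S, ∑ i, f i • algebraMap R S (a i) = (j.1 : S) := fun j =>
      (Submodule.mem_span_range_iff_exists_fun S).mp (by
        rw [hS, ← htspan]; exact Submodule.subset_span j.2)
    choose A hA using hA
    choose Y hY using hY
    let MA : Matrix s {x // x ∈ t} S := Matrix.of A
    let MY : Matrix {x // x ∈ t} s S := Matrix.of Y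
    have h1 : (MA * MY).map (residue S) = 1 := by
      ext i l
      have := hrel (fun l => (MA * MY) i l - if i = l then 1 else 0) (by
        simp only [sub_mul, Finset.sum_sub_distrib, ite_mul, one_mul, zero_mul,
          Finset.sum_ite_eq, Finset.mem_univ, if_true, Matrix.mul_apply, Finset.sum_mul]
        rw [Finset.sum_comm, sub_eq_zero, ← hA i]
        refine Finset.sum_congr rfl fun j _ => ?_
        rw [← hY j, Finset.smul_sum]
        simp [MA, MY, mul_assoc]) l
      rw [← residue_eq_zero_iff, map_sub, sub_eq_zero] at this
      rw [Matrix.map_apply, this, Matrix.one_apply]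
      split_ifs <;> simp
    rw [Matrix.map_mul] at h1
    have hinj : Function.Injective (Matrix.vecMulLinear (MA.map (residue S))) := fun v w hvw => by
      have := congr_arg (fun z => Matrix.vecMul z (MY.map (residue S))) hvw
      simpa [Matrix.vecMul_vecMul, h1] using this
    have h2 := LinearMap.finrank_le_finrank_of_injective hinj
    rw [Module.finrank_fintype_fun_eq_card, Module.finrank_fintype_fun_eq_card, Fintype.card_coe,
      Fintype.card_coe, hscard, htcard] at h2
    exact h2

theorem HensModel.isRegularLocalRing_iff {R S : Type u} [CommRing R] [IsLocalRing R]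
    [IsNoetherianRing R] [CommRing S] [IsLocalRing S] [Algebra R S]
    [IsLocalHom (algebraMap R S)] (M : HensModel R S) :
    IsRegularLocalRing R ↔ IsRegularLocalRing S := by
  have := M.flat
  have := M.isNoetherianRing_iff.mp inferInstance
  rw [_root_.isRegularLocalRing_iff, _root_.isRegularLocalRing_iff, M.ringKrullDim_eq,
    spanFinrank_maximalIdeal_eq_of_flat M.map_maximalIdeal]

end Groth.Hensel1
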