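import Groth.Agent.Hensel1.Pairs
import Mathlib.Dynamics.Newton
import Mathlib.RingTheory.LocalRing.ResidueField.Basic

/-!
# Henselian local rings: lifting points of étale algebras, basic constructions
-/

set_option autoImplicit false

namespace Groth.Hensel1

open Polynomial IsLocalRing TensorProduct

universe u v w

variable {R : Type u} [CommRing R]

/-- A point of an étale `R`-algebra in the residue field of a henselian local `R`-algebra `T` lifts
uniquely to a `T`-point. -/
theorem existsUnique_algHom_lift_residue {T : Type v} [CommRing T] [HenselianLocalRing T]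
    [Algebra R T] {A : Type w} [CommRing A] [Algebra R A] [Algebra.Etale R A]
    (σ : A →ₐ[R] ResidueField T) :
    ∃! f : A →ₐ[R] T, ∀ a, residue T (f a) = σ a := by
  have : IsScalarTower R T (ResidueField T) := IsScalarTower.of_algebraMap_eq fun _ => rfl
  let σT : T ⊗[R] A →ₐ[T] T ⧸ maximalIdeal T :=
    (Algebra.TensorProduct.lift (S := T) (Algebra.ofId T (ResidueField T)) σ
      (fun _ _ => Commute.all _ _) : T ⊗[R] A →ₐ[T] ResidueField T)
  obtain ⟨τ, hτ, huniq⟩ := existsUnique_etale_lift
    (gabber_of_henselianRing (I := maximalIdeal T)) σT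
  have hσT : ∀ a, σT (1 ⊗ₜ a) = σ a := fun a => by
    show (Algebra.TensorProduct.lift (S := T) (Algebra.ofId T (ResidueField T)) σ
      (fun _ _ => Commute.all _ _) : T ⊗[R] A →ₐ[T] ResidueField T) (1 ⊗ₜ a) = σ a
    simp
  refine ⟨(τ.restrictScalars R).comp Algebra.TensorProduct.includeRight,
    fun a => (DFunLike.congr_fun hτ (1 ⊗ₜ a)).trans (hσT a), fun f hf => ?_⟩
  let τ' : T ⊗[R] A →ₐ[T] T :=
    Algebra.TensorProduct.lift (AlgHom.id T T) f (fun _ _ => Commute.all _ _)
  have hτ' : ∀ a, τ' (1 ⊗ₜ a) = f a := fun a => by simp [τ']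
  have : τ' = τ := huniq τ' (Algebra.TensorProduct.ext (by ext) (AlgHom.ext fun a => by
    show residue T (τ' (1 ⊗ₜ a)) = σT (1 ⊗ₜ a)
    rw [hτ', hσT]
    exact hf a))
  ext a
  simp [← this, τ']

/-- In a local ring, simple roots with the same residue coincide. -/
lemma root_eq_of_residue_eq [IsLocalRing R] {f : R[X]} {a b : R} (ha : f.IsRoot a)
    (hb : f.IsRoot b) (h : residue R a = residue R b) (h' : IsUnit (f.derivative.eval a)) :
    a = b :=
  IsLocalRing.eq_of_eval_eq_zero_of_not_isUnit_sub ha hb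
    (by rw [← mem_nonunits_iff, ← mem_maximalIdeal]; exact Ideal.Quotient.eq.mp h) h'

theorem henselianLocalRing_of_henselianRing [IsLocalRing R]
    [h : HenselianRing R (maximalIdeal R)] : HenselianLocalRing R where
  is_henselian f hf a₀ h₁ h₂ := h.is_henselian f hf a₀ h₁ (h₂.map _)

section Permanence

variable {I J : Ideal R}

/-- Newton's method along a locally nilpotent ideal. -/
theorem henselianRing_of_forall_isNilpotent (hI : ∀ x ∈ I, IsNilpotent x) :
    HenselianRing R I where
  jac x hx := by rw [Ideal.jacobson_bot]; exact nilradical_le_jacobson R (hI x hx)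
  is_henselian f _ a₀ h₁ h₂ := by
    have hjac : I ≤ Ideal.jacobson ⊥ := fun x hx => by rw [Ideal.jacobson_bot]; exact nilradical_le_jacobson R (hI x hx)
    have hu : IsUnit (aeval a₀ f.derivative) := by
      rw [coe_aeval_eq_eval]; exact isUnit_of_isUnit_mk hjac h₂
    -- the root found in `R` agrees with `a₀` modulo `I`
    obtain ⟨s, hs, hs'⟩ : ∃ r, IsNilpotent (a₀ - r) ∧ f.IsRoot r := by
      obtain ⟨r, ⟨h1, h2⟩, -⟩ := existsUnique_nilpotent_sub_and_aeval_eq_zero
        (P := f) (x := a₀) (by rw [coe_aeval_eq_eval]; exact hI _ h₁) hu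
      exact ⟨r, h1, by rwa [coe_aeval_eq_eval] at h2⟩
    refine ⟨s, hs', Ideal.Quotient.eq.mp ?_⟩
    have hu' : IsUnit (aeval (Ideal.Quotient.mk I a₀) f.derivative) := by
      rw [← Ideal.Quotient.algebraMap_eq, aeval_algebraMap_apply_eq_algebraMap_eval]
      exact h₂
    have h0 : aeval (Ideal.Quotient.mk I a₀) f = 0 := by
      rw [← Ideal.Quotient.algebraMap_eq, aeval_algebraMap_apply_eq_algebraMap_eval]
      exact Ideal.Quotient.eq_zero_iff_mem.mpr h₁
    obtain ⟨r', -, huniq⟩ := existsUnique_nilpotent_sub_and_aeval_eq_zero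
      (P := f) (x := Ideal.Quotient.mk I a₀) (by rw [h0]; exact IsNilpotent.zero) hu'
    refine (huniq _ ⟨?_, ?_⟩).trans (huniq _ ⟨by simp, h0⟩).symm
    · rw [← map_sub]; exact hs.map _
    · rw [← Ideal.Quotient.algebraMap_eq, aeval_algebraMap_apply_eq_algebraMap_eval, hs',
        map_zero]

theorem henselianRing_quotient [HenselianRing R I] (K : Ideal R) :
    HenselianRing (R ⧸ K) (I.map (Ideal.Quotient.mk K)) := by
  rw [← Ideal.Quotient.algebraMap_eq]
  exact henselianRing_of_isIntegral (A := R) (R ⧸ K)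

theorem henselianRing_of_le (h : I ≤ J) (h₁ : HenselianRing R I)
    (h₂ : HenselianRing (R ⧸ I) (J.map (Ideal.Quotient.mk I))) : HenselianRing R J := by
  have hjac : J ≤ Ideal.jacobson ⊥ := fun x hx => by
    refine Ideal.mem_jacobson_bot.mpr fun y => isUnit_of_isUnit_mk h₁.jac ?_
    simpa using Ideal.mem_jacobson_bot.mp (h₂.jac (Ideal.mem_map_of_mem _ hx))
      (Ideal.Quotient.mk I y)
  refine ⟨hjac, fun f hf a₀ ha hd => ?_⟩
  have hmkJ : ∀ x, IsUnit (Ideal.Quotient.mk J x) →
      IsUnit (Ideal.Quotient.mk (J.map (Ideal.Quotient.mk I)) (Ideal.Quotient.mk I x)) :=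
    fun x hx => (isUnit_of_isUnit_mk hjac hx).map ((Ideal.Quotient.mk _).comp (Ideal.Quotient.mk I))
  obtain ⟨b', hb, hb'⟩ := h₂.is_henselian (f.map (Ideal.Quotient.mk I)) (hf.map _)
    (Ideal.Quotient.mk I a₀) (by rw [eval_map_apply]; exact Ideal.mem_map_of_mem _ ha)
    (by rw [derivative_map, eval_map_apply]; exact hmkJ _ hd)
  obtain ⟨b, rfl⟩ := Ideal.Quotient.mk_surjective b'
  have hba : b - a₀ ∈ J := by
    rw [← map_sub] at hb'
    exact (Ideal.mem_quotient_iff_mem h).mp hb'
  have hbd : IsUnit (Ideal.Quotient.mk I (f.derivative.eval b)) := by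
    refine (isUnit_of_isUnit_mk hjac ?_).map _
    rwa [← eval_map_apply, Ideal.Quotient.eq.mpr hba, eval_map_apply]
  obtain ⟨a, har, hab⟩ := h₁.is_henselian f hf b
    (by rw [IsRoot, eval_map_apply, Ideal.Quotient.eq_zero_iff_mem] at hb; exact hb) hbd
  refine ⟨a, har, ?_⟩
  have := J.add_mem (h hab) hba
  simpa using this

theorem henselianRing_le [HenselianRing R J] (h : I ≤ J) : HenselianRing R I := by
  refine henselianRing_iff_gabber.mpr ⟨h.trans HenselianRing.jac, fun n hn p hp hpI => ?_⟩
  obtain ⟨α, hα, hr⟩ := (gabber_of_henselianRing (I := J)).root n hn p hp (fun i => h (hpI i))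
  refine ⟨α, ?_, hr⟩
  have hu : IsUnit α := isUnit_of_sub_one_mem HenselianRing.jac hα
  have h0 : α ^ n * (α - 1) = -(p.eval α) := by
    have := hr
    simp only [IsRoot, eval_add, eval_mul, eval_pow, eval_X, eval_sub, eval_one] at this
    linear_combination this
  have : α ^ n * (α - 1) ∈ I := h0 ▸ I.neg_mem (eval_mem_of_coeff_mem hpI α)
  exact (Ideal.unit_mul_mem_iff_mem I (hu.pow n)).mp this

theorem henselianRing_iff_of_le' (h : I ≤ J) :
    HenselianRing R J ↔
      (HenselianRing R I ∧ HenselianRing (R ⧸ I) (J.map (Ideal.Quotient.mk I))) :=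
  ⟨fun _ => ⟨henselianRing_le h, henselianRing_quotient I⟩,
    fun ⟨h₁, h₂⟩ => henselianRing_of_le h h₁ h₂⟩

theorem henselianRing_of_le_radical [HenselianRing R I] (h : J ≤ I.radical) : HenselianRing R J := by
  have h1 : HenselianRing R (I ⊔ J) := by
    refine henselianRing_of_le le_sup_left ‹_› (henselianRing_of_forall_isNilpotent ?_)
    rw [Ideal.map_sup, Ideal.map_quotient_self, bot_sup_eq]
    intro x hx
    obtain ⟨y, hy, rfl⟩ := (Ideal.mem_map_iff_of_surjective _ Ideal.Quotient.mk_surjective).mp hx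
    obtain ⟨n, hn⟩ := h hy
    exact ⟨n, by rw [← map_pow]; exact Ideal.Quotient.eq_zero_iff_mem.mpr hn⟩
  exact henselianRing_le (le_sup_right : J ≤ I ⊔ J)

theorem henselianRing_sup (hI : HenselianRing R I) (hJ : HenselianRing R J) :
    HenselianRing R (I ⊔ J) := by
  refine henselianRing_of_le le_sup_left hI ?_
  rw [Ideal.map_sup, Ideal.map_quotient_self, bot_sup_eq]
  exact henselianRing_quotient I

theorem henselianRing_sSup (s : Set (Ideal R)) (hs : ∀ J ∈ s, HenselianRing R J) :
    HenselianRing R (sSup s) := by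
  classical
  refine henselianRing_iff_gabber.mpr ⟨sSup_le fun J hJ => (hs J hJ).jac, fun n hn p hp hpI => ?_⟩
  have hfin : ∀ t : Finset (Ideal R), (↑t ⊆ s) → HenselianRing R (t.sup id) := by
    intro t
    induction t using Finset.induction_on with
    | empty =>
      intro _
      simp only [Finset.sup_empty]
      exact henselianRing_of_forall_isNilpotent fun x hx => by
        rw [Ideal.mem_bot.mp hx]; exact IsNilpotent.zero
    | insert a t _ ih =>
      intro ht
      rw [Finset.coe_insert, Set.insert_subset_iff] at ht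
      rw [Finset.sup_insert]
      exact henselianRing_sup (hs a ht.1) (ih ht.2)
  have hmem : ∀ i, ∃ t : Finset (Ideal R), ↑t ⊆ s ∧ p.coeff i ∈ t.sup id := fun i => by
    have hi := hpI i
    rw [sSup_eq_iSup'] at hi
    obtain ⟨t, ht⟩ := Submodule.exists_finset_of_mem_iSup _ hi
    refine ⟨t.image Subtype.val, by simp, ?_⟩
    rw [Finset.sup_image, Finset.sup_eq_iSup]
    exact ht
  choose t ht htmem using hmem
  let T : Finset (Ideal R) := (Finset.range (n + 1)).biUnion t
  have hT : ↑T ⊆ s := fun J hJ => by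
    obtain ⟨i, -, hJ'⟩ := Finset.mem_biUnion.mp hJ
    exact ht i hJ'
  have := hfin T hT
  obtain ⟨α, hα, hr⟩ := (gabber_of_henselianRing (I := T.sup id)).root n hn p hp fun i => by
    rcases le_or_gt i n with h | h
    · exact (Finset.sup_mono (Finset.subset_biUnion_of_mem t
        (Finset.mem_range.mpr (Nat.lt_succ_of_le h))) : (t i).sup id ≤ T.sup id) (htmem i)
    · rw [coeff_eq_zero_of_natDegree_lt (lt_of_le_of_lt hp h)]
      exact Ideal.zero_mem _
  exact ⟨α, (Finset.sup_le fun J hJ => le_sSup (hT hJ)) hα, hr⟩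

end Permanence

end Groth.Hensel1
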