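import Groth.Agent.Hensel1.SmoothBranches
import Mathlib.AlgebraicGeometry.Morphisms.Smooth

/-!
# Smooth morphisms and geometrically unibranch points
-/

set_option autoImplicit false

open CategoryTheory AlgebraicGeometry

namespace Groth.Hensel1

universe u

/-- Smooth morphisms preserve the number of geometric branches at every point. -/
theorem numGeomBranchesAt_eq_of_smooth {X Y : Scheme.{u}} (f : X ⟶ Y) [Smooth f] (x : X) :
    Brnch.numGeomBranchesAt X x = Brnch.numGeomBranchesAt Y (f x) := by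
  obtain ⟨_, ⟨V, hV, rfl⟩, hxV, -⟩ :=
    Y.isBasis_affineOpens.exists_subset_of_mem_open (Set.mem_univ (f x)) isOpen_univ
  replace hV : IsAffineOpen V := hV
  obtain ⟨_, ⟨U, hU, rfl⟩, hxU, hUV⟩ :=
    X.isBasis_affineOpens.exists_subset_of_mem_open (show x ∈ f ⁻¹ᵁ V from hxV) (f ⁻¹ᵁ V).isOpen
  replace hU : IsAffineOpen U := hU
  let R := Γ(Y, V)
  let S := Γ(X, U)
  let _ : Algebra R S := (f.appLE V U hUV).hom.toAlgebra
  have : Algebra.Smooth R S := f.smooth_appLE hV hU hUV
  let A := Y.presheaf.stalk (f x)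
  let B := X.presheaf.stalk x
  let _ : Algebra R A := Y.presheaf.algebra_section_stalk (⟨f x, hxV⟩ : V)
  let _ : Algebra S B := X.presheaf.algebra_section_stalk (⟨x, hxU⟩ : U)
  have : IsLocalization.AtPrime A (hV.primeIdealOf ⟨f x, hxV⟩).asIdeal := hV.isLocalization_stalk _
  have : IsLocalization.AtPrime B (hU.primeIdealOf ⟨x, hxU⟩).asIdeal := hU.isLocalization_stalk _
  let _ : Algebra A B := (f.stalkMap x).hom.toAlgebra
  let _ : Algebra R B := ((algebraMap S B).comp (algebraMap R S)).toAlgebra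
  have : IsScalarTower R S B := .of_algebraMap_eq fun _ => rfl
  have : IsScalarTower R A B := .of_algebraMap_eq fun r => by
    show (f.appLE V U hUV ≫ X.presheaf.germ U x hxU) r = (Y.presheaf.germ V (f x) hxV ≫ f.stalkMap x) r
    rw [Scheme.Hom.germ_stalkMap, Scheme.Hom.appLE, Category.assoc, TopCat.Presheaf.germ_res]
  have : IsLocalHom (algebraMap A B) := inferInstanceAs (IsLocalHom (f.stalkMap x).hom)
  exact numGeomBranches_eq_of_smooth (R := R) (S := S) (A := A) (B := B)
    (hV.primeIdealOf ⟨f x, hxV⟩).asIdeal.primeCompl (hU.primeIdealOf ⟨x, hxU⟩).asIdeal.primeCompl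

/-- Smooth morphisms preserve and reflect geometrically unibranch points. -/
theorem isGeomUnibranch_stalk_iff_of_smooth {X Y : Scheme.{u}} (f : X ⟶ Y) [Smooth f] (x : X) :
    CAlg2.IsGeomUnibranch (X.presheaf.stalk x) ↔ CAlg2.IsGeomUnibranch (Y.presheaf.stalk (f x)) := by
  rw [← numGeomBranches_eq_one_iff, ← numGeomBranches_eq_one_iff]
  have h := numGeomBranchesAt_eq_of_smooth f x
  rw [Brnch.numGeomBranchesAt, Brnch.numGeomBranchesAt] at h
  rw [h]

end Groth.Hensel1
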