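import Groth.Prelude.Def_Brnch
import Mathlib.RingTheory.Ideal.MinimalPrime.Localization
import Mathlib.RingTheory.IntegralClosure.IntegralRestrict
import Mathlib.FieldTheory.PurelyInseparable.Basic

/-!
# One branch
-/

set_option autoImplicit false

namespace Groth.Hensel1

universe u

/-- A reduced ring with finitely many minimal primes and local normalization is a domain. -/
theorem isDomain_of_isLocalRing_normalization (R : Type u) [CommRing R] [IsReduced R] [Nontrivial R]
    (hfin : (minimalPrimes R).Finite) [IsLocalRing (integralClosure R (FractionRing R))] : IsDomain R := by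
  classical
  obtain ⟨P, hP⟩ : (minimalPrimes R).Nonempty := by
    obtain ⟨M, hM⟩ := Ideal.exists_maximal R
    obtain ⟨P, hP, -⟩ := Ideal.exists_minimalPrimes_le (I := (⊥ : Ideal R)) (J := M) bot_le
    exact ⟨P, hP⟩
  have hPp := Ideal.minimalPrimes_isPrime hP
  suffices hall : ∀ Q ∈ minimalPrimes R, Q = P by
    suffices P = ⊥ by rw [this] at hPp; exact IsDomain.of_bot_isPrime R
    rw [eq_bot_iff]
    intro x hx
    refine IsNilpotent.eq_zero (mem_nilradical.mp ?_)
    rw [nilradical_eq_sInf]
    refine Ideal.mem_sInf.mpr fun {Q} (hQ : Q.IsPrime) => ?_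
    obtain ⟨Q', hQ', hle⟩ := Ideal.exists_minimalPrimes_le (I := (⊥ : Ideal R)) (J := Q) bot_le
    exact hle ((hall Q' hQ').symm ▸ hx)
  intro Q₀ hQ₀
  by_contra hne
  let T : Finset (Ideal R) := hfin.toFinset.erase P
  -- an element of `P` in no other minimal prime
  obtain ⟨a, haP, haT⟩ : ∃ a ∈ P, ∀ Q ∈ T, a ∉ Q := by
    by_contra! h
    have hsub : (P : Set R) ⊆ ⋃ Q ∈ (T : Set (Ideal R)), (Q : Set R) := fun x hx => by
      obtain ⟨Q, hQ, hxQ⟩ := h x hx
      exact Set.mem_biUnion hQ hxQ
    obtain ⟨Q, hQ, hle⟩ := (Ideal.subset_union_prime (s := T) ⊥ ⊥ fun Q hQ _ _ =>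
      Ideal.minimalPrimes_isPrime (hfin.mem_toFinset.mp (Finset.mem_of_mem_erase hQ))).mp hsub
    have hQ' := hfin.mem_toFinset.mp (Finset.mem_of_mem_erase hQ)
    exact Finset.ne_of_mem_erase hQ (le_antisymm (hQ'.2 ⟨hPp, bot_le⟩ hle) hle)
  -- an element of all other minimal primes outside `P`
  obtain ⟨b, hbT, hbP⟩ : ∃ b ∈ T.inf id, b ∉ P := by
    by_contra! h
    obtain ⟨Q, hQ, hle⟩ := (Ideal.IsPrime.inf_le' hPp).mp (show T.inf id ≤ P from h)
    have hQ' := hfin.mem_toFinset.mp (Finset.mem_of_mem_erase hQ)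
    exact Finset.ne_of_mem_erase hQ
      (le_antisymm hle (hP.2 ⟨Ideal.minimalPrimes_isPrime hQ', bot_le⟩ hle))
  have hbT' : ∀ Q ∈ T, b ∈ Q := fun Q hQ => (Finset.inf_le hQ : T.inf id ≤ Q) hbT
  have hzero : ∀ x : R, (∀ Q ∈ minimalPrimes R, x ∈ Q) → x = 0 := fun x hx => by
    refine IsNilpotent.eq_zero (mem_nilradical.mp ?_)
    rw [nilradical_eq_sInf]
    refine Ideal.mem_sInf.mpr fun {Q} (hQ : Q.IsPrime) => ?_
    obtain ⟨Q', hQ', hle⟩ := Ideal.exists_minimalPrimes_le (I := (⊥ : Ideal R)) (J := Q) bot_le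
    exact hle (hx Q' hQ')
  have hmemT : ∀ Q ∈ minimalPrimes R, Q ≠ P → Q ∈ T := fun Q hQ hQP =>
    Finset.mem_erase.mpr ⟨hQP, hfin.mem_toFinset.mpr hQ⟩
  have hnmem : ∀ Q ∈ minimalPrimes R, a + b ∉ Q := fun Q hQ hab => by
    by_cases hQP : Q = P
    · subst hQP
      exact hbP (by simpa using Q.sub_mem hab haP)
    · exact haT Q (hmemT Q hQ hQP) (by simpa using Q.sub_mem hab (hbT' Q (hmemT Q hQ hQP)))
  have hab0 : a * b = 0 := hzero _ fun Q hQ => by
    by_cases hQP : Q = P
    · subst hQP; exact Q.mul_mem_right _ haP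
    · exact Q.mul_mem_left _ (hbT' Q (hmemT Q hQ hQP))
  have hnzd : a + b ∈ nonZeroDivisors R := by
    rw [mem_nonZeroDivisors_iff_right]
    intro x hx
    refine hzero x fun Q hQ => ?_
    exact ((Ideal.minimalPrimes_isPrime hQ).mem_or_mem (hx ▸ Q.zero_mem)).resolve_right (hnmem Q hQ)
  let e : FractionRing R := IsLocalization.mk' _ a (⟨a + b, hnzd⟩ : nonZeroDivisors R)
  have he : IsIdempotentElem e := by
    show e * e = e
    rw [← IsLocalization.mk'_mul, IsLocalization.mk'_eq_iff_eq, Submonoid.coe_mul]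
    congr 1
    linear_combination (-(a + b)) * hab0
  have heint : e ∈ integralClosure R (FractionRing R) := by
    refine ⟨Polynomial.X ^ 2 - Polynomial.X,
      Polynomial.monic_X_pow_sub (by rw [Polynomial.degree_X]; norm_num), ?_⟩
    simp [sq, he.eq]
  have : (⟨e, heint⟩ : integralClosure R (FractionRing R)) = 0 ∨
      (⟨e, heint⟩ : integralClosure R (FractionRing R)) = 1 := by
    have hi : IsIdempotentElem (⟨e, heint⟩ : integralClosure R (FractionRing R)) := Subtype.ext he
    rcases IsLocalRing.isUnit_or_isUnit_one_sub_self (⟨e, heint⟩ : integralClosure R (FractionRing R)) with hu | hu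
    · exact Or.inr (hu.mul_left_cancel (by rw [mul_one]; exact hi))
    · exact Or.inl (hu.mul_left_cancel (by rw [mul_zero, sub_mul, one_mul, hi.eq, sub_self]))
  rcases this with h | h
  · have h' : e = 0 := congrArg Subtype.val h
    rw [IsLocalization.mk'_eq_zero_iff] at h'
    obtain ⟨m, hm⟩ := h'
    have ha0 : a = 0 := (mem_nonZeroDivisors_iff_left.mp m.2) a hm
    exact haT Q₀ (hmemT Q₀ hQ₀ hne) (ha0 ▸ Q₀.zero_mem)
  · have h' : e = 1 := congrArg Subtype.val h
    rw [show e = IsLocalization.mk' (FractionRing R) a (⟨a + b, hnzd⟩ : nonZeroDivisors R) from rfl,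
      IsLocalization.mk'_eq_iff_eq_mul, one_mul] at h'
    have h'' := IsFractionRing.injective R (FractionRing R) h'
    have hb0 : b = 0 := by
      have : a = a + b := h''
      linear_combination -this
    exact hbP (hb0 ▸ P.zero_mem)

variable (A : Type u) [CommRing A] [IsLocalRing A]

/-- Minimal primes of `A` correspond to those of its reduction. -/
theorem minimalPrimes_red_finite (h : (minimalPrimes A).Finite) : (minimalPrimes (CAlg2.red A)).Finite := by
  refine Set.Finite.subset (h.image (Ideal.map (Ideal.Quotient.mk (nilradical A)))) fun Q hQ => ?_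
  have hQp := Ideal.minimalPrimes_isPrime hQ
  have hc : (Q.comap (Ideal.Quotient.mk (nilradical A))).IsPrime := Ideal.IsPrime.comap _
  refine ⟨Q.comap (Ideal.Quotient.mk _), ⟨⟨hc, bot_le⟩, fun P hP hle => ?_⟩,
    Ideal.map_comap_of_surjective _ Ideal.Quotient.mk_surjective Q⟩
  have hPp := hP.1
  have hker : RingHom.ker (Ideal.Quotient.mk (nilradical A)) ≤ P := by
    rw [Ideal.mk_ker]; exact nilradical_le_prime P
  have h1 : (P.map (Ideal.Quotient.mk (nilradical A))).IsPrime :=
    Ideal.map_isPrime_of_surjective Ideal.Quotient.mk_surjective hker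
  have h2 := hQ.2 ⟨h1, bot_le⟩ (by
    rw [Ideal.map_le_iff_le_comap]; exact hle)
  calc Q.comap (Ideal.Quotient.mk (nilradical A))
      ≤ (P.map (Ideal.Quotient.mk (nilradical A))).comap (Ideal.Quotient.mk (nilradical A)) :=
        Ideal.comap_mono h2
    _ = P := by
        rw [Ideal.comap_map_of_surjective' _ Ideal.Quotient.mk_surjective, sup_eq_left.mpr hker]

theorem numBranches_eq_one_iff : Brnch.numBranches A = 1 ↔ CAlg2.IsUnibranch A := by
  classical
  constructor
  · intro h
    unfold Brnch.numBranches at h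
    split_ifs at h with hfin
    · obtain ⟨⟨m₀⟩, hsub⟩ : Nonempty (MaximalSpectrum (CAlg2.normRed A)) ∧
          Subsingleton (MaximalSpectrum (CAlg2.normRed A)) := by
        refine ⟨?_, ENat.card_le_one_iff_subsingleton _ |>.mp h.le⟩
        by_contra hn
        rw [not_nonempty_iff] at hn
        rw [ENat.card_eq_zero_iff_empty _ |>.mpr hn] at h
        exact zero_ne_one h
      have hloc : IsLocalRing (CAlg2.normRed A) := IsLocalRing.of_unique_max_ideal
        ⟨m₀.asIdeal, m₀.isMaximal, fun I hI =>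
          congrArg MaximalSpectrum.asIdeal (Subsingleton.elim (⟨I, hI⟩ : MaximalSpectrum _) m₀)⟩
      have : IsReduced (CAlg2.red A) :=
        (Ideal.isRadical_iff_quotient_reduced _).mp (Ideal.radical_isRadical _)
      have : Nontrivial (CAlg2.red A) := Ideal.Quotient.nontrivial_iff.mpr fun h' =>
        not_isNilpotent_one (mem_nilradical.mp (h' ▸ Submodule.mem_top : (1 : A) ∈ nilradical A))
      exact ⟨isDomain_of_isLocalRing_normalization _ (minimalPrimes_red_finite A hfin), hloc⟩
    · exact absurd h (by simp)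
  · rintro ⟨h1, h2⟩
    have hfin : (minimalPrimes A).Finite := by
      refine Set.Finite.subset (Set.finite_singleton (nilradical A)) fun P hP => ?_
      have hn : (nilradical A).IsPrime := (Ideal.Quotient.isDomain_iff_prime _).mp h1
      have := Ideal.minimalPrimes_isPrime hP
      exact le_antisymm (hP.2 ⟨hn, bot_le⟩ (nilradical_le_prime P)) (nilradical_le_prime P)
    unfold Brnch.numBranches
    rw [if_pos hfin, ENat.card_eq_one_iff_unique]
    exact ⟨⟨⟨_, IsLocalRing.maximalIdeal.isMaximal _⟩⟩,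
      fun x => MaximalSpectrum.ext (IsLocalRing.eq_maximalIdeal x.isMaximal)⟩

open IsLocalRing in
/-- Embeddings of the residue field at `m'`: there is one, and only one iff it is purely inseparable. -/
theorem emb_spec (m' : MaximalSpectrum (CAlg2.normRed A)) :
    Nonempty (Brnch.Emb A m') ∧ (Subsingleton (Brnch.Emb A m') ↔
      ∀ x : CAlg2.normRed A ⧸ m'.asIdeal, ∃ n : ℕ,
        x ^ (ringExpChar (CAlg2.normRed A ⧸ m'.asIdeal)) ^ n ∈ (Brnch.toResidue A m').range) := by
  classical
  let K := CAlg2.normRed A ⧸ m'.asIdeal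
  have := m'.isMaximal
  let _ : Field K := Ideal.Quotient.field _
  have hint : (Brnch.toResidue A m').IsIntegral := by
    refine RingHom.IsIntegral.trans _ _ ?_ (RingHom.isIntegral_of_surjective _ Ideal.Quotient.mk_surjective)
    refine RingHom.IsIntegral.trans _ _ (RingHom.isIntegral_of_surjective _ Ideal.Quotient.mk_surjective) ?_
    exact fun z => Algebra.IsIntegral.isIntegral z
  have hAK : algebraMap A K = Brnch.toResidue A m' := rfl
  have : Algebra.IsIntegral A K := ⟨fun z => by show (algebraMap A K).IsIntegralElem z; rw [hAK]; exact hint z⟩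
  have hker : (⊥ : Ideal K).comap (algebraMap A K) = maximalIdeal A :=
    IsLocalRing.eq_maximalIdeal (Ideal.isMaximal_comap_of_isIntegral_of_isMaximal ⊥)
  let _ : Algebra (ResidueField A) K :=
    (Ideal.Quotient.lift (maximalIdeal A) (algebraMap A K) fun a ha => by
      rw [← hker] at ha
      exact ha).toAlgebra
  have : IsScalarTower A (ResidueField A) K := .of_algebraMap_eq fun _ => rfl
  have : Algebra.IsAlgebraic (ResidueField A) K :=
    ⟨fun z => (Algebra.IsIntegral.isIntegral (R := A) z).tower_top.isAlgebraic⟩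
  have hres : ∀ a, algebraMap (ResidueField A) K (residue A a) = Brnch.toResidue A m' a := fun _ => rfl
  let e : Brnch.Emb A m' ≃ (K →ₐ[ResidueField A] AlgebraicClosure (ResidueField A)) :=
    { toFun := fun σ =>
        { σ.1 with
          commutes' := fun c => by
            obtain ⟨a, rfl⟩ := residue_surjective c
            exact RingHom.congr_fun σ.2 a }
      invFun := fun f => ⟨f.toRingHom, RingHom.ext fun a => f.commutes (residue A a)⟩
      left_inv := fun σ => rfl
      right_inv := fun f => rfl }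
  have hne : Nonempty (K →ₐ[ResidueField A] AlgebraicClosure (ResidueField A)) := ⟨IsAlgClosed.lift⟩
  refine ⟨e.nonempty_congr.mpr hne, ?_⟩
  obtain ⟨q, hq⟩ := ExpChar.exists (ResidueField A)
  have := expChar_of_injective_ringHom (algebraMap (ResidueField A) K).injective q
  have hqe : ringExpChar K = q := ringExpChar.eq _ q
  rw [e.subsingleton_congr]
  constructor
  · intro hsub x
    have : IsPurelyInseparable (ResidueField A) K := by
      rw [isPurelyInseparable_iff_finSepDegree_eq_one,
        Field.finSepDegree_eq_of_isAlgClosed (ResidueField A) K (AlgebraicClosure (ResidueField A))]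
      exact Nat.card_eq_one_iff_unique.mpr ⟨hsub, hne⟩
    obtain ⟨n, a, ha⟩ := IsPurelyInseparable.pow_mem (ResidueField A) q x
    obtain ⟨a, rfl⟩ := residue_surjective a
    refine ⟨n, a, ?_⟩
    rw [hqe]
    exact ha
  · intro h
    have : IsPurelyInseparable (ResidueField A) K := (isPurelyInseparable_iff_pow_mem _ q).mpr fun x => by
      obtain ⟨n, a, ha⟩ := h x
      refine ⟨n, residue A a, ?_⟩
      rw [← hqe]
      exact ha
    infer_instance

theorem numGeomBranches_eq_one_iff : Brnch.numGeomBranches A = 1 ↔ CAlg2.IsGeomUnibranch A := by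
  classical
  constructor
  · intro h
    unfold Brnch.numGeomBranches at h
    split_ifs at h with hfin
    · obtain ⟨⟨⟨m₀, σ₀⟩⟩, hu⟩ := ENat.card_eq_one_iff_unique.mp h
      have hsub : ∀ m : MaximalSpectrum (CAlg2.normRed A), m = m₀ := fun m => by
        obtain ⟨σ⟩ := (emb_spec A m).1
        exact congrArg Sigma.fst (hu ⟨m, σ⟩)
      have h1 : Brnch.numBranches A = 1 := by
        unfold Brnch.numBranches
        rw [if_pos hfin, ENat.card_eq_one_iff_unique]
        exact ⟨⟨m₀⟩, hsub⟩
      refine ⟨(numBranches_eq_one_iff A).mp h1, fun m' hm' x => ?_⟩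
      refine (emb_spec A ⟨m', hm'⟩).2.mp ⟨fun σ τ => ?_⟩ x
      have h2 := (hu ⟨⟨m', hm'⟩, σ⟩).trans (hu ⟨⟨m', hm'⟩, τ⟩).symm
      exact eq_of_heq (Sigma.mk.inj h2).2
    · exact absurd h (by simp)
  · rintro ⟨hun, hp⟩
    have h1 := (numBranches_eq_one_iff A).mpr hun
    unfold Brnch.numBranches at h1
    split_ifs at h1 with hfin
    · obtain ⟨⟨m₀⟩, hsub⟩ := ENat.card_eq_one_iff_unique.mp h1
      obtain ⟨σ₀⟩ := (emb_spec A m₀).1
      have := m₀.isMaximal
      have hs : Subsingleton (Brnch.Emb A m₀) := (emb_spec A m₀).2.mpr fun x => hp m₀.asIdeal x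
      unfold Brnch.numGeomBranches
      rw [if_pos hfin, ENat.card_eq_one_iff_unique]
      refine ⟨⟨⟨m₀, σ₀⟩⟩, fun ⟨m, σ⟩ => ?_⟩
      obtain rfl := hsub m
      exact congrArg _ (Subsingleton.elim σ _)
    · exact absurd h1 (by simp)

end Groth.Hensel1
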