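import Groth.Agent.Hensel1.EtaleTransfer
import Mathlib.AlgebraicGeometry.Morphisms.Etale

/-!
# Stalk maps of étale morphisms are essentially étale
-/

set_option autoImplicit false

namespace Groth.Hensel1

open CategoryTheory AlgebraicGeometry

universe u

theorem isEssentiallyEtale_of_algEquiv {A B B' : Type u} [CommRing A] [IsLocalRing A] [CommRing B]
    [CommRing B'] [Algebra A B] [Algebra A B'] (h : EGA4loc.IsEssentiallyEtale A B) (e : B ≃ₐ[A] B') :
    EGA4loc.IsEssentiallyEtale A B' := by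
  obtain ⟨C, _, _, q, _, h1, h2, ⟨e'⟩⟩ := h
  exact ⟨C, inferInstance, inferInstance, q, inferInstance, h1, h2, ⟨e.symm.trans e'⟩⟩

/-- The stalk map of an étale morphism is local and essentially étale. -/
theorem isEssentiallyEtale_stalkMap_of_etale {X Y : Scheme.{u}} (f : X ⟶ Y) [Etale f] (x : X) :
    letI := (f.stalkMap x).hom.toAlgebra
    EGA4loc.IsEssentiallyEtale (Y.presheaf.stalk (f x)) (X.presheaf.stalk x) := by
  classical
  obtain ⟨_, ⟨V, hV, rfl⟩, hxV, -⟩ :=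
    Y.isBasis_affineOpens.exists_subset_of_mem_open (Set.mem_univ (f x)) isOpen_univ
  replace hV : IsAffineOpen V := hV
  obtain ⟨_, ⟨U, hU, rfl⟩, hxU, hUV⟩ :=
    X.isBasis_affineOpens.exists_subset_of_mem_open (show x ∈ (f ⁻¹ᵁ V : Set X) from hxV)
      (f ⁻¹ᵁ V).isOpen
  replace hU : IsAffineOpen U := hU
  have e : U ≤ f ⁻¹ᵁ V := hUV
  have het : (f.appLE V U e).hom.Etale := Etale.etale_appLE (f := f) hV hU e
  let _ := (f.appLE V U e).hom.toAlgebra
  have : Algebra.Etale Γ(Y, V) Γ(X, U) := het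
  let _ := Y.presheaf.algebra_section_stalk (⟨f x, hxV⟩ : V)
  have := hV.isLocalization_stalk ⟨f x, hxV⟩
  let _ := X.presheaf.algebra_section_stalk (⟨x, hxU⟩ : U)
  have := hU.isLocalization_stalk ⟨x, hxU⟩
  let _ := (f.stalkMap x).hom.toAlgebra
  let _ : Algebra Γ(Y, V) (X.presheaf.stalk x) :=
    (Y.presheaf.germ V (f x) hxV ≫ f.stalkMap x).hom.toAlgebra
  have : IsScalarTower Γ(Y, V) (Y.presheaf.stalk (f x)) (X.presheaf.stalk x) := .of_algebraMap_eq' rfl
  have : IsScalarTower Γ(Y, V) Γ(X, U) (X.presheaf.stalk x) := .of_algebraMap_eq' (by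
    show (Y.presheaf.germ V (f x) hxV ≫ f.stalkMap x).hom = (f.appLE V U e ≫ X.presheaf.germ U x hxU).hom
    rw [Scheme.Hom.germ_stalkMap, Scheme.Hom.appLE, Category.assoc, TopCat.Presheaf.germ_res])
  have : (hU.primeIdealOf ⟨x, hxU⟩).asIdeal.LiesOver (hV.primeIdealOf ⟨f x, hxV⟩).asIdeal :=
    ⟨(congrArg PrimeSpectrum.asIdeal (IsAffineOpen.comap_primeIdealOf_appLE V hV U hU e hxU)).symm⟩
  exact (isEssentiallyEtale_of_isLocalization Γ(Y, V) Γ(X, U) (hV.primeIdealOf ⟨f x, hxV⟩).asIdeal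
    (hU.primeIdealOf ⟨x, hxU⟩).asIdeal (Y.presheaf.stalk (f x)) (X.presheaf.stalk x)).2

/-- The stalk map at a point near which `f` is étale is essentially étale. -/
theorem isEssentiallyEtale_stalkMap {X Y : Scheme.{u}} (f : X ⟶ Y) (x : X) (U : X.Opens) (hx : x ∈ U)
    [Etale (U.ι ≫ f)] :
    letI := (f.stalkMap x).hom.toAlgebra
    EGA4loc.IsEssentiallyEtale (Y.presheaf.stalk (f x)) (X.presheaf.stalk x) := by
  let u : U.toScheme := ⟨x, hx⟩
  have h := isEssentiallyEtale_stalkMap_of_etale (U.ι ≫ f) u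
  let _ : Algebra (Y.presheaf.stalk (f x)) (U.toScheme.presheaf.stalk u) :=
    ((U.ι ≫ f).stalkMap u).hom.toAlgebra
  let _ : Algebra (Y.presheaf.stalk (f x)) (X.presheaf.stalk x) := (f.stalkMap x).hom.toAlgebra
  let ε : X.presheaf.stalk x ≃+* U.toScheme.presheaf.stalk u :=
    (asIso (U.ι.stalkMap u)).commRingCatIsoToRingEquiv
  let εₐ : X.presheaf.stalk x ≃ₐ[Y.presheaf.stalk (f x)] U.toScheme.presheaf.stalk u :=
    AlgEquiv.ofRingEquiv (f := ε) fun a => by
      show (U.ι.stalkMap u).hom ((f.stalkMap x).hom a) = ((U.ι ≫ f).stalkMap u).hom a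
      rw [Scheme.Hom.stalkMap_comp]
      rfl
  exact isEssentiallyEtale_of_algEquiv (A := Y.presheaf.stalk (f x)) h εₐ.symm

end Groth.Hensel1
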