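import Groth.Agent.Hensel1.Transfer
import Mathlib.RingTheory.Smooth.IntegralClosure
import Mathlib.RingTheory.Unramified.Field
import Mathlib.RingTheory.Polynomial.ScaleRoots
import Mathlib.RingTheory.IntegralClosure.IntegrallyClosed

/-!
# Normality of henselizations
-/

set_option autoImplicit false

namespace Groth.Hensel1

open IsLocalRing TensorProduct Polynomial

universe u

/-- `b ∣ a` whenever `a/b` would be integral. -/
def DividesOfIntegral (A : Type u) [CommRing A] : Prop :=
  ∀ (a b : A) (p : A[X]), b ≠ 0 → p.Monic → (p.scaleRoots b).eval a = 0 → b ∣ a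

theorem isIntegrallyClosed_of_dividesOfIntegral {A : Type u} [CommRing A] [IsDomain A]
    (h : DividesOfIntegral A) : IsIntegrallyClosed A := by
  refine (isIntegrallyClosed_iff (FractionRing A)).mpr fun {x} hx => ?_
  obtain ⟨a, b, hb, rfl⟩ := IsFractionRing.div_surjective (A := A) x
  obtain ⟨p, hp, hp0⟩ := hx
  have hb0 : b ≠ 0 := nonZeroDivisors.ne_zero hb
  obtain ⟨c, rfl⟩ := h a b p hb0 hp (by
    apply IsFractionRing.injective A (FractionRing A)
    have := scaleRoots_eval₂_eq_zero (algebraMap A (FractionRing A)) hp0 (s := b)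
    rw [map_zero, ← eval₂_at_apply]
    convert this using 1
    rw [mul_div_cancel₀]
    exact (map_ne_zero_iff _ (IsFractionRing.injective A _)).mpr hb0)
  exact ⟨c, by
    rw [map_mul, mul_div_cancel_left₀]
    exact (map_ne_zero_iff _ (IsFractionRing.injective A _)).mpr hb0⟩

theorem dividesOfIntegral_of_isIntegrallyClosed {A : Type u} [CommRing A] [IsDomain A]
    [IsIntegrallyClosed A] : DividesOfIntegral A := fun a b p hb hp h => by
  have hb' : algebraMap A (FractionRing A) b ≠ 0 :=
    (map_ne_zero_iff _ (IsFractionRing.injective A _)).mpr hb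
  obtain ⟨c, hc⟩ := IsIntegrallyClosed.algebraMap_eq_of_integral
    (x := algebraMap A (FractionRing A) a / algebraMap A (FractionRing A) b) ⟨p, hp, by
      have h1 : eval₂ (algebraMap A (FractionRing A)) (algebraMap A (FractionRing A) b *
        (algebraMap A (FractionRing A) a / algebraMap A (FractionRing A) b)) (p.scaleRoots b) = 0 := by
        rw [mul_div_cancel₀ _ hb', eval₂_at_apply, h, map_zero]
      rw [scaleRoots_eval₂_mul, mul_eq_zero] at h1
      exact h1.resolve_left (pow_ne_zero _ hb')⟩
  refine ⟨c, IsFractionRing.injective A (FractionRing A) ?_⟩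
  rw [map_mul, hc, mul_div_cancel₀ _ hb']

theorem isUnit_of_artinian_of_idem {A : Type u} [CommRing A] [IsArtinianRing A] [IsReduced A]
    (hA : ∀ f : A, IsIdempotentElem f → f = 0 ∨ f = 1) (t : A) (ht : t ≠ 0) : IsUnit t := by
  obtain ⟨n, y, hy⟩ := IsArtinian.exists_pow_succ_smul_dvd t (1 : A)
  rw [smul_eq_mul, smul_eq_mul, mul_one] at hy
  have hstep : ∀ m, t ^ n = t ^ (n + m) * y ^ m := fun m => by
    induction m with
    | zero => simp
    | succ m ih =>
      rw [ih]
      calc t ^ (n + m) * y ^ m = t ^ m * t ^ n * y ^ m := by ring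
        _ = t ^ m * (t ^ (n + 1) * y) * y ^ m := by rw [hy]
        _ = _ := by ring
  have hidem : IsIdempotentElem (t ^ n * y ^ n) := by
    show t ^ n * y ^ n * (t ^ n * y ^ n) = t ^ n * y ^ n
    conv_rhs => rw [hstep n]
    ring
  rcases hA _ hidem with h | h
  · exfalso
    apply ht
    have h0 : t ^ n = 0 := by rw [hstep n, pow_add, mul_assoc, h, mul_zero]
    exact IsNilpotent.eq_zero ⟨n, h0⟩
  · rcases n with _ | n
    · exact IsUnit.of_mul_eq_one y (by simpa using hy)
    · exact IsUnit.of_mul_eq_one (t ^ n * y ^ (n + 1)) (by rw [← mul_assoc, ← pow_succ', h])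

set_option maxHeartbeats 1000000 in
/-- Local rings of étale algebras over normal domains are normal domains. -/
theorem normal_obj {R : Type u} [CommRing R] [IsDomain R] [IsIntegrallyClosed R] {Ω : Type u}
    [Field Ω] [Algebra R Ω] (i : HensIdx R Ω) : IsDomain i.Obj ∧ DividesOfIntegral i.Obj := by
  let K := FractionRing R
  let L := i.Obj
  have : Algebra.FormallyEtale i.P.Ring L := Algebra.FormallyEtale.of_isLocalization i.q.primeCompl
  have : Algebra.FormallyUnramified R L := Algebra.FormallyUnramified.comp R i.P.Ring L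
  have : Algebra.EssFiniteType i.P.Ring L := .of_isLocalization _ i.q.primeCompl
  have : Algebra.EssFiniteType R L := .comp R i.P.Ring L
  have : Module.Flat i.P.Ring L := IsLocalization.flat _ i.q.primeCompl
  have : Module.Flat R L := Module.Flat.trans R i.P.Ring L
  have hbij : Function.Bijective (TensorProduct.toIntegralClosure R L K) :=
    TensorProduct.toIntegralClosure_bijective_of_tower (S := i.P.Ring)
      TensorProduct.toIntegralClosure_bijective_of_smooth
      (TensorProduct.toIntegralClosure_bijective_of_isLocalization i.q.primeCompl)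
  have hint : ∀ x : L ⊗[R] K, IsIntegral L x → ∃ l : L, l ⊗ₜ 1 = x := fun x hx => by
    obtain ⟨z, hz⟩ := hbij.2 ⟨x, hx⟩
    obtain ⟨l, hl⟩ : ∃ l : L, Algebra.TensorProduct.map (AlgHom.id L L)
        (integralClosure R K).val z = l ⊗ₜ 1 := by
      clear hz
      induction z with
      | zero => exact ⟨0, by simp⟩
      | tmul l y =>
        obtain ⟨r, hr⟩ := IsIntegrallyClosed.algebraMap_eq_of_integral y.2
        refine ⟨r • l, ?_⟩
        rw [Algebra.TensorProduct.map_tmul, AlgHom.id_apply, Subalgebra.coe_val, ← hr,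
          Algebra.algebraMap_eq_smul_one, TensorProduct.smul_tmul]
      | add z₁ z₂ h₁ h₂ =>
        obtain ⟨l₁, h₁⟩ := h₁; obtain ⟨l₂, h₂⟩ := h₂
        exact ⟨l₁ + l₂, by rw [map_add, h₁, h₂, TensorProduct.add_tmul]⟩
    refine ⟨l, ?_⟩
    rw [← hl]
    exact congr_arg Subtype.val hz
  have hinj : Function.Injective (algebraMap L (L ⊗[R] K)) :=
    Algebra.TensorProduct.includeLeft_injective (S := R) (IsFractionRing.injective R K)
  let e : K ⊗[R] L ≃+* L ⊗[R] K := (Algebra.TensorProduct.comm R K L).toRingEquiv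
  have : Module.Finite K (K ⊗[R] L) := Algebra.FormallyUnramified.finite_of_free K _
  have : IsArtinianRing (K ⊗[R] L) := isArtinian_of_tower K inferInstance
  have : IsReduced (K ⊗[R] L) := Algebra.FormallyUnramified.isReduced_of_field K _
  have : Nontrivial (L ⊗[R] K) := hinj.nontrivial
  have : IsArtinianRing (L ⊗[R] K) := e.surjective.isArtinianRing
  have : IsReduced (L ⊗[R] K) := isReduced_of_injective e.symm e.symm.injective
  have hfield : ∀ t : L ⊗[R] K, t ≠ 0 → IsUnit t := isUnit_of_artinian_of_idem fun f hf => by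
    obtain ⟨l, hl⟩ := hint f ⟨X ^ 2 - X,
      monic_X_pow_sub (n := 2) (degree_X_le.trans_lt (by norm_num)),
      by simp [pow_two, hf.eq]⟩
    have hli : IsIdempotentElem l := hinj (by
      rw [map_mul, show algebraMap L (L ⊗[R] K) l = f from hl]; exact hf)
    rcases normal_obj.isUnit_or_eq_zero_of_idempotent hli with h | h
    · exact Or.inr (by rw [← hl, h]; rfl)
    · exact Or.inl (by rw [← hl, h, TensorProduct.zero_tmul])
  have hdom : IsDomain L := by
    have : NoZeroDivisors (L ⊗[R] K) := ⟨fun {a b} hab => or_iff_not_imp_left.mpr fun ha =>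
      (hfield a ha).mul_right_eq_zero.mp hab⟩
    have : IsDomain (L ⊗[R] K) := NoZeroDivisors.to_isDomain _
    exact hinj.isDomain (algebraMap L (L ⊗[R] K))
  refine ⟨hdom, fun a b p hb hp h => ?_⟩
  have hbu : IsUnit (algebraMap L (L ⊗[R] K) b) := hfield _ ((map_ne_zero_iff _ hinj).mpr hb)
  obtain ⟨l, hl⟩ := hint (algebraMap L (L ⊗[R] K) a * ↑hbu.unit⁻¹) ⟨p, hp, by
    have h1 : eval₂ (algebraMap L (L ⊗[R] K)) (algebraMap L (L ⊗[R] K) b *
        (algebraMap L (L ⊗[R] K) a * ↑hbu.unit⁻¹)) (p.scaleRoots b) = 0 := by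
      rw [mul_left_comm, IsUnit.mul_val_inv, mul_one, eval₂_at_apply, h, map_zero]
    rw [scaleRoots_eval₂_mul] at h1
    exact (hbu.pow _).mul_right_eq_zero.mp h1⟩
  refine ⟨l, hinj ?_⟩
  rw [map_mul, show algebraMap L (L ⊗[R] K) l = l ⊗ₜ 1 from rfl, hl, mul_left_comm,
    IsUnit.mul_val_inv, mul_one]
where
  isUnit_or_eq_zero_of_idempotent {L : Type u} [CommRing L] [IsLocalRing L] {l : L}
      (h : IsIdempotentElem l) : l = 1 ∨ l = 0 := by
    rcases IsLocalRing.isUnit_or_isUnit_one_sub_self l with hu | hu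
    · exact Or.inl (hu.mul_left_cancel (by rw [h.eq, mul_one]))
    · exact Or.inr (hu.mul_right_eq_zero.mp (by rw [sub_mul, one_mul, h.eq, sub_self]))

namespace Hens

variable {R : Type u} [CommRing R] [IsDomain R] [IsIntegrallyClosed R] {Ω : Type u} [Field Ω]
  [Algebra R Ω]

theorem isDomain : IsDomain (Hens R Ω) := by
  have : NoZeroDivisors (Hens R Ω) := ⟨fun {x y} h => by
    obtain ⟨i, z, hz⟩ := exists_of_fintype ![x, y]
    have := (normal_obj i).1
    rw [show x = of i (z 0) from (hz 0).symm, show y = of i (z 1) from (hz 1).symm, ← map_mul,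
      map_eq_zero_iff _ (injective_of i)] at h
    rcases mul_eq_zero.mp h with h | h
    · left; rw [show x = of i (z 0) from (hz 0).symm, h, map_zero]
    · right; rw [show y = of i (z 1) from (hz 1).symm, h, map_zero]⟩
  exact NoZeroDivisors.to_isDomain _

theorem dividesOfIntegral : DividesOfIntegral (Hens R Ω) := fun a b p hb hp h => by
  classical
  obtain ⟨i, z, hz⟩ := exists_of_fintype
    (fun k : Option (Option (Fin p.natDegree)) => k.elim a fun k => k.elim b fun k => p.coeff k)
  obtain ⟨-, hdiv⟩ := normal_obj i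
  set q : i.Obj[X] := X ^ p.natDegree + ∑ k : Fin p.natDegree, C (z (some (some k))) * X ^ (k : ℕ)
  have hqm : q.Monic := (monic_X_pow _).add_of_left
    (lt_of_lt_of_le (degree_sum_fin_lt _) (degree_X_pow _).ge)
  have hqp : q.map (of i).toRingHom = p := by
    have hk : ∀ k, (of i).toRingHom (z (some (some k))) = p.coeff (k : ℕ) := fun k => hz _
    simp only [q, Polynomial.map_add, Polynomial.map_pow, map_X, Polynomial.map_sum,
      Polynomial.map_mul, map_C, hk]
    conv_rhs => rw [hp.as_sum, ← Fin.sum_univ_eq_sum_range (fun k => C (p.coeff k) * X ^ k)]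
  have hb' : of i (z (some none)) = b := hz _
  have ha' : of i (z none) = a := hz _
  obtain ⟨c, hc⟩ := hdiv (z none) (z (some none)) q (fun h0 => hb (by rw [← hb', h0, map_zero]))
    hqm (injective_of i (by
      have h' : ((q.map (of i).toRingHom).scaleRoots ((of i).toRingHom (z (some none)))).eval
          ((of i).toRingHom (z none)) = 0 := by
        rw [hqp]; convert h
        all_goals (first | exact ha' | exact hb')
      rw [← map_scaleRoots _ _ _ (by rw [hqm.leadingCoeff, map_one]; exact one_ne_zero),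
        eval_map_apply] at h'
      exact h'.trans (map_zero _).symm))
  exact ⟨of i c, by rw [← ha', ← hb', hc, map_mul]⟩

end Hens

theorem HensModel.normal_iff {R S : Type u} [CommRing R] [IsLocalRing R] [CommRing S]
    [IsLocalRing S] [Algebra R S] [IsLocalHom (algebraMap R S)] (M : HensModel R S) :
    (IsDomain R ∧ IsIntegrallyClosed R) ↔ (IsDomain S ∧ IsIntegrallyClosed S) := by
  refine ⟨fun ⟨_, _⟩ => ?_, fun ⟨_, _⟩ => ?_⟩
  · have := Hens.isDomain (R := R) (Ω := M.Ω)
    have := isIntegrallyClosed_of_dividesOfIntegral (Hens.dividesOfIntegral (R := R) (Ω := M.Ω))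
    have : IsDomain S := M.equiv.symm.injective.isDomain M.equiv.symm.toRingEquiv.toRingHom
    exact ⟨this, IsIntegrallyClosed.of_equiv M.equiv.toRingEquiv⟩
  · have := M.faithfullyFlat
    have hinj := FaithfulSMul.algebraMap_injective R S
    have : IsDomain R := hinj.isDomain (algebraMap R S)
    refine ⟨this, isIntegrallyClosed_of_dividesOfIntegral fun a b p hb hp h => ?_⟩
    obtain ⟨c, hc⟩ := dividesOfIntegral_of_isIntegrallyClosed (algebraMap R S a) (algebraMap R S b)
      (p.map (algebraMap R S)) ((map_ne_zero_iff _ hinj).mpr hb) (hp.map _) (by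
        rw [← map_scaleRoots _ _ _ (by rw [hp.leadingCoeff, map_one]; exact one_ne_zero),
          eval_map_apply, h, map_zero])
    rw [← Ideal.mem_span_singleton, ← Ideal.comap_map_eq_self_of_faithfullyFlat (B := S)
      (Ideal.span {b}), Ideal.mem_comap, Ideal.map_span, Set.image_singleton,
      Ideal.mem_span_singleton]
    exact ⟨c, hc⟩

end Groth.Hensel1
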