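import Groth.Agent.VarietyBC.BranchPoints
import Groth.Prelude.Def_EGA4b
import Mathlib.RingTheory.Spectrum.Prime.RingHom
import Mathlib.RingTheory.Spectrum.Maximal.Basic
import Mathlib.RingTheory.Ideal.GoingUp
import Mathlib.FieldTheory.IsAlgClosed.Basic
import Mathlib.Algebra.BigOperators.Finprod

/-!
# Branches of a local ring as sums over the minimal primes
-/

set_option autoImplicit false
universe u

open Polynomial nonZeroDivisors

namespace Groth.Hensel1

/-! ### Finite products -/

theorem card_sigma_eq_finsum {ι : Type u} [Finite ι] (β : ι → Type u) :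
    ENat.card (Σ i, β i) = ∑ᶠ i, ENat.card (β i) := by
  have := Fintype.ofFinite ι
  rw [Groth.VarietyBC.BranchPoints.card_sigma_eq_tsum, tsum_fintype, finsum_eq_sum_of_fintype]

variable {ι : Type u} (C : ι → Type u) [∀ i, CommRing (C i)]

/-- The maximal ideals of a finite product. -/
noncomputable def maximalSpectrumPi [Finite ι] :
    (Σ i, MaximalSpectrum (C i)) ≃ MaximalSpectrum (Π i, C i) :=
  Equiv.ofBijective
    (fun p => ⟨p.2.asIdeal.comap (Pi.evalRingHom C p.1),
      have := p.2.isMaximal
      Ideal.comap_isMaximal_of_surjective _ (Function.surjective_eval _)⟩)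
    ⟨fun p q h => by
      have h' := PrimeSpectrum.sigmaToPi_injective C
        (a₁ := ⟨p.1, ⟨p.2.asIdeal, p.2.isMaximal.isPrime⟩⟩)
        (a₂ := ⟨q.1, ⟨q.2.asIdeal, q.2.isMaximal.isPrime⟩⟩)
        (PrimeSpectrum.ext (congrArg MaximalSpectrum.asIdeal h :))
      obtain ⟨i, p⟩ := p
      obtain ⟨j, q⟩ := q
      obtain ⟨rfl, h''⟩ := Sigma.mk.inj h'
      exact congrArg _ (MaximalSpectrum.ext (congrArg PrimeSpectrum.asIdeal (eq_of_heq h'') :)),
    fun m => by
      obtain ⟨⟨i, p⟩, hp⟩ := (PrimeSpectrum.sigmaToPi_bijective C).2 ⟨m.asIdeal, m.isMaximal.isPrime⟩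
      have hp' : p.asIdeal.comap (Pi.evalRingHom C i) = m.asIdeal := congrArg PrimeSpectrum.asIdeal hp
      have hmax : p.asIdeal.IsMaximal := by
        have hs : Function.Surjective (Pi.evalRingHom C i) := Function.surjective_eval i
        rw [← Ideal.map_comap_of_surjective _ hs p.asIdeal, hp']
        have hm : (m.asIdeal).IsMaximal := m.isMaximal
        exact (Ideal.map_eq_top_or_isMaximal_of_surjective _ hs hm).resolve_left fun ht => by
          rw [← hp', Ideal.map_comap_of_surjective _ hs] at ht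
          exact p.isPrime.ne_top ht
      exact ⟨⟨i, ⟨p.asIdeal, hmax⟩⟩, MaximalSpectrum.ext hp'⟩⟩

/-- Ring maps from a finite product to a field factor uniquely through a projection. -/
noncomputable def ringHomPi [Finite ι] {A Ω : Type u} [CommRing A] [Field Ω]
    [∀ i, Algebra A (C i)] (τ : A →+* Ω) :
    (Σ i, {g : C i →+* Ω // g.comp (algebraMap A (C i)) = τ}) ≃
      {g : (Π i, C i) →+* Ω // g.comp (algebraMap A (Π i, C i)) = τ} :=
  Equiv.ofBijective (fun p => ⟨p.2.1.comp (Pi.evalRingHom C p.1), by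
    rw [RingHom.comp_assoc]; exact p.2.2⟩)
    ⟨fun p q h => by
      classical
      obtain ⟨i, g, hg⟩ := p
      obtain ⟨j, g', hg'⟩ := q
      have h' : g.comp (Pi.evalRingHom C i) = g'.comp (Pi.evalRingHom C j) := congrArg Subtype.val h
      obtain rfl : i = j := by
        by_contra hne
        have := RingHom.congr_fun h' (Pi.single i 1)
        simp only [RingHom.comp_apply, Pi.evalRingHom_apply, Pi.single_eq_same,
          Pi.single_eq_of_ne (Ne.symm hne), map_one, map_zero] at this
        exact one_ne_zero this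
      congr 1
      exact Subtype.ext (RingHom.ext fun x => by
        simpa using RingHom.congr_fun h' (Pi.single i x)),
    fun g => by
      obtain ⟨⟨i, p⟩, hp⟩ := (PrimeSpectrum.sigmaToPi_bijective C).2 ⟨RingHom.ker g.1, RingHom.ker_isPrime _⟩
      have hp' : p.asIdeal.comap (Pi.evalRingHom C i) = RingHom.ker g.1 := congrArg PrimeSpectrum.asIdeal hp
      have hle : RingHom.ker (Pi.evalRingHom C i) ≤ RingHom.ker g.1 :=
        hp' ▸ Ideal.comap_mono bot_le
      let s := Function.surjInv (Function.surjective_eval (β := C) i)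
      have hs : Function.RightInverse s (Pi.evalRingHom C i) := Function.surjInv_eq _
      let h : C i →+* Ω := (Pi.evalRingHom C i).liftOfRightInverse s hs ⟨g.1, hle⟩
      have hh : h.comp (Pi.evalRingHom C i) = g.1 :=
        (Pi.evalRingHom C i).liftOfRightInverse_comp s hs ⟨g.1, hle⟩
      exact ⟨⟨i, h, by rw [← g.2, ← hh, RingHom.comp_assoc]; rfl⟩, Subtype.ext hh⟩⟩

/-- Ring maps of an integral algebra to a field over a map with maximal kernel, sorted by kernel. -/
noncomputable def sigmaEmb {A B Ω : Type u} [CommRing A] [CommRing B] [Algebra A B]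
    [Algebra.IsIntegral A B] [Field Ω] (τ : A →+* Ω) (hτ : (RingHom.ker τ).IsMaximal) :
    (Σ m : MaximalSpectrum B, {σ : B ⧸ m.asIdeal →+* Ω //
        σ.comp ((Ideal.Quotient.mk m.asIdeal).comp (algebraMap A B)) = τ}) ≃
      {g : B →+* Ω // g.comp (algebraMap A B) = τ} :=
  Equiv.ofBijective (fun p => ⟨p.2.1.comp (Ideal.Quotient.mk p.1.asIdeal), by
      rw [RingHom.comp_assoc]; exact p.2.2⟩)
    ⟨fun p q h => by
      obtain ⟨m, σ, hσ⟩ := p
      obtain ⟨n, σ', hσ'⟩ := q
      have h' : σ.comp (Ideal.Quotient.mk m.asIdeal) = σ'.comp (Ideal.Quotient.mk n.asIdeal) :=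
        congrArg Subtype.val h
      have := m.isMaximal
      have := n.isMaximal
      let _ := Ideal.Quotient.field m.asIdeal
      let _ := Ideal.Quotient.field n.asIdeal
      have hk := congrArg RingHom.ker h'
      rw [← RingHom.comap_ker, ← RingHom.comap_ker, RingHom.ker_eq_bot_iff_eq_zero σ |>.mpr
          (fun x hx => σ.injective (hx.trans (map_zero σ).symm)),
        RingHom.ker_eq_bot_iff_eq_zero σ' |>.mpr
          (fun x hx => σ'.injective (hx.trans (map_zero σ').symm)),
        ← RingHom.ker_eq_comap_bot, ← RingHom.ker_eq_comap_bot, Ideal.mk_ker, Ideal.mk_ker] at hk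
      obtain rfl : m = n := MaximalSpectrum.ext hk
      congr 1
      exact Subtype.ext (Ideal.Quotient.ringHom_ext h'),
    fun g => by
      have : (RingHom.ker g.1).IsPrime := RingHom.ker_isPrime _
      have hm : (RingHom.ker g.1).IsMaximal :=
        Ideal.isMaximal_of_isIntegral_of_isMaximal_comap (R := A) _
          (by rw [RingHom.comap_ker, g.2]; exact hτ)
      exact ⟨⟨⟨RingHom.ker g.1, hm⟩, Ideal.Quotient.lift _ g.1 fun x hx => hx, by
        rw [← RingHom.comp_assoc, Ideal.Quotient.lift_comp_mk]; exact g.2⟩,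
        Subtype.ext (Ideal.Quotient.lift_comp_mk _ _ _)⟩⟩

/-! ### The normalization of a reduced ring with finitely many minimal primes -/

variable (A : Type u) [CommRing A]

instance isPrime_minimalPrime (P : minimalPrimes A) : P.1.IsPrime := P.2.1.1

/-- The normalization of `A ⧸ P`. -/
abbrev normQuot (P : minimalPrimes A) : Type u :=
  integralClosure (A ⧸ P.1) (FractionRing (A ⧸ P.1))

theorem disjoint_red (P : minimalPrimes A) (s : A)
    (hs : Ideal.Quotient.mk (nilradical A) s ∈ (CAlg2.red A)⁰) : s ∉ P.1 := fun h => by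
  have hker : RingHom.ker (Ideal.Quotient.mk (nilradical A)) ≤ P.1 := by
    rw [Ideal.mk_ker]; exact nilradical_le_prime _
  have hp : (P.1.map (Ideal.Quotient.mk (nilradical A))).IsPrime :=
    Ideal.map_isPrime_of_surjective Ideal.Quotient.mk_surjective hker
  have hmin : P.1.map (Ideal.Quotient.mk (nilradical A)) ∈ minimalPrimes (CAlg2.red A) := by
    refine ⟨⟨hp, bot_le⟩, fun Q hQ hle => ?_⟩
    have := hQ.1
    have h1 : Q.comap (Ideal.Quotient.mk (nilradical A)) ≤ P.1 := by
      refine (Ideal.comap_mono hle).trans (le_of_eq ?_)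
      rw [Ideal.comap_map_of_surjective' _ Ideal.Quotient.mk_surjective, sup_eq_left.mpr hker]
    exact Ideal.map_le_iff_le_comap.mpr (P.2.2 ⟨Ideal.IsPrime.comap _, bot_le⟩ h1)
  exact Set.disjoint_left.mp (Ideal.disjoint_nonZeroDivisors_of_mem_minimalPrimes hmin)
    (Ideal.mem_map_of_mem _ h) hs

theorem algebraMap_quot_eq_zero_iff (P : minimalPrimes A) (x : A) :
    algebraMap A (FractionRing (A ⧸ P.1)) x = 0 ↔ x ∈ P.1 := by
  rw [IsScalarTower.algebraMap_apply A (A ⧸ P.1), IsFractionRing.to_map_eq_zero_iff,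
    Ideal.Quotient.algebraMap_eq, Ideal.Quotient.eq_zero_iff_mem]

/-- The projection of the total fraction ring of `A_red` to the fraction field of `A ⧸ P`. -/
noncomputable def redProj (P : minimalPrimes A) :
    FractionRing (CAlg2.red A) →ₐ[A] FractionRing (A ⧸ P.1) :=
  { IsLocalization.lift (M := (CAlg2.red A)⁰) (S := FractionRing (CAlg2.red A))
      (g := Ideal.Quotient.lift (nilradical A) (algebraMap A (FractionRing (A ⧸ P.1)))
        fun a ha => (algebraMap_quot_eq_zero_iff A P a).mpr (nilradical_le_prime P.1 ha))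
      (fun y => by
        obtain ⟨s, hs⟩ := Ideal.Quotient.mk_surjective y.1
        refine isUnit_iff_ne_zero.mpr fun h => disjoint_red A P s (hs ▸ y.2) ?_
        rw [← hs, Ideal.Quotient.lift_mk] at h
        exact (algebraMap_quot_eq_zero_iff A P s).mp h) with
    commutes' := fun a => by
      simp only [RingHom.toMonoidHom_eq_coe, OneHom.toFun_eq_coe, MonoidHom.toOneHom_coe,
        MonoidHom.coe_coe]
      rw [IsScalarTower.algebraMap_apply A (CAlg2.red A) (FractionRing (CAlg2.red A)),
        IsLocalization.lift_eq]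
      rfl }

theorem eq_zero_of_forall_redProj (x : FractionRing (CAlg2.red A)) (h : ∀ P, redProj A P x = 0) :
    x = 0 := by
  obtain ⟨a, s, rfl⟩ := IsLocalization.exists_mk'_eq (CAlg2.red A)⁰ x
  obtain ⟨a, rfl⟩ := Ideal.Quotient.mk_surjective a
  have hx := IsLocalization.mk'_spec (FractionRing (CAlg2.red A)) (Ideal.Quotient.mk (nilradical A) a) s
  have ha : a ∈ nilradical A := by
    rw [nilradical, ← Ideal.sInf_minimalPrimes, Submodule.mem_sInf]
    intro P hP
    refine (algebraMap_quot_eq_zero_iff A ⟨P, hP⟩ a).mp ?_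
    have h1 := congrArg (redProj A ⟨P, hP⟩) hx
    rw [map_mul, h ⟨P, hP⟩, zero_mul] at h1
    rw [← (redProj A ⟨P, hP⟩).commutes a]
    exact h1.symm
  rw [Ideal.Quotient.eq_zero_iff_mem.mpr ha, IsLocalization.mk'_zero]

/-- The map from `normRed A` to the normalization of `A ⧸ P`. -/
noncomputable def normProj (P : minimalPrimes A) : CAlg2.normRed A →ₐ[A] normQuot A P :=
  { toFun := fun z => ⟨redProj A P z.1, by
      have h1 : IsIntegral A z.1 := isIntegral_trans z.1 z.2
      exact (h1.map (redProj A P)).tower_top⟩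
    map_one' := Subtype.ext (map_one _)
    map_mul' := fun _ _ => Subtype.ext (map_mul _ _ _)
    map_zero' := Subtype.ext (map_zero _)
    map_add' := fun _ _ => Subtype.ext (map_add _ _ _)
    commutes' := fun a => Subtype.ext ((redProj A P).commutes a) }

variable {A} in
theorem exists_sep (hfin : (minimalPrimes A).Finite) :
    ∃ a : minimalPrimes A → A, ∀ P Q : minimalPrimes A, a P ∈ Q.1 ↔ P ≠ Q := by
  classical
  have := hfin.to_subtype
  have := Fintype.ofFinite (minimalPrimes A)
  suffices ∀ P : minimalPrimes A, ∃ a : A, ∀ Q : minimalPrimes A, a ∈ Q.1 ↔ P ≠ Q by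
    choose a ha using this; exact ⟨a, ha⟩
  intro P
  choose b hbQ hbP using fun Q : {Q : minimalPrimes A // P ≠ Q} =>
    Set.not_subset.mp (fun h : (Q.1.1 : Set A) ⊆ P.1 => Q.2 (Subtype.ext
      (le_antisymm (P.2.2 ⟨Q.1.2.1.1, bot_le⟩ h) h)))
  refine ⟨∏ Q, b Q, fun Q => ⟨fun h hPQ => ?_, fun h => ?_⟩⟩
  · subst hPQ
    obtain ⟨Q', -, h'⟩ := ((P.2.1.1).prod_mem_iff).mp h
    exact hbP Q' h'
  · exact Ideal.mem_of_dvd _ (Finset.dvd_prod_of_mem b (Finset.mem_univ ⟨Q, h⟩)) (hbQ ⟨Q, h⟩)

variable {A} in
theorem mk_mem_nonZeroDivisors {t : A} (ht : ∀ P ∈ minimalPrimes A, t ∉ P) :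
    Ideal.Quotient.mk (nilradical A) t ∈ (CAlg2.red A)⁰ := by
  rw [mem_nonZeroDivisors_iff_right]
  intro x hx
  obtain ⟨x, rfl⟩ := Ideal.Quotient.mk_surjective x
  rw [← map_mul, Ideal.Quotient.eq_zero_iff_mem] at hx
  refine Ideal.Quotient.eq_zero_iff_mem.mpr ?_
  rw [nilradical, ← Ideal.sInf_minimalPrimes, Submodule.mem_sInf]
  intro P hP
  exact (hP.1.1.mem_or_mem ((@nilradical_le_prime _ _ P hP.1.1) hx)).resolve_right (ht P hP)

variable {A} in
/-- `normRed A` is the product of the normalizations of the `A ⧸ P`. -/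
theorem normProj_bijective (hfin : (minimalPrimes A).Finite) :
    Function.Bijective (fun z P => normProj A P z : CAlg2.normRed A → Π P, normQuot A P) := by
  classical
  have := hfin.to_subtype
  have := Fintype.ofFinite (minimalPrimes A)
  refine ⟨fun z w h => Subtype.ext (sub_eq_zero.mp (eq_zero_of_forall_redProj A _ fun P => ?_)), ?_⟩
  · rw [map_sub, sub_eq_zero]
    exact congrArg Subtype.val (congrFun h P)
  intro z
  obtain ⟨a, ha⟩ := exists_sep hfin
  choose x y hy hxy using fun P =>
    IsFractionRing.div_surjective (A := A ⧸ P.1) (z P : FractionRing (A ⧸ P.1))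
  choose x' hx' using fun P => Ideal.Quotient.mk_surjective (x P)
  choose y' hy' using fun P => Ideal.Quotient.mk_surjective (y P)
  have hyP : ∀ P : minimalPrimes A, y' P ∉ P.1 := fun P h =>
    nonZeroDivisors.ne_zero (hy P) (by rw [← hy']; exact Ideal.Quotient.eq_zero_iff_mem.mpr h)
  let t := ∑ P, a P * y' P
  have hsum : ∀ (f : minimalPrimes A → A) (Q : minimalPrimes A),
      algebraMap A (FractionRing (A ⧸ Q.1)) (∑ P, a P * f P) =
        algebraMap A _ (a Q) * algebraMap A _ (f Q) := fun f Q => by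
    rw [map_sum, Finset.sum_eq_single Q, map_mul]
    · intro P _ hP
      rw [map_mul, (algebraMap_quot_eq_zero_iff A Q _).mpr ((ha P Q).mpr hP), zero_mul]
    · simp
  have hne : ∀ Q : minimalPrimes A, algebraMap A (FractionRing (A ⧸ Q.1)) (a Q) ≠ 0 := fun Q h =>
    (ha Q Q).mp ((algebraMap_quot_eq_zero_iff A Q _).mp h) rfl
  have hney : ∀ Q : minimalPrimes A, algebraMap A (FractionRing (A ⧸ Q.1)) (y' Q) ≠ 0 := fun Q h =>
    hyP Q ((algebraMap_quot_eq_zero_iff A Q _).mp h)
  have ht' : ∀ Q : minimalPrimes A, t ∉ Q.1 := fun Q h => by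
    have := (algebraMap_quot_eq_zero_iff A Q t).mpr h
    rw [hsum] at this
    exact (mul_eq_zero.mp this).elim (hne _) (hney _)
  have ht : ∀ Q ∈ minimalPrimes A, t ∉ Q := fun Q hQ => ht' ⟨Q, hQ⟩
  let w : FractionRing (CAlg2.red A) := IsLocalization.mk' _
    (Ideal.Quotient.mk (nilradical A) (∑ P, a P * x' P)) ⟨_, mk_mem_nonZeroDivisors ht⟩
  have hw : ∀ Q, redProj A Q w = z Q := fun Q => by
    have h := congrArg (redProj A Q) (IsLocalization.mk'_spec (FractionRing (CAlg2.red A))
      (Ideal.Quotient.mk (nilradical A) (∑ P, a P * x' P)) ⟨_, mk_mem_nonZeroDivisors ht⟩)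
    have h' : redProj A Q w * algebraMap A _ t = algebraMap A _ (∑ P, a P * x' P) := by
      rw [← (redProj A Q).commutes t, ← map_mul, ← (redProj A Q).commutes (∑ P, a P * x' P)]
      exact h
    rw [hsum, hsum] at h'
    rw [← hxy Q, ← hx', ← hy']
    change _ = algebraMap A (FractionRing (A ⧸ Q.1)) (x' Q) / algebraMap A _ (y' Q)
    rw [eq_div_iff (hney Q)]
    exact mul_left_cancel₀ (hne Q) (by linear_combination h')
  have hint : IsIntegral A w := by
    have hz : ∀ P, IsIntegral A (z P : FractionRing (A ⧸ P.1)) := fun P =>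
      isIntegral_trans _ (z P).2
    choose F hF hFz using hz
    refine ⟨∏ P, F P, monic_prod_of_monic _ _ fun P _ => hF P, ?_⟩
    rw [← aeval_def]
    refine eq_zero_of_forall_redProj A _ fun Q => ?_
    rw [← aeval_algHom_apply, hw, map_prod]
    exact Finset.prod_eq_zero (Finset.mem_univ Q) (by rw [aeval_def]; exact hFz Q)
  exact ⟨⟨w, hint.tower_top⟩, funext fun Q => Subtype.ext (hw Q)⟩

/-- `normRed A` is the product of the normalizations of the `A ⧸ P`. -/
noncomputable def normRedEquivPi (hfin : (minimalPrimes A).Finite) :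
    CAlg2.normRed A ≃ₐ[A] Π P, normQuot A P :=
  AlgEquiv.ofBijective (AlgHom.pi fun P => normProj A P) (normProj_bijective hfin)

/-! ### The sums -/

theorem numBranches_eq_finsum [IsLocalRing A] (hfin : (minimalPrimes A).Finite) :
    Brnch.numBranches A = ∑ᶠ P : minimalPrimes A, Brnch.numBranches (A ⧸ P.1) := by
  classical
  have := hfin.to_subtype
  have hP : ∀ P : minimalPrimes A,
      Brnch.numBranches (A ⧸ P.1) = ENat.card (MaximalSpectrum (normQuot A P)) := fun P =>
    (Groth.VarietyBC.BranchPoints.branches_eq (A ⧸ P.1) (FractionRing (A ⧸ P.1))).1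
  simp only [hP]
  rw [Brnch.numBranches, if_pos hfin, ← card_sigma_eq_finsum]
  let e := (normRedEquivPi A hfin).toRingEquiv
  refine ENat.card_congr (Equiv.trans
    { toFun := fun m => ⟨m.asIdeal.map e.toRingHom, Ideal.map_isMaximal_of_equiv e⟩
      invFun := fun m => ⟨m.asIdeal.map e.symm.toRingHom, Ideal.map_isMaximal_of_equiv e.symm⟩
      left_inv := fun m => MaximalSpectrum.ext (by simp [Ideal.map_map])
      right_inv := fun m => MaximalSpectrum.ext (by simp [Ideal.map_map]) }
    (maximalSpectrumPi fun P => normQuot A P).symm)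

theorem ker_toClosure [IsLocalRing A] :
    RingHom.ker (Brnch.toClosure A) = IsLocalRing.maximalIdeal A := by
  ext a
  rw [RingHom.mem_ker, Brnch.toClosure, RingHom.comp_apply, map_eq_zero_iff _ (RingHom.injective _),
    IsLocalRing.residue_eq_zero_iff]

/-- The geometric branches are the embeddings of `normRed A` over the residue map. -/
theorem numGeomBranches_eq_card_hom [IsLocalRing A] (hfin : (minimalPrimes A).Finite) :
    Brnch.numGeomBranches A = ENat.card {g : CAlg2.normRed A →+* AlgebraicClosure (IsLocalRing.ResidueField A) //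
      g.comp (algebraMap A (CAlg2.normRed A)) = Brnch.toClosure A} := by
  classical
  rw [Brnch.numGeomBranches, if_pos hfin]
  have : Algebra.IsIntegral A (CAlg2.normRed A) := Algebra.IsIntegral.trans (CAlg2.red A)
  refine ENat.card_congr (sigmaEmb (A := A) (B := CAlg2.normRed A) (Brnch.toClosure A) ?_)
  rw [ker_toClosure]
  exact IsLocalRing.maximalIdeal.isMaximal A

set_option synthInstance.maxHeartbeats 200000 in
set_option maxHeartbeats 1000000 in
theorem numGeomBranches_quot_eq_card_hom [IsLocalRing A] (P : minimalPrimes A) :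
    Brnch.numGeomBranches (A ⧸ P.1) =
      ENat.card {g : normQuot A P →+* AlgebraicClosure (IsLocalRing.ResidueField A) //
        g.comp (algebraMap A (normQuot A P)) = Brnch.toClosure A} := by
  classical
  rw [(Groth.VarietyBC.BranchPoints.branches_eq (A ⧸ P.1) (FractionRing (A ⧸ P.1))).2]
  have hloc : IsLocalHom (Ideal.Quotient.mk P.1) :=
    IsLocalHom.of_surjective _ Ideal.Quotient.mk_surjective
  let e : IsLocalRing.ResidueField A ≃+* IsLocalRing.ResidueField (A ⧸ P.1) :=
    RingEquiv.ofBijective (IsLocalRing.ResidueField.map (Ideal.Quotient.mk P.1))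
      ⟨RingHom.injective _, fun z => by
        obtain ⟨w, rfl⟩ := IsLocalRing.residue_surjective z
        obtain ⟨a, rfl⟩ := Ideal.Quotient.mk_surjective w
        exact ⟨IsLocalRing.residue A a, rfl⟩⟩
  let θ := IsAlgClosure.equivOfEquiv (AlgebraicClosure (IsLocalRing.ResidueField A))
    (AlgebraicClosure (IsLocalRing.ResidueField (A ⧸ P.1))) e
  have hθ : ∀ a, θ (Brnch.toClosure A a) = Brnch.toClosure (A ⧸ P.1) (Ideal.Quotient.mk P.1 a) := fun a =>
    IsAlgClosure.equivOfEquiv_algebraMap _ _ e _
  refine (ENat.card_congr (sigmaEmb (A := A ⧸ P.1) (B := normQuot A P) (Brnch.toClosure (A ⧸ P.1))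
    (by rw [ker_toClosure]; exact IsLocalRing.maximalIdeal.isMaximal _))).trans (ENat.card_congr ?_)
  refine
    { toFun := fun g => ⟨θ.symm.toRingHom.comp g.1, RingHom.ext fun a => ?_⟩
      invFun := fun g => ⟨θ.toRingHom.comp g.1, Ideal.Quotient.ringHom_ext (RingHom.ext fun a => ?_)⟩
      left_inv := fun g => Subtype.ext (RingHom.ext fun z => θ.apply_symm_apply _)
      right_inv := fun g => Subtype.ext (RingHom.ext fun z => θ.symm_apply_apply _) }
  · apply θ.injective
    show θ (θ.symm _) = θ _
    rw [θ.apply_symm_apply, hθ]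
    exact RingHom.congr_fun g.2 (Ideal.Quotient.mk P.1 a)
  · show θ (g.1 (algebraMap A (normQuot A P) a)) = _
    rw [show g.1 (algebraMap A (normQuot A P) a) = Brnch.toClosure A a from RingHom.congr_fun g.2 a, hθ]
    rfl

theorem numGeomBranches_eq_finsum [IsLocalRing A] (hfin : (minimalPrimes A).Finite) :
    Brnch.numGeomBranches A = ∑ᶠ P : minimalPrimes A, Brnch.numGeomBranches (A ⧸ P.1) := by
  classical
  have := hfin.to_subtype
  simp only [numGeomBranches_quot_eq_card_hom A]
  rw [numGeomBranches_eq_card_hom A hfin, ← card_sigma_eq_finsum]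
  let e := normRedEquivPi A hfin
  refine ENat.card_congr (Equiv.trans ?_ (ringHomPi (fun P => normQuot A P) (Brnch.toClosure A)).symm)
  exact
    { toFun := fun g => ⟨g.1.comp e.symm.toRingEquiv.toRingHom, RingHom.ext fun a => by
        show g.1 (e.symm (algebraMap A _ a)) = _
        rw [AlgEquiv.commutes]; exact RingHom.congr_fun g.2 a⟩
      invFun := fun g => ⟨g.1.comp e.toRingEquiv.toRingHom, RingHom.ext fun a => by
        show g.1 (e (algebraMap A _ a)) = _
        rw [AlgEquiv.commutes]; exact RingHom.congr_fun g.2 a⟩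
      left_inv := fun g => Subtype.ext (RingHom.ext fun z => congrArg g.1 (e.symm_apply_apply z))
      right_inv := fun g => Subtype.ext (RingHom.ext fun z => congrArg g.1 (e.apply_symm_apply z)) }

end Groth.Hensel1
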