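import Groth.Agent.Hensel1.Transfer
import Mathlib.RingTheory.Artinian.Module
import Mathlib.RingTheory.HopkinsLevitzki
import Mathlib.RingTheory.Unramified.Field
import Mathlib.RingTheory.EssentialFiniteness
import Mathlib.RingTheory.LocalRing.ResidueField.Fiber
import Mathlib.LinearAlgebra.TensorProduct.Tower
import Mathlib.RingTheory.IntegralClosure.IntegrallyClosed

/-!
# Fibres of henselizations
-/

set_option autoImplicit false

namespace Groth.Hensel1

open IsLocalRing TensorProduct HensIdx

universe u

theorem Algebra.isSeparable_of_range_unramified {k N L : Type u} [Field k] [CommRing N] [Field L]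
    [Algebra k N] [Algebra k L] [Algebra.FormallyUnramified k N] [Algebra.EssFiniteType k N]
    (g : N →ₐ[k] L) (x : N) : IsSeparable k (g x) := by
  have : Module.Finite k N := Algebra.FormallyUnramified.finite_of_free k N
  have : IsArtinianRing N := isArtinian_of_tower k inferInstance
  have : (RingHom.ker g.toRingHom).IsPrime := RingHom.ker_isPrime _
  have hmax : (RingHom.ker g.toRingHom).IsMaximal := Ideal.IsPrime.isMaximal' ‹_›
  let _ : Field (N ⧸ RingHom.ker g.toRingHom) := Ideal.Quotient.field _
  have : Algebra.FormallyUnramified k (N ⧸ RingHom.ker g.toRingHom) :=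
    Algebra.FormallyUnramified.comp k N _
  have : Algebra.IsSeparable k (N ⧸ RingHom.ker g.toRingHom) :=
    Algebra.FormallyUnramified.isSeparable _ _
  let g' : (N ⧸ RingHom.ker g.toRingHom) →ₐ[k] L :=
    Ideal.Quotient.liftₐ _ g fun a ha => ha
  exact IsSeparable.map g' (x := Ideal.Quotient.mk _ x) (RingHom.injective g'.toRingHom) (Algebra.IsSeparable.isSeparable k _)

variable {R : Type u} [CommRing R]

/-- A ring over a field covered by unramified algebras injecting into it splits into separable
field extensions, if Noetherian. -/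
theorem exists_equiv_pi_separable {k T : Type u} [Field k] [CommRing T] [Algebra k T]
    [IsNoetherianRing T]
    (h : ∀ x : T, ∃ (N : Type u) (_ : CommRing N) (_ : Algebra k N)
      (_ : Algebra.FormallyUnramified k N) (_ : Algebra.EssFiniteType k N) (f : N →ₐ[k] T)
      (y : N), Function.Injective f ∧ f y = x) :
    ∃ (n : ℕ) (K : Fin n → Type u) (_ : ∀ i, Field (K i)) (_ : ∀ i, Algebra k (K i)),
      (∀ i, Algebra.IsSeparable k (K i)) ∧ Nonempty (T ≃ₐ[k] (Π i, K i)) := by
  classical
  have : IsReduced T := ⟨fun x hx => by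
    obtain ⟨N, _, _, _, _, f, y, hf, rfl⟩ := h x
    have : IsReduced N := Algebra.FormallyUnramified.isReduced_of_field k N
    rw [((IsNilpotent.map_iff hf).mp hx).eq_zero, map_zero]⟩
  have : Algebra.IsIntegral k T := ⟨fun x => by
    obtain ⟨N, _, _, _, _, f, y, hf, rfl⟩ := h x
    have : Module.Finite k N := Algebra.FormallyUnramified.finite_of_free k N
    exact (Algebra.IsIntegral.isIntegral y).map f⟩
  have : IsArtinianRing T :=
    isArtinianRing_iff_isNoetherianRing_krullDimLE_zero.mpr ⟨inferInstance,
      Ring.krullDimLE_zero_iff.mpr fun P hP => Ideal.isMaximal_of_isIntegral_of_isMaximal_comap (R := k) P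
        (by
          rw [show P.comap (algebraMap k T) = ⊥ from
            ((Ideal.eq_bot_or_top _).resolve_right (Ideal.comap_ne_top _ hP.ne_top))]
          exact Ideal.bot_isMaximal)⟩
  let σ := Fintype.ofFinite (MaximalSpectrum T)
  let ε := (Fintype.equivFin (MaximalSpectrum T)).symm
  refine ⟨_, fun i => T ⧸ (ε i).asIdeal, fun i => Ideal.Quotient.field _, fun i => inferInstance,
    fun i => ⟨fun z => ?_⟩,
    ⟨((IsArtinianRing.equivPi T).restrictScalars k).trans
      (AlgEquiv.piCongrLeft' k (fun I : MaximalSpectrum T => T ⧸ I.asIdeal) ε.symm)⟩⟩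
  obtain ⟨x, rfl⟩ := Ideal.Quotient.mk_surjective z
  obtain ⟨N, _, _, _, _, f, y, -, rfl⟩ := h x
  let _ : Field (T ⧸ (ε i).asIdeal) := Ideal.Quotient.field _
  exact Algebra.isSeparable_of_range_unramified
    ((Ideal.Quotient.mkₐ k (ε i).asIdeal).comp f) y

theorem Hens.exists_fibre_rep {Ω : Type u} [Field Ω] [Algebra R Ω] (K : Type u) [CommRing K]
    [Algebra R K] (x : K ⊗[R] Hens R Ω) :
    ∃ (i : HensIdx R Ω) (y : K ⊗[R] i.Obj),
      Algebra.TensorProduct.map (AlgHom.id K K) (Hens.of i) y = x := by
  classical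
  induction x with
  | zero => exact ⟨⟨Classical.arbitrary (HensIdx R Ω) |>.P, _, (Classical.arbitrary (HensIdx R Ω)).hx⟩,
      0, map_zero _⟩
  | tmul a b =>
    obtain ⟨i, z, rfl⟩ := Hens.exists_of b
    exact ⟨i, a ⊗ₜ z, by simp⟩
  | add x y hx hy =>
    obtain ⟨i, a, rfl⟩ := hx
    obtain ⟨j, b, rfl⟩ := hy
    obtain ⟨k, hik, hjk⟩ := exists_ge_ge i j
    refine ⟨k, Algebra.TensorProduct.map (AlgHom.id K K) (tr i k hik) a +
      Algebra.TensorProduct.map (AlgHom.id K K) (tr j k hjk) b, ?_⟩
    have e : ∀ (i : HensIdx R Ω) (h : i ≤ k) (a : K ⊗[R] i.Obj),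
        Algebra.TensorProduct.map (AlgHom.id K K) (Hens.of k)
          (Algebra.TensorProduct.map (AlgHom.id K K) (tr i k h) a) =
        Algebra.TensorProduct.map (AlgHom.id K K) (Hens.of i) a := by
      intro i h a
      induction a with
      | zero => simp
      | tmul c d => simp [Hens.of_tr]
      | add a b ha hb => simp only [map_add, ha, hb]
    rw [map_add, e, e]

theorem Hens.injective_map_of {Ω : Type u} [Field Ω] [Algebra R Ω] (K : Type u) [CommRing K]
    [Algebra R K] (i : HensIdx R Ω) :
    Function.Injective (Algebra.TensorProduct.map (AlgHom.id K K) (Hens.of i)) := by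
  have hff := Hens.faithfullyFlat_of i
  let := (Hens.of i).toRingHom.toAlgebra
  have : IsScalarTower R i.Obj (Hens R Ω) :=
    IsScalarTower.of_algebraMap_eq fun r => ((Hens.of i).commutes r).symm
  have : Module.FaithfullyFlat i.Obj (Hens R Ω) := hff
  let e := TensorProduct.AlgebraTensorModule.cancelBaseChange R i.Obj (Hens R Ω) (Hens R Ω) K
  have h1 : Function.Injective (fun z : i.Obj ⊗[R] K => e ((1 : Hens R Ω) ⊗ₜ[i.Obj] z)) :=
    e.injective.comp (Module.FaithfullyFlat.tensorProduct_mk_injective (A := i.Obj) (B := Hens R Ω)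
      (i.Obj ⊗[R] K))
  have h2 : ∀ z, Algebra.TensorProduct.map (AlgHom.id K K) (Hens.of i) z =
      TensorProduct.comm R (Hens R Ω) K (e ((1 : Hens R Ω) ⊗ₜ[i.Obj]
        (TensorProduct.comm R K i.Obj z))) := by
    intro z
    induction z with
    | zero => simp
    | tmul a b => simp [e, Algebra.smul_def, RingHom.algebraMap_toAlgebra]
    | add a b ha hb => simp only [map_add, TensorProduct.tmul_add, ha, hb]
  intro z w hzw
  rw [h2, h2] at hzw
  exact (TensorProduct.comm R K i.Obj).injective (h1 ((TensorProduct.comm R _ _).injective hzw))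

theorem HensModel.fibre_equiv_pi_separable {R S : Type u} [CommRing R] [IsLocalRing R]
    [IsNoetherianRing R] [CommRing S] [IsLocalRing S] [Algebra R S] [IsLocalHom (algebraMap R S)]
    (M : HensModel R S) (p : Ideal R) [p.IsPrime] :
    ∃ (n : ℕ) (K : Fin n → Type u) (_ : ∀ i, Field (K i)) (_ : ∀ i, Algebra p.ResidueField (K i)),
      (∀ i, Algebra.IsSeparable p.ResidueField (K i)) ∧
      Nonempty ((p.ResidueField ⊗[R] S) ≃ₐ[p.ResidueField] (Π i, K i)) := by
  have := M.isNoetherianRing_iff.mp inferInstance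
  have : Algebra.EssFiniteType R (p.ResidueField) := inferInstance
  have : IsNoetherianRing (S ⊗[R] p.ResidueField) :=
    Algebra.EssFiniteType.isNoetherianRing S _
  have : IsNoetherianRing (p.ResidueField ⊗[R] S) :=
    isNoetherianRing_of_ringEquiv _ (Algebra.TensorProduct.comm R S p.ResidueField).toRingEquiv
  refine exists_equiv_pi_separable fun x => ?_
  let E := Algebra.TensorProduct.congr (AlgEquiv.refl (R := p.ResidueField) (A₁ := p.ResidueField))
    M.equiv
  obtain ⟨i, y, hy⟩ := Hens.exists_fibre_rep p.ResidueField (E.symm x)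
  have : Algebra.FormallyEtale i.P.Ring i.Obj := .of_isLocalization i.q.primeCompl
  have : Algebra.FormallyUnramified R i.Obj := Algebra.FormallyUnramified.comp R i.P.Ring _
  have : Algebra.EssFiniteType i.P.Ring i.Obj := .of_isLocalization _ i.q.primeCompl
  have : Algebra.EssFiniteType R i.Obj := .comp R i.P.Ring _
  refine ⟨p.ResidueField ⊗[R] i.Obj, inferInstance, inferInstance, inferInstance, inferInstance,
    E.toAlgHom.comp (Algebra.TensorProduct.map (AlgHom.id _ _) (Hens.of i)), y,
    E.injective.comp (Hens.injective_map_of _ i), ?_⟩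
  show E (Algebra.TensorProduct.map (AlgHom.id _ _) (Hens.of i) y) = x
  rw [hy, E.apply_symm_apply]

end Groth.Hensel1
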