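import Groth.Agent.Hensel1.UnibranchCriterion
import Groth.Agent.Hensel1.Fibres
import Groth.Agent.Hensel1.BranchSum
import Groth.Agent.EtaleBase.EtaleLocalAlg
import Mathlib.RingTheory.Ideal.GoingDown
import Mathlib.FieldTheory.PurelyInseparable.Basic

/-!
# Minimal primes of (strict) henselizations and branches
-/

set_option autoImplicit false

namespace Groth.Hensel1

open IsLocalRing
open scoped TensorProduct

universe u

/-- `T` localized at every prime is a domain, stated without localizations. -/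
def LocallyDomain (T : Type u) [CommRing T] : Prop :=
  ∀ n : Ideal T, n.IsPrime → ∀ x y t : T, t ∉ n → t * (x * y) = 0 → ∃ s ∉ n, s * x = 0 ∨ s * y = 0

set_option maxHeartbeats 1000000 in
/-- A henselization tensored with a normal domain is locally a domain. -/
theorem Hens.locallyDomain_tensor {R : Type u} [CommRing R] {Ω : Type u} [Field Ω] [Algebra R Ω]
    (B : Type u) [CommRing B] [IsDomain B] [IsIntegrallyClosed B] [Algebra R B] :
    LocallyDomain (B ⊗[R] Hens R Ω) := by
  intro n hn x y t ht h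
  classical
  obtain ⟨i₁, x₁, hx₁⟩ := Hens.exists_fibre_rep B x
  obtain ⟨i₂, y₁, hy₁⟩ := Hens.exists_fibre_rep B y
  obtain ⟨i₃, t₁, ht₁⟩ := Hens.exists_fibre_rep B t
  obtain ⟨k₀, h₁, h₂⟩ := exists_ge_ge i₁ i₂
  obtain ⟨i, h₀, h₃⟩ := exists_ge_ge k₀ i₃
  let φ : B ⊗[R] i.Obj →ₐ[B] B ⊗[R] Hens R Ω := Algebra.TensorProduct.map (AlgHom.id B B) (Hens.of i)
  have up : ∀ (j : HensIdx R Ω) (hj : j ≤ i) (a : B ⊗[R] j.Obj),
      φ (Algebra.TensorProduct.map (AlgHom.id B B) (HensIdx.tr j i hj) a) =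
        Algebra.TensorProduct.map (AlgHom.id B B) (Hens.of j) a := by
    intro j hj a
    induction a with
    | zero => simp
    | tmul c d => simp [φ, Hens.of_tr]
    | add a b ha hb => simp only [map_add, ha, hb]
  obtain ⟨x', hx'⟩ : ∃ a, φ a = x := ⟨_, (up i₁ (h₁.trans h₀) x₁).trans hx₁⟩
  obtain ⟨y', hy'⟩ : ∃ a, φ a = y := ⟨_, (up i₂ (h₂.trans h₀) y₁).trans hy₁⟩
  obtain ⟨t', ht'⟩ : ∃ a, φ a = t := ⟨_, (up i₃ h₃ t₁).trans ht₁⟩
  let ρ : (B ⊗[R] i.P.Ring) →ₐ[B] B ⊗[R] i.Obj :=
    Algebra.TensorProduct.map (AlgHom.id B B) (IsScalarTower.toAlgHom R i.P.Ring i.Obj)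
  have rep : ∀ z : B ⊗[R] i.Obj, ∃ (d : i.q.primeCompl) (a : (B ⊗[R] i.P.Ring)),
      (1 ⊗ₜ algebraMap i.P.Ring i.Obj d) * z = ρ a := by
    intro z
    induction z with
    | zero => exact ⟨1, 0, by simp⟩
    | tmul b c =>
      obtain ⟨⟨p, d⟩, hc⟩ := IsLocalization.surj i.q.primeCompl c
      exact ⟨d, b ⊗ₜ p, by simp [ρ, ← hc, mul_comm]⟩
    | add z₁ z₂ hz₁ hz₂ =>
      obtain ⟨d₁, a₁, e₁⟩ := hz₁
      obtain ⟨d₂, a₂, e₂⟩ := hz₂
      refine ⟨d₁ * d₂, (1 ⊗ₜ (d₂ : i.P.Ring)) * a₁ + (1 ⊗ₜ (d₁ : i.P.Ring)) * a₂, ?_⟩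
      rw [map_add, map_mul, map_mul, ← e₁, ← e₂, mul_add, Submonoid.coe_mul, map_mul]
      simp only [ρ, Algebra.TensorProduct.map_tmul, map_one, IsScalarTower.coe_toAlgHom']
      rw [show (1 : B) ⊗ₜ[R] (algebraMap i.P.Ring i.Obj ↑d₁ * algebraMap i.P.Ring i.Obj ↑d₂) =
        (1 ⊗ₜ algebraMap i.P.Ring i.Obj d₁) * (1 ⊗ₜ algebraMap i.P.Ring i.Obj d₂) by simp]
      ring
  let ψ : (B ⊗[R] i.P.Ring) →+* B ⊗[R] Hens R Ω := φ.toRingHom.comp ρ.toRingHom
  let w : Ideal (B ⊗[R] i.P.Ring) := n.comap ψ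
  have : w.IsPrime := Ideal.IsPrime.comap _
  let L := Localization.AtPrime w
  obtain ⟨_, -⟩ := Groth.EtaleBase.isNormalDomain_of_etale_atPrime B (B ⊗[R] i.P.Ring) L w
  have hunit : ∀ d : i.q.primeCompl, IsUnit ((1 : B) ⊗ₜ[R] algebraMap i.P.Ring i.Obj d) := fun d =>
    (IsLocalization.map_units i.Obj d).map (Algebra.TensorProduct.includeRight : i.Obj →ₐ[R] B ⊗[R] i.Obj)
  let γ : i.P.Ring →+* L := (algebraMap (B ⊗[R] i.P.Ring) L).comp Algebra.TensorProduct.includeRight.toRingHom
  have hγ : ∀ d : i.q.primeCompl, IsUnit (γ d) := fun d => by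
    refine (IsLocalization.AtPrime.isUnit_to_map_iff L w _).mpr fun hd => ?_
    exact hn.ne_top (Ideal.eq_top_of_isUnit_mem _ hd (by
      show IsUnit (φ (ρ ((1 : B) ⊗ₜ[R] (d : i.P.Ring))))
      exact (by simpa [ρ] using hunit d : IsUnit (ρ ((1 : B) ⊗ₜ[R] (d : i.P.Ring)))).map φ))
  let γ' : i.Obj →ₐ[R] L :=
    { IsLocalization.lift (M := i.q.primeCompl) hγ with
      commutes' := fun r => by
        show IsLocalization.lift (M := i.q.primeCompl) hγ (algebraMap R i.Obj r) = _
        rw [IsScalarTower.algebraMap_apply R i.P.Ring i.Obj, IsLocalization.lift_eq,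
          IsScalarTower.algebraMap_apply R (B ⊗[R] i.P.Ring) L]
        exact congrArg (algebraMap (B ⊗[R] i.P.Ring) L) (Algebra.TensorProduct.includeRight.commutes r) }
  let Ψ : B ⊗[R] i.Obj →ₐ[B] L :=
    Algebra.TensorProduct.lift (Algebra.ofId B L) γ' fun _ _ => Commute.all _ _
  have hΨ : ∀ a, Ψ (ρ a) = algebraMap (B ⊗[R] i.P.Ring) L a := by
    intro a
    induction a with
    | zero => simp
    | tmul b p =>
      rw [show (b ⊗ₜ[R] p : (B ⊗[R] i.P.Ring)) = algebraMap B (B ⊗[R] i.P.Ring) b * (1 ⊗ₜ p) by simp, map_mul, map_mul, map_mul,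
        AlgHom.commutes, AlgHom.commutes, ← IsScalarTower.algebraMap_apply]
      congr 1
      simp only [Ψ, ρ, Algebra.TensorProduct.map_tmul, map_one, IsScalarTower.coe_toAlgHom',
        Algebra.TensorProduct.lift_tmul, one_mul]
      exact IsLocalization.lift_eq hγ p
    | add a b ha hb => simp only [map_add, ha, hb]
  have h0 : t' * (x' * y') = 0 := Hens.injective_map_of B i (by
    show φ _ = φ 0
    rw [map_mul, map_mul, hx', hy', ht', h, map_zero])
  obtain ⟨dt, at', et⟩ := rep t'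
  obtain ⟨dx, ax, ex⟩ := rep x'
  obtain ⟨dy, ay, ey⟩ := rep y'
  have hL : algebraMap (B ⊗[R] i.P.Ring) L at' * (algebraMap (B ⊗[R] i.P.Ring) L ax * algebraMap (B ⊗[R] i.P.Ring) L ay) = 0 := by
    rw [← map_mul, ← map_mul, ← hΨ, map_mul ρ, map_mul ρ, ← et, ← ex, ← ey,
      show (1 ⊗ₜ algebraMap i.P.Ring i.Obj dt) * t' * ((1 ⊗ₜ algebraMap i.P.Ring i.Obj dx) * x' *
        ((1 ⊗ₜ algebraMap i.P.Ring i.Obj dy) * y')) =
        ((1 ⊗ₜ algebraMap i.P.Ring i.Obj dt) * (1 ⊗ₜ algebraMap i.P.Ring i.Obj dx) *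
          (1 ⊗ₜ algebraMap i.P.Ring i.Obj dy)) * (t' * (x' * y')) by ring, h0, mul_zero, map_zero]
  have hat : at' ∉ w := fun hmem => ht (by
    have : φ ((1 ⊗ₜ algebraMap i.P.Ring i.Obj dt) * t') ∈ n := by rw [et]; exact hmem
    rw [map_mul, ht'] at this
    exact (hn.mem_or_mem this).resolve_left
      fun hu => hn.ne_top (Ideal.eq_top_of_isUnit_mem _ hu ((hunit dt).map φ)))
  have key : ∀ (z : B ⊗[R] Hens R Ω) (z' : B ⊗[R] i.Obj) (a : (B ⊗[R] i.P.Ring)) (d : i.q.primeCompl),
      φ z' = z → (1 ⊗ₜ algebraMap i.P.Ring i.Obj d) * z' = ρ a → algebraMap (B ⊗[R] i.P.Ring) L a = 0 →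
        ∃ s ∉ n, s * z = 0 := by
    intro z z' a d hz e ha
    obtain ⟨c, hc⟩ := (IsLocalization.map_eq_zero_iff w.primeCompl L a).mp ha
    refine ⟨ψ c * φ (1 ⊗ₜ algebraMap i.P.Ring i.Obj d), fun hmem => ?_, ?_⟩
    · exact (hn.mem_or_mem hmem).elim c.2
        fun hu => hn.ne_top (Ideal.eq_top_of_isUnit_mem _ hu ((hunit d).map φ))
    · rw [mul_assoc, ← hz, ← map_mul, e]
      show φ (ρ c) * φ (ρ a) = 0
      rw [← map_mul, ← map_mul, hc, map_zero, map_zero]
  rcases mul_eq_zero.mp hL with h' | h'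
  · exact absurd h' fun hz =>
      (IsLocalization.AtPrime.isUnit_to_map_iff L w at').mpr hat |>.ne_zero hz
  rcases mul_eq_zero.mp h' with h' | h'
  · obtain ⟨s, hs, hs'⟩ := key x x' ax dx hx' ex h'
    exact ⟨s, hs, Or.inl hs'⟩
  · obtain ⟨s, hs, hs'⟩ := key y y' ay dy hy' ey h'
    exact ⟨s, hs, Or.inr hs'⟩

variable (R S : Type u) [CommRing R] [IsLocalRing R] [CommRing S] [IsLocalRing S] [Algebra R S]
  [IsLocalHom (algebraMap R S)]

theorem HensModel.locallyDomain_tensor {R S : Type u} [CommRing R] [IsLocalRing R] [CommRing S]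
    [IsLocalRing S] [Algebra R S] [IsLocalHom (algebraMap R S)] (M : HensModel R S)
    (B : Type u) [CommRing B] [IsDomain B] [IsIntegrallyClosed B] [Algebra R B] :
    LocallyDomain (B ⊗[R] S) := by
  intro n hn x y t ht h
  let e := Algebra.TensorProduct.congr (AlgEquiv.refl : B ≃ₐ[B] B) M.equiv
  obtain ⟨s, hs, hs'⟩ := Hens.locallyDomain_tensor B (n.comap e) (hn.comap _) (e.symm x) (e.symm y)
    (e.symm t) (fun hm => ht (by simpa using hm))
    (by rw [← map_mul, ← map_mul, h, map_zero])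
  refine ⟨e s, hs, hs'.imp (fun h' => ?_) (fun h' => ?_)⟩
  · simpa using congrArg e h'
  · simpa using congrArg e h'

/-- In a locally-domain ring, a prime contains only one minimal prime. -/
theorem LocallyDomain.minimal_unique {T : Type u} [CommRing T] (hT : LocallyDomain T) {n : Ideal T}
    (hn : n.IsPrime) {P Q : Ideal T} (hP : P ∈ minimalPrimes T) (hQ : Q ∈ minimalPrimes T)
    (hPn : P ≤ n) (hQn : Q ≤ n) : P = Q := by
  let K : Ideal T :=
    { carrier := {x | ∃ s ∉ n, s * x = 0}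
      add_mem' := fun {a b} ⟨s, hs, hsa⟩ ⟨s', hs', hsb⟩ =>
        ⟨s * s', fun h => (hn.mem_or_mem h).elim hs hs', by linear_combination s' * hsa + s * hsb⟩
      zero_mem' := ⟨1, fun h => hn.ne_top ((Ideal.eq_top_iff_one _).mpr h), by simp⟩
      smul_mem' := fun c a ⟨s, hs, hsa⟩ => ⟨s, hs, by rw [smul_eq_mul]; linear_combination c * hsa⟩ }
  have hKP : ∀ P' : Ideal T, P'.IsPrime → P' ≤ n → K ≤ P' := fun P' hP' hle x ⟨s, hs, hsx⟩ =>
    (hP'.mem_or_mem (hsx ▸ P'.zero_mem)).resolve_left fun h => hs (hle h)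
  have hK : K.IsPrime :=
    ⟨fun h => by
      obtain ⟨s, hs, h1⟩ := (Ideal.eq_top_iff_one _).mp h
      rw [mul_one] at h1
      exact hs (h1 ▸ n.zero_mem),
    fun {a b} ⟨s, hs, hab⟩ => (hT n hn a b s hs hab).elim fun s' ⟨hs', h'⟩ =>
      h'.imp (fun h => ⟨s', hs', h⟩) (fun h => ⟨s', hs', h⟩)⟩
  have hmin : ∀ P' ∈ minimalPrimes T, P' ≤ n → P' = K := fun P' hP' hle =>
    le_antisymm (hP'.2 ⟨hK, bot_le⟩ (hKP P' hP'.1.1 hle)) (hKP P' hP'.1.1 hle)
  rw [hmin P hP hPn, hmin Q hQ hQn]

/-- Over a henselian local ring, minimal primes of an integral locally-domain algebra biject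
with its maximal ideals. -/
theorem card_minimalPrimes_eq_card_maximalSpectrum {H T : Type u} [CommRing H] [HenselianLocalRing H]
    [CommRing T] [Algebra H T] [Algebra.IsIntegral H T] (hT : LocallyDomain T) :
    ENat.card (minimalPrimes T) = ENat.card (MaximalSpectrum T) := by
  have hloc : ∀ P : minimalPrimes T, IsLocalRing (T ⧸ P.1) := fun P => by
    have : P.1.IsPrime := P.2.1.1
    exact isLocalRing_of_isIntegral_of_isDomain H (T ⧸ P.1)
  let F : minimalPrimes T → MaximalSpectrum T := fun P =>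
    have := hloc P
    ⟨(maximalIdeal (T ⧸ P.1)).comap (Ideal.Quotient.mk P.1),
      Ideal.comap_isMaximal_of_surjective _ Ideal.Quotient.mk_surjective⟩
  have hle : ∀ P : minimalPrimes T, P.1 ≤ (F P).asIdeal := fun P x hx => by
    have := hloc P
    show Ideal.Quotient.mk P.1 x ∈ maximalIdeal _
    rw [Ideal.Quotient.eq_zero_iff_mem.mpr hx]
    exact zero_mem _
  refine ENat.card_congr (Equiv.ofBijective F ⟨fun P Q h => ?_, fun m => ?_⟩)
  · exact Subtype.ext (hT.minimal_unique (F P).isMaximal.isPrime P.2 Q.2 (hle P)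
      (h ▸ hle Q : Q.1 ≤ (F P).asIdeal))
  · have := m.isMaximal
    obtain ⟨P, hP, hPm⟩ := Ideal.exists_minimalPrimes_le (I := (⊥ : Ideal T)) (J := m.asIdeal) bot_le
    have := hloc ⟨P, hP⟩
    refine ⟨⟨P, hP⟩, MaximalSpectrum.ext ?_⟩
    have h1 : (m.asIdeal.map (Ideal.Quotient.mk P)).IsMaximal :=
      (Ideal.map_eq_top_or_isMaximal_of_surjective _ Ideal.Quotient.mk_surjective m.isMaximal).resolve_left
        fun htop => by
          have h2 := Ideal.comap_map_of_surjective' _ (Ideal.Quotient.mk_surjective (I := P)) m.asIdeal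
          rw [htop, Ideal.comap_top, Ideal.mk_ker, sup_eq_left.mpr hPm] at h2
          exact m.isMaximal.ne_top h2.symm
    show (maximalIdeal _).comap _ = _
    rw [← IsLocalRing.eq_maximalIdeal h1, Ideal.comap_map_of_surjective' _ Ideal.Quotient.mk_surjective,
      Ideal.mk_ker, sup_eq_left.mpr hPm]

section Domain

variable [IsDomain R] [Module.Flat R S] (B : Type u) [CommRing B] [Algebra R B] [IsDomain B]

/-- Minimal primes of `S` are those of the tensor product with a subalgebra of the fraction field. -/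
theorem card_minimalPrimes_tensor (i : B →ₐ[R] FractionRing R) (hi : Function.Injective i) :
    ENat.card (minimalPrimes (B ⊗[R] S)) = ENat.card (minimalPrimes S) := by
  let iR : S →+* B ⊗[R] S := Algebra.TensorProduct.includeRight.toRingHom
  have hinjB : Function.Injective (algebraMap R B) := fun a b h =>
    IsFractionRing.injective R (FractionRing R) (by rw [← i.commutes, h, i.commutes])
  have hiR : Function.Injective iR := by
    intro a b hab
    have h1 : Function.Injective (Algebra.TensorProduct.map (Algebra.ofId R B) (AlgHom.id R S)) :=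
      Module.Flat.rTensor_preserves_injective_linearMap (M := S) (Algebra.ofId R B).toLinearMap hinjB
    have h2 := h1 (a₁ := (1 : R) ⊗ₜ[R] a) (a₂ := (1 : R) ⊗ₜ[R] b) (by simpa [iR] using hab)
    exact (Algebra.TensorProduct.lid R S).symm.injective h2
  have hden : ∀ x : B ⊗[R] S, ∃ r : R, r ≠ 0 ∧ ∃ s : S, iR s = iR (algebraMap R S r) * x := by
    intro x
    induction x with
    | zero => exact ⟨1, one_ne_zero, 0, by simp⟩
    | tmul b c =>
      obtain ⟨a, r, hr, hbr⟩ := IsFractionRing.div_surjective (A := R) (i b)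
      have hr0 : r ≠ 0 := nonZeroDivisors.ne_zero hr
      refine ⟨r, hr0, algebraMap R S a * c, ?_⟩
      have hb : r • b = algebraMap R B a := hi (by
        rw [map_smul, AlgHom.commutes, ← hbr, Algebra.smul_def]
        exact mul_div_cancel₀ _ ((map_ne_zero_iff _ (IsFractionRing.injective R (FractionRing R))).mpr hr0))
      show (1 : B) ⊗ₜ[R] (algebraMap R S a * c) = (1 ⊗ₜ algebraMap R S r) * (b ⊗ₜ c)
      rw [Algebra.TensorProduct.tmul_mul_tmul, one_mul, ← Algebra.smul_def, ← Algebra.smul_def,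
        TensorProduct.tmul_smul, TensorProduct.tmul_smul, TensorProduct.smul_tmul',
        TensorProduct.smul_tmul', hb, Algebra.algebraMap_eq_smul_one]
    | add x y hx hy =>
      obtain ⟨r, hr, s, hs⟩ := hx
      obtain ⟨r', hr', s', hs'⟩ := hy
      refine ⟨r * r', mul_ne_zero hr hr', algebraMap R S r' * s + algebraMap R S r * s', ?_⟩
      rw [map_add, map_mul, map_mul, hs, hs', map_mul (algebraMap R S), map_mul]
      ring
  have hflat : Module.Flat B (B ⊗[R] S) := inferInstance
  have hdisj : ∀ P ∈ minimalPrimes (B ⊗[R] S), ∀ r : R, r ≠ 0 → iR (algebraMap R S r) ∉ P := by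
    intro P hP r hr hmem
    have : P.IsPrime := hP.1.1
    have h0 : algebraMap B (B ⊗[R] S) (algebraMap R B r) ∈ P := by
      convert hmem using 1
      show (algebraMap R B r) ⊗ₜ[R] (1 : S) = (1 : B) ⊗ₜ[R] algebraMap R S r
      rw [Algebra.algebraMap_eq_smul_one, Algebra.algebraMap_eq_smul_one, TensorProduct.smul_tmul]
    have hlo : P.LiesOver (P.under B) := ⟨rfl⟩
    obtain ⟨Q, hQle, hQp, hQo⟩ := Ideal.exists_ideal_le_liesOver_of_le (p := (⊥ : Ideal B))
      (q := P.under B) P bot_le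
    have hQP : Q = P := le_antisymm hQle (hP.2 ⟨hQp, bot_le⟩ hQle)
    have : algebraMap R B r ∈ (⊥ : Ideal B) := by
      rw [hQo.over, hQP]; exact h0
    exact hr (hinjB (by rw [map_zero]; exact this))
  have hle : ∀ P Q : Ideal (B ⊗[R] S), Q ∈ minimalPrimes (B ⊗[R] S) → P.IsPrime →
      (∀ r : R, r ≠ 0 → iR (algebraMap R S r) ∉ P) → Q.comap iR ≤ P.comap iR → Q ≤ P := by
    intro P Q _ hP hPd hle x hx
    obtain ⟨r, hr, s, hs⟩ := hden x
    have h1 : iR s ∈ P := hle (show iR s ∈ Q by rw [hs]; exact Q.mul_mem_left _ hx)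
    rw [hs] at h1
    exact (hP.mem_or_mem h1).resolve_left (hPd r hr)
  have hsurj : ∀ q ∈ minimalPrimes S, ∃ P ∈ minimalPrimes (B ⊗[R] S), P.comap iR = q := by
    intro q hq
    obtain ⟨P', hP', hP'q⟩ := Ideal.exists_comap_eq_of_mem_minimalPrimes_of_injective hiR q hq
    obtain ⟨P, hP, hPP'⟩ := Ideal.exists_minimalPrimes_le (I := (⊥ : Ideal (B ⊗[R] S))) (J := P') bot_le
    have : P.IsPrime := hP.1.1
    exact ⟨P, hP, le_antisymm ((Ideal.comap_mono hPP').trans hP'q.le)
      (hq.2 ⟨Ideal.IsPrime.comap _, bot_le⟩ ((Ideal.comap_mono hPP').trans hP'q.le))⟩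
  have hmin : ∀ P ∈ minimalPrimes (B ⊗[R] S), P.comap iR ∈ minimalPrimes S := by
    intro P hP
    have : P.IsPrime := hP.1.1
    obtain ⟨q, hq, hqP⟩ := Ideal.exists_minimalPrimes_le (I := (⊥ : Ideal S)) (J := P.comap iR) bot_le
    obtain ⟨Q, hQ, rfl⟩ := hsurj q hq
    have h := hle P Q hQ inferInstance (hdisj P hP) hqP
    rwa [← le_antisymm h (hP.2 ⟨hQ.1.1, bot_le⟩ h)]
  refine ENat.card_congr (Equiv.ofBijective (fun P => ⟨P.1.comap iR, hmin P.1 P.2⟩)
    ⟨fun P Q h => ?_, fun q => ?_⟩)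
  · have h' : P.1.comap iR = Q.1.comap iR := congrArg Subtype.val h
    exact Subtype.ext (le_antisymm (hle Q.1 P.1 P.2 Q.2.1.1 (hdisj Q.1 Q.2) h'.le)
      (hle P.1 Q.1 Q.2 P.2.1.1 (hdisj P.1 P.2) h'.ge))
  · obtain ⟨P, hP, hPq⟩ := hsurj q.1 q.2
    exact ⟨⟨P, hP⟩, Subtype.ext hPq⟩

end Domain

theorem card_minimalPrimes_of_hensModel [IsDomain R] [HenselianLocalRing S] (M : HensModel R S)
    (B : Type u) [CommRing B] [Algebra R B] [IsDomain B] [IsIntegrallyClosed B] [Algebra.IsIntegral R B]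
    (i : B →ₐ[R] FractionRing R) (hi : Function.Injective i) :
    letI : Algebra S (B ⊗[R] S) := Algebra.TensorProduct.rightAlgebra
    Algebra.IsIntegral S (B ⊗[R] S) ∧
      ENat.card (minimalPrimes S) = ENat.card (MaximalSpectrum (B ⊗[R] S)) := by
  let _ : Algebra S (B ⊗[R] S) := Algebra.TensorProduct.rightAlgebra
  have hint : Algebra.IsIntegral S (B ⊗[R] S) :=
    Algebra.IsIntegral.of_surjective (Algebra.TensorProduct.commRight R S B).toAlgHom
      (Algebra.TensorProduct.commRight R S B).surjective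
  have := M.flat
  refine ⟨hint, ?_⟩
  rw [← card_minimalPrimes_tensor R S B i hi]
  exact card_minimalPrimes_eq_card_maximalSpectrum (H := S) (M.locallyDomain_tensor B)

/-- Branches of a domain are the minimal primes of its henselization. -/
theorem card_minimalPrimes_henselization_aux [IsDomain R] [Hensel.IsHenselization R S]
    (B : Type u) [CommRing B] [Algebra R B] [IsDomain B] [IsIntegrallyClosed B] [Algebra.IsIntegral R B]
    (i : B →ₐ[R] FractionRing R) (hi : Function.Injective i) :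
    ENat.card (minimalPrimes S) = ENat.card (MaximalSpectrum B) := by
  obtain ⟨M⟩ := hensModel_of_isHenselization (R := R) (S := S)
  have := (inferInstance : Hensel.IsHenselization R S).henselian
  have := M.faithfullyFlat
  let _ : Algebra S (B ⊗[R] S) := Algebra.TensorProduct.rightAlgebra
  obtain ⟨hint, hcard⟩ := card_minimalPrimes_of_hensModel R S M B i hi
  have : Algebra.IsIntegral S (B ⊗[R] S) := hint
  rw [hcard]
  let iL : B →+* B ⊗[R] S := algebraMap B (B ⊗[R] S)
  let iR : S →+* B ⊗[R] S := Algebra.TensorProduct.includeRight.toRingHom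
  have hres : ∀ s : S, ∃ a : R, s - algebraMap R S a ∈ maximalIdeal S := by
    intro s
    obtain ⟨e⟩ := exists_algEquiv_of_isHenselization R S
    obtain ⟨a, ha⟩ := residue_surjective (Hens.pt (e.symm s))
    refine ⟨a, (IsLocalRing.mem_maximalIdeal _).mpr fun hu => ?_⟩
    have h0 : e.symm (s - algebraMap R S a) ∈ maximalIdeal (Hens R (ResidueField R)) := by
      rw [Hens.mem_maximalIdeal_iff, map_sub, AlgEquiv.commutes, map_sub,
        AlgHom.commutes, ← ha, ResidueField.algebraMap_eq, sub_self]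
    exact (IsLocalRing.mem_maximalIdeal _).mp h0 (hu.map e.symm)
  have hover : ∀ n : Ideal (B ⊗[R] S), n.IsMaximal → n.comap iR = maximalIdeal S := fun n hn =>
    IsLocalRing.eq_maximalIdeal (show (n.comap (algebraMap S (B ⊗[R] S))).IsMaximal from
      have := hn
      Ideal.isMaximal_comap_of_isIntegral_of_isMaximal (R := S) n)
  have hrep : ∀ x : B ⊗[R] S, ∃ b : B, ∀ n : Ideal (B ⊗[R] S), n.IsMaximal → x - iL b ∈ n := by
    intro x
    induction x with
    | zero => exact ⟨0, fun n _ => by simp⟩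
    | tmul b s =>
      obtain ⟨a, ha⟩ := hres s
      refine ⟨a • b, fun n hn => ?_⟩
      rw [← hover n hn] at ha
      convert n.mul_mem_left (b ⊗ₜ[R] (1 : S)) ha using 1
      show b ⊗ₜ[R] s - (a • b) ⊗ₜ[R] (1 : S) = b ⊗ₜ[R] (1 : S) * ((1 : B) ⊗ₜ[R] (s - algebraMap R S a))
      rw [Algebra.TensorProduct.tmul_mul_tmul, mul_one, one_mul, TensorProduct.tmul_sub,
        Algebra.algebraMap_eq_smul_one, TensorProduct.tmul_smul, TensorProduct.smul_tmul']
    | add x y hx hy =>
      obtain ⟨b, hb⟩ := hx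
      obtain ⟨c, hc⟩ := hy
      refine ⟨b + c, fun n hn => ?_⟩
      rw [map_add, show x + y - (iL b + iL c) = (x - iL b) + (y - iL c) by ring]
      exact n.add_mem (hb n hn) (hc n hn)
  have hmax : ∀ n : MaximalSpectrum (B ⊗[R] S), (n.asIdeal.comap iL).IsMaximal := fun n => by
    have := n.isMaximal
    refine Ideal.isMaximal_of_isIntegral_of_isMaximal_comap (R := R) _ ?_
    have h1 : (maximalIdeal S).comap (algebraMap R S) = maximalIdeal R :=
      ((IsLocalRing.local_hom_TFAE (algebraMap R S)).out 0 4).mp ‹IsLocalHom (algebraMap R S)›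
    rw [Ideal.comap_comap, show iL.comp (algebraMap R B) = iR.comp (algebraMap R S) from
      RingHom.ext fun a => by
        show algebraMap R B a ⊗ₜ[R] (1 : S) = (1 : B) ⊗ₜ[R] algebraMap R S a
        rw [Algebra.algebraMap_eq_smul_one, Algebra.algebraMap_eq_smul_one, TensorProduct.smul_tmul],
      ← Ideal.comap_comap, hover _ n.isMaximal, h1]
    exact maximalIdeal.isMaximal R
  refine ENat.card_congr (Equiv.ofBijective (fun n => ⟨n.asIdeal.comap iL, hmax n⟩)
    ⟨fun n n' h => ?_, fun m => ?_⟩)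
  · have h' : n.asIdeal.comap iL = n'.asIdeal.comap iL := congrArg MaximalSpectrum.asIdeal h
    refine MaximalSpectrum.ext (n.isMaximal.eq_of_le n'.isMaximal.ne_top fun x hx => ?_)
    obtain ⟨b, hb⟩ := hrep x
    have h1 : iL b ∈ n.asIdeal := by simpa using n.asIdeal.sub_mem hx (hb _ n.isMaximal)
    have h2 : iL b ∈ n'.asIdeal := show b ∈ n'.asIdeal.comap iL from h' ▸ h1
    simpa using n'.asIdeal.add_mem (hb _ n'.isMaximal) h2
  · have := m.isMaximal
    have hne : m.asIdeal.map iL ≠ ⊤ := fun ht => m.isMaximal.ne_top (by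
      rw [← Ideal.comap_map_eq_self_of_faithfullyFlat (B := B ⊗[R] S) m.asIdeal, ht, Ideal.comap_top])
    obtain ⟨n, hn, hle⟩ := Ideal.exists_le_maximal _ hne
    exact ⟨⟨n, hn⟩, MaximalSpectrum.ext (m.isMaximal.eq_of_le (hmax ⟨n, hn⟩).ne_top
      (Ideal.map_le_iff_le_comap.mp hle)).symm⟩

/-- Branches of a domain are the minimal primes of its henselization. -/
theorem card_minimalPrimes_henselization_of_isDomain [IsDomain R] [Hensel.IsHenselization R S] :
    ENat.card (minimalPrimes S) = ENat.card (MaximalSpectrum (integralClosure R (FractionRing R))) :=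
  have := isIntegrallyClosed_normalization R
  card_minimalPrimes_henselization_aux R S _ (integralClosure R (FractionRing R)).val Subtype.val_injective

set_option synthInstance.maxHeartbeats 200000 in
set_option maxHeartbeats 2000000 in
/-- Geometric branches of a domain are the minimal primes of its strict henselization. -/
theorem card_minimalPrimes_strictHenselization_aux [IsDomain R] [Hensel.IsStrictHenselization R S]
    (B : Type u) [CommRing B] [Algebra R B] [IsDomain B] [IsIntegrallyClosed B] [Algebra.IsIntegral R B]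
    (i : B →ₐ[R] FractionRing R) (hi : Function.Injective i) :
    ENat.card (minimalPrimes S) =
      ENat.card {g : B →+* AlgebraicClosure (ResidueField R) //
        g.comp (algebraMap R B) = Brnch.toClosure R} := by
  classical
  obtain ⟨M⟩ := hensModel_of_isStrictHenselization (R := R) (S := S)
  have hS := (inferInstance : Hensel.IsStrictHenselization R S)
  have := hS.henselian
  have := hS.isSepClosure.sep_closed
  have := hS.isSepClosure.separable
  let _ : Algebra S (B ⊗[R] S) := Algebra.TensorProduct.rightAlgebra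
  obtain ⟨hint, hcard⟩ := card_minimalPrimes_of_hensModel R S M B i hi
  have : Algebra.IsIntegral S (B ⊗[R] S) := hint
  rw [hcard]
  let Ω := AlgebraicClosure (ResidueField R)
  let σ : ResidueField S →ₐ[ResidueField R] Ω := IsAlgClosed.lift
  let _ : Algebra (ResidueField S) Ω := σ.toRingHom.toAlgebra
  let τ : S →+* Ω := σ.toRingHom.comp (residue S)
  have hτR : τ.comp (algebraMap R S) = Brnch.toClosure R := RingHom.ext fun a => σ.commutes (residue R a)
  have hkerτ : RingHom.ker τ = maximalIdeal S := by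
    ext a
    rw [RingHom.mem_ker, RingHom.comp_apply, map_eq_zero_iff _ (RingHom.injective _), residue_eq_zero_iff]
  -- exactly one embedding for each maximal ideal
  have huniq : ∀ n : MaximalSpectrum (B ⊗[R] S), Nonempty (Unique {g : (B ⊗[R] S) ⧸ n.asIdeal →+* Ω //
      g.comp ((Ideal.Quotient.mk n.asIdeal).comp (algebraMap S (B ⊗[R] S))) = τ}) := by
    intro n
    have := n.isMaximal
    let K := (B ⊗[R] S) ⧸ n.asIdeal
    let _ : Field K := Ideal.Quotient.field _
    have h0 : n.asIdeal.comap (algebraMap S (B ⊗[R] S)) = maximalIdeal S :=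
      IsLocalRing.eq_maximalIdeal (Ideal.isMaximal_comap_of_isIntegral_of_isMaximal (R := S) n.asIdeal)
    let _ : Algebra (ResidueField S) K :=
      (Ideal.Quotient.lift (maximalIdeal S) ((Ideal.Quotient.mk n.asIdeal).comp (algebraMap S (B ⊗[R] S)))
        fun a ha => Ideal.Quotient.eq_zero_iff_mem.mpr (by rw [← h0] at ha; exact ha)).toAlgebra
    have hres : ∀ a, algebraMap (ResidueField S) K (residue S a) =
        Ideal.Quotient.mk n.asIdeal (algebraMap S (B ⊗[R] S) a) := fun _ => rfl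
    have : Algebra.IsAlgebraic (ResidueField S) K := ⟨fun z => by
      obtain ⟨z, rfl⟩ := Ideal.Quotient.mk_surjective z
      obtain ⟨F, hFm, hF⟩ := Algebra.IsIntegral.isIntegral (R := S) z
      refine ⟨F.map (residue S), (hFm.map _).ne_zero, ?_⟩
      have h9 := congrArg (Ideal.Quotient.mk n.asIdeal) hF
      rw [map_zero, Polynomial.hom_eval₂] at h9
      rw [Polynomial.aeval_def, Polynomial.eval₂_map]
      exact h9⟩
    let e : {g : K →+* Ω // g.comp ((Ideal.Quotient.mk n.asIdeal).comp (algebraMap S (B ⊗[R] S))) = τ} ≃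
        (K →ₐ[ResidueField S] Ω) :=
      { toFun := fun g => { g.1 with
          commutes' := fun c => by
            obtain ⟨a, rfl⟩ := residue_surjective c
            exact RingHom.congr_fun g.2 a }
        invFun := fun g => ⟨g.toRingHom, RingHom.ext fun a => g.commutes (residue S a)⟩
        left_inv := fun _ => rfl
        right_inv := fun _ => rfl }
    have : Subsingleton (K →ₐ[ResidueField S] Ω) := inferInstance
    let _ : Inhabited (K →ₐ[ResidueField S] Ω) := ⟨IsAlgClosed.lift⟩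
    let _ : Unique (K →ₐ[ResidueField S] Ω) := Unique.mk' _
    exact ⟨e.unique⟩

  refine ENat.card_congr (Equiv.trans ?_ ((sigmaEmb (A := S) (B := B ⊗[R] S) τ
    (hkerτ.symm ▸ maximalIdeal.isMaximal S)).trans ?_))
  · exact (@Equiv.sigmaUnique _ _ fun n => (huniq n).some).symm
  · refine
      { toFun := fun g => ⟨g.1.comp (algebraMap B (B ⊗[R] S)), RingHom.ext fun a => ?_⟩
        invFun := fun g => ⟨?_, ?_⟩
        left_inv := ?_
        right_inv := ?_ }
    rotate_left
    · let gA : B →ₐ[R] Ω := { g.1 with commutes' := fun a => RingHom.congr_fun g.2 a }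
      let τA : S →ₐ[R] Ω := { τ with commutes' := fun a => RingHom.congr_fun hτR a }
      exact (Algebra.TensorProduct.lift gA τA fun _ _ => Commute.all _ _).toRingHom
    · refine RingHom.ext fun s => ?_
      show g.1 (1 : B) * τ s = τ s
      rw [map_one, one_mul]
    · intro g
      refine Subtype.ext (RingHom.ext fun x => ?_)
      induction x with
      | zero => simp
      | tmul b s =>
        show g.1 (b ⊗ₜ[R] (1 : S)) * τ s = g.1 (b ⊗ₜ[R] s)
        rw [← RingHom.congr_fun g.2 s, RingHom.comp_apply, ← map_mul]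
        congr 1
        show (b ⊗ₜ[R] (1 : S)) * ((1 : B) ⊗ₜ[R] s) = _
        simp
      | add x y hx hy => simp only [map_add] at hx hy ⊢; rw [hx, hy]
    · intro g
      refine Subtype.ext (RingHom.ext fun b => ?_)
      show g.1 b * τ (1 : S) = g.1 b
      rw [map_one, mul_one]
    · show g.1 (algebraMap B (B ⊗[R] S) (algebraMap R B a)) = Brnch.toClosure R a
      rw [← hτR, RingHom.comp_apply, ← RingHom.congr_fun g.2 (algebraMap R S a)]
      show g.1 (algebraMap R B a ⊗ₜ[R] (1 : S)) = g.1 ((1 : B) ⊗ₜ[R] algebraMap R S a)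
      rw [Algebra.algebraMap_eq_smul_one, Algebra.algebraMap_eq_smul_one, TensorProduct.smul_tmul]

/-- Geometric branches of a domain are the minimal primes of its strict henselization. -/
theorem card_minimalPrimes_strictHenselization_of_isDomain [IsDomain R] [Hensel.IsStrictHenselization R S] :
    ENat.card (minimalPrimes S) =
      ENat.card {g : integralClosure R (FractionRing R) →+* AlgebraicClosure (ResidueField R) //
        g.comp (algebraMap R (integralClosure R (FractionRing R))) = Brnch.toClosure R} :=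
  have := isIntegrallyClosed_normalization R
  card_minimalPrimes_strictHenselization_aux R S _ (integralClosure R (FractionRing R)).val
    Subtype.val_injective

/-- Minimal primes of a flat algebra, sorted by the minimal prime of the base below them. -/
theorem card_minimalPrimes_eq_finsum (hfin : (minimalPrimes R).Finite) [Module.Flat R S] :
    ENat.card (minimalPrimes S) =
      ∑ᶠ P : minimalPrimes R, ENat.card (minimalPrimes ((R ⧸ P.1) ⊗[R] S)) := by
  classical
  have := hfin.to_subtype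
  rw [← card_sigma_eq_finsum]
  let π : ∀ P : minimalPrimes R, S →+* (R ⧸ P.1) ⊗[R] S := fun P =>
    Algebra.TensorProduct.includeRight.toRingHom
  have hπ : ∀ P, Function.Surjective (π P) := fun P => by
    intro x
    induction x with
    | zero => exact ⟨0, map_zero _⟩
    | tmul a s =>
      obtain ⟨a, rfl⟩ := Ideal.Quotient.mk_surjective a
      refine ⟨algebraMap R S a * s, ?_⟩
      show (1 : R ⧸ P.1) ⊗ₜ[R] (algebraMap R S a * s) = _
      rw [← Algebra.smul_def, ← TensorProduct.smul_tmul, Algebra.smul_def, mul_one]; rfl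
    | add x y hx hy =>
      obtain ⟨a, rfl⟩ := hx; obtain ⟨b, rfl⟩ := hy
      exact ⟨a + b, map_add _ _ _⟩
  have hker : ∀ P, RingHom.ker (π P) = P.1.map (algebraMap R S) := fun P => by
    let e := (Algebra.TensorProduct.quotIdealMapEquivTensorQuot S P.1).symm
    let c := (Algebra.TensorProduct.comm R (R ⧸ P.1) S).toRingEquiv.trans e.toRingEquiv
    have : c.toRingHom.comp (π P) = Ideal.Quotient.mk (P.1.map (algebraMap R S)) := by
      ext s
      show (Algebra.TensorProduct.quotIdealMapEquivTensorQuot S P.1).symm (s ⊗ₜ[R] 1) = _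
      rw [AlgEquiv.symm_apply_eq, ← Algebra.TensorProduct.quotIdealMapEquivTensorQuot_mk]
    rw [← RingHom.ker_equiv_comp (π P) c, this, Ideal.mk_ker]
  have hdown : ∀ q ∈ minimalPrimes S, q.comap (algebraMap R S) ∈ minimalPrimes R := by
    intro q hq
    have : q.IsPrime := hq.1.1
    obtain ⟨P, hP, hPle⟩ := Ideal.exists_minimalPrimes_le (I := (⊥ : Ideal R))
      (J := q.comap (algebraMap R S)) bot_le
    have : P.IsPrime := hP.1.1
    have hlo : q.LiesOver (q.comap (algebraMap R S)) := ⟨rfl⟩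
    obtain ⟨Q, hQle, hQp, hQo⟩ := Ideal.exists_ideal_le_liesOver_of_le (p := P)
      (q := q.comap (algebraMap R S)) q hPle
    have hQq : Q = q := le_antisymm hQle (hq.2 ⟨hQp, bot_le⟩ hQle)
    have h2 : P = q.comap (algebraMap R S) := by rw [hQo.over, hQq]
    rwa [← h2]
  have hmin : ∀ (P : minimalPrimes R) (Q : minimalPrimes ((R ⧸ P.1) ⊗[R] S)),
      Q.1.comap (π P) ∈ minimalPrimes S ∧ (Q.1.comap (π P)).comap (algebraMap R S) = P.1 := by
    intro P Q
    have : Q.1.IsPrime := Q.2.1.1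
    obtain ⟨q, hq, hqle⟩ := Ideal.exists_minimalPrimes_le (I := (⊥ : Ideal S))
      (J := Q.1.comap (π P)) bot_le
    have : q.IsPrime := hq.1.1
    have hPQ : P.1.map (algebraMap R S) ≤ Q.1.comap (π P) :=
      hker P ▸ Ideal.comap_mono bot_le
    have hPprime := hdown q hq
    -- the prime below `Q` is `P` by flatness over `R ⧸ P`
    have hflat : Module.Flat (R ⧸ P.1) ((R ⧸ P.1) ⊗[R] S) := inferInstance
    have hlo : Q.1.LiesOver (Q.1.under (R ⧸ P.1)) := ⟨rfl⟩
    obtain ⟨Q', hQ'le, hQ'p, hQ'o⟩ := Ideal.exists_ideal_le_liesOver_of_le (p := (⊥ : Ideal (R ⧸ P.1)))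
      (q := Q.1.under (R ⧸ P.1)) Q.1 bot_le
    have hQQ : Q' = Q.1 := le_antisymm hQ'le (Q.2.2 ⟨hQ'p, bot_le⟩ hQ'le)
    have hQbot : Q.1.under (R ⧸ P.1) = ⊥ := by rw [hQ'o.over, hQQ]
    have hQP : (Q.1.comap (π P)).comap (algebraMap R S) = P.1 := by
      ext a
      show π P (algebraMap R S a) ∈ Q.1 ↔ _
      have : π P (algebraMap R S a) = algebraMap (R ⧸ P.1) ((R ⧸ P.1) ⊗[R] S) (Ideal.Quotient.mk P.1 a) := by
        show (1 : R ⧸ P.1) ⊗ₜ[R] algebraMap R S a = Ideal.Quotient.mk P.1 a ⊗ₜ[R] (1 : S)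
        rw [Algebra.algebraMap_eq_smul_one, ← TensorProduct.smul_tmul, Algebra.smul_def, mul_one]; rfl
      rw [this, ← Ideal.mem_comap]
      show Ideal.Quotient.mk P.1 a ∈ Q.1.under (R ⧸ P.1) ↔ _
      rw [hQbot, Ideal.mem_bot, Ideal.Quotient.eq_zero_iff_mem]
    refine ⟨?_, hQP⟩
    have hqP : q.comap (algebraMap R S) = P.1 := le_antisymm (hQP ▸ Ideal.comap_mono hqle)
      (P.2.2 hPprime.1 (hQP ▸ Ideal.comap_mono hqle))
    have hkq : RingHom.ker (π P) ≤ q := by
      rw [hker, Ideal.map_le_iff_le_comap, hqP]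
    have : (q.map (π P)).IsPrime := Ideal.map_isPrime_of_surjective (hπ P) hkq
    have h2 : Q.1 ≤ q.map (π P) := Q.2.2 ⟨this, bot_le⟩ (Ideal.map_le_iff_le_comap.mpr hqle)
    have h3 := Ideal.comap_mono (f := π P) h2
    rw [Ideal.comap_map_of_surjective' _ (hπ P), sup_eq_left.mpr hkq] at h3
    rwa [le_antisymm h3 hqle]
  refine (ENat.card_congr (Equiv.ofBijective
    (fun p : Σ P : minimalPrimes R, minimalPrimes ((R ⧸ P.1) ⊗[R] S) =>
      (⟨p.2.1.comap (π p.1), (hmin p.1 p.2).1⟩ : minimalPrimes S)) ⟨?_, ?_⟩)).symm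
  · rintro ⟨P, Q⟩ ⟨P', Q'⟩ h
    have h' : Q.1.comap (π P) = Q'.1.comap (π P') := congrArg Subtype.val h
    obtain rfl : P = P' := Subtype.ext ((hmin P Q).2.symm.trans ((congrArg _ h').trans (hmin P' Q').2))
    exact congrArg _ (Subtype.ext (Ideal.comap_injective_of_surjective _ (hπ P) h'))
  · intro q
    let P : minimalPrimes R := ⟨_, hdown q.1 q.2⟩
    have : q.1.IsPrime := q.2.1.1
    have hk : RingHom.ker (π P) ≤ q.1 := by rw [hker, Ideal.map_le_iff_le_comap]
    have hp : (q.1.map (π P)).IsPrime := Ideal.map_isPrime_of_surjective (hπ P) hk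
    have hc : (q.1.map (π P)).comap (π P) = q.1 := by
      rw [Ideal.comap_map_of_surjective' _ (hπ P), sup_eq_left.mpr hk]
    refine ⟨⟨P, q.1.map (π P), ⟨hp, bot_le⟩, fun J hJ hle => ?_⟩, Subtype.ext hc⟩
    have := hJ.1
    exact Ideal.map_le_iff_le_comap.mpr (q.2.2 ⟨Ideal.IsPrime.comap _, bot_le⟩ (hc ▸ Ideal.comap_mono hle))

theorem card_minimalPrimes_eq_top (hinf : ¬ (minimalPrimes R).Finite) [Module.FaithfullyFlat R S] :
    ENat.card (minimalPrimes S) = ⊤ := by
  refine ENat.card_eq_top.mpr ?_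
  have : Infinite (minimalPrimes R) := Set.infinite_coe_iff.mpr hinf
  have key : ∀ P : minimalPrimes R, ∃ q : minimalPrimes S, q.1.comap (algebraMap R S) = P.1 := fun P => by
    obtain ⟨Q, hQ⟩ := PrimeSpectrum.comap_surjective_of_faithfullyFlat (A := R) (B := S) ⟨P.1, P.2.1.1⟩
    obtain ⟨q, hq, hle⟩ := Ideal.exists_minimalPrimes_le (I := (⊥ : Ideal S)) (J := Q.asIdeal) bot_le
    have h : Q.asIdeal.comap (algebraMap R S) = P.1 := congrArg PrimeSpectrum.asIdeal hQ
    have h1 : q.comap (algebraMap R S) ≤ P.1 := h ▸ Ideal.comap_mono hle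
    exact ⟨⟨q, hq⟩, le_antisymm h1 (P.2.2 ⟨hq.1.1.comap _, bot_le⟩ h1)⟩
  choose f hf using key
  exact Infinite.of_injective f fun P P' h => Subtype.ext ((hf P).symm.trans (h ▸ hf P'))

theorem isLocalHom_quotient (P : minimalPrimes R) : IsLocalHom (algebraMap R (R ⧸ P.1)) :=
  isLocalHom_of_isIntegral' R (R ⧸ P.1)

theorem card_minimalPrimes_henselization_eq_numBranches [Hensel.IsHenselization R S] :
    ENat.card (minimalPrimes S) = Brnch.numBranches R := by
  classical
  obtain ⟨M⟩ := hensModel_of_isHenselization (R := R) (S := S)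
  have := M.flat
  have := M.faithfullyFlat
  by_cases hfin : (minimalPrimes R).Finite
  · rw [card_minimalPrimes_eq_finsum R S hfin, numBranches_eq_finsum R hfin]
    refine finsum_congr fun P => ?_
    have := isLocalHom_quotient R P
    obtain ⟨_, _, hT⟩ := Groth.Agent.S2801.result R (R ⧸ P.1) S
    rw [card_minimalPrimes_henselization_of_isDomain (R ⧸ P.1) ((R ⧸ P.1) ⊗[R] S),
      (Groth.VarietyBC.BranchPoints.branches_eq (R ⧸ P.1) (FractionRing (R ⧸ P.1))).1]
  · rw [card_minimalPrimes_eq_top R S hfin, Brnch.numBranches, if_neg hfin]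

theorem card_minimalPrimes_strictHenselization_eq_numGeomBranches [Hensel.IsStrictHenselization R S] :
    ENat.card (minimalPrimes S) = Brnch.numGeomBranches R := by
  classical
  obtain ⟨M⟩ := hensModel_of_isStrictHenselization (R := R) (S := S)
  have := M.flat
  have := M.faithfullyFlat
  by_cases hfin : (minimalPrimes R).Finite
  · rw [card_minimalPrimes_eq_finsum R S hfin, numGeomBranches_eq_finsum R hfin]
    refine finsum_congr fun P => ?_
    have := isLocalHom_quotient R P
    have : IsPurelyInseparable (ResidueField R) (ResidueField (R ⧸ P.1)) := by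
      obtain ⟨q, hq⟩ := ExpChar.exists (ResidueField R)
      refine (isPurelyInseparable_iff_pow_mem _ q).mpr fun x => ⟨0, ?_⟩
      obtain ⟨x, rfl⟩ := residue_surjective x
      obtain ⟨x, rfl⟩ := Ideal.Quotient.mk_surjective x
      exact ⟨residue R x, by rw [pow_zero, pow_one]; rfl⟩
    obtain ⟨_, _, hT⟩ := isStrictHenselization_tensor R (R ⧸ P.1) S
    rw [card_minimalPrimes_strictHenselization_of_isDomain (R ⧸ P.1) ((R ⧸ P.1) ⊗[R] S),
      (Groth.VarietyBC.BranchPoints.branches_eq (R ⧸ P.1) (FractionRing (R ⧸ P.1))).2]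
    refine ENat.card_congr (Equiv.symm (sigmaEmb (A := R ⧸ P.1)
      (B := integralClosure (R ⧸ P.1) (FractionRing (R ⧸ P.1))) (Brnch.toClosure (R ⧸ P.1)) ?_))
    rw [ker_toClosure]
    exact maximalIdeal.isMaximal _
  · rw [card_minimalPrimes_eq_top R S hfin, Brnch.numGeomBranches, if_neg hfin]

end Groth.Hensel1
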