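import Groth.Agent.Hensel1.Universal
import Mathlib.FieldTheory.SeparableClosure

/-!
# Existence and uniqueness of the henselization and strict henselization
-/

set_option autoImplicit false

namespace Groth.Hensel1

open IsLocalRing

universe u

noncomputable section

variable (R : Type u) [CommRing R] [IsLocalRing R]

theorem residuePt_residue_algebraMap (Ω : Type u) [Field Ω] [Algebra R Ω] (r : R) :
    Hens.residuePt (residue (Hens R Ω) (algebraMap R (Hens R Ω) r)) = algebraMap R Ω r :=
  (Hens.pt (Ω := Ω)).commutes r

theorem isHenselization_hens : Hensel.IsHenselization R (Hens R (ResidueField R)) where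
  henselian := inferInstance
  universal T _ _ f hf := by
    let := f.toAlgebra
    have : IsLocalHom (algebraMap R T) := hf
    obtain ⟨g, hg, huniq⟩ := Hens.existsUnique_lift (R := R) (Ω := ResidueField R)
      (T := T) (ResidueField.map f) (fun r => ResidueField.map_residue f r)
    refine ⟨g.toRingHom, g.comp_algebraMap, fun g' hg' => ?_⟩
    have hcomm : ∀ r, g' (algebraMap R _ r) = f r := DFunLike.congr_fun hg'
    have : ({ g' with commutes' := hcomm } : Hens R (ResidueField R) →ₐ[R] T) = g := by
      refine huniq _ fun x => ?_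
      obtain ⟨r, hr⟩ := residue_surjective (Hens.pt x)
      have hx : x - algebraMap R _ r ∈ maximalIdeal (Hens R (ResidueField R)) := by
        rw [Hens.mem_maximalIdeal_iff, map_sub, AlgHom.commutes, ResidueField.algebraMap_eq, hr,
          sub_self]
      rw [← Hens.map_maximalIdeal] at hx
      have hle : (maximalIdeal R).map (algebraMap R (Hens R (ResidueField R))) ≤
          (maximalIdeal T).comap g' := by
        refine Ideal.map_le_iff_le_comap.mpr fun a ha => ?_
        show g' (algebraMap R _ a) ∈ maximalIdeal T
        rw [hcomm]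
        exact ((local_hom_TFAE f).out 0 2 rfl rfl).mp hf (Ideal.mem_map_of_mem f ha)
      have h1 := hle hx
      rw [Ideal.mem_comap, map_sub, hcomm] at h1
      show residue T (g' x) = ResidueField.map f (Hens.pt x)
      rw [← hr, ResidueField.map_residue]
      exact Ideal.Quotient.eq.mpr h1
    rw [← this]

variable (S : Type u) [CommRing S] [IsLocalRing S] [Algebra R S] [IsLocalHom (algebraMap R S)]

theorem exists_algEquiv_of_isHenselization [hS : Hensel.IsHenselization R S] :
    Nonempty (Hens R (ResidueField R) ≃ₐ[R] S) := by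
  have := hS.henselian
  have hH := isHenselization_hens R
  obtain ⟨g, hg, -⟩ := hH.universal S (algebraMap R S) inferInstance
  obtain ⟨h, hh, -⟩ := hS.universal (Hens R (ResidueField R)) (algebraMap R _) inferInstance
  obtain ⟨i, -, hi⟩ := hH.universal (Hens R (ResidueField R)) (algebraMap R _) inferInstance
  obtain ⟨j, -, hj⟩ := hS.universal S (algebraMap R S) inferInstance
  have e1 : h.comp g = RingHom.id _ := by
    exact (hi _ (by simp only [RingHom.comp_assoc, hg, hh])).trans (hi _ (RingHom.id_comp _)).symm
  have e2 : g.comp h = RingHom.id _ := by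
    exact (hj _ (by simp only [RingHom.comp_assoc, hh, hg])).trans (hj _ (RingHom.id_comp _)).symm
  exact ⟨AlgEquiv.ofRingEquiv (f := RingEquiv.ofRingHom g h e2 e1) fun r =>
    DFunLike.congr_fun hg r⟩

variable (Ω : Type u) [Field Ω] [Algebra R Ω] [Algebra (ResidueField R) Ω]
  [IsScalarTower R (ResidueField R) Ω] [Algebra.IsSeparable (ResidueField R) Ω]

/-- The residue field of `Hens R Ω` is `Ω`. -/
def residueEquiv : ResidueField (Hens R Ω) ≃ₐ[ResidueField R] Ω :=
  AlgEquiv.ofRingEquiv (f := RingEquiv.ofBijective _ Hens.residuePt_bijective) fun x => by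
    obtain ⟨r, rfl⟩ := residue_surjective x
    show Hens.residuePt (residue (Hens R Ω) (algebraMap R _ r)) = _
    rw [residuePt_residue_algebraMap, ← ResidueField.algebraMap_eq,
      ← IsScalarTower.algebraMap_apply]

theorem residueEquiv_residue (x : Hens R Ω) :
    residueEquiv R Ω (residue _ x) = Hens.pt x := rfl

theorem isStrictHenselization_hens [IsSepClosed Ω] :
    Hensel.IsStrictHenselization R (Hens R Ω) where
  henselian := inferInstance
  isSepClosure := by
    refine ⟨IsSepClosed.of_exists_root _ fun p hp hirr hsep => ?_, ?_⟩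
    · have e := (residueEquiv R Ω).toRingEquiv
      obtain ⟨x, hx⟩ := IsSepClosed.exists_root (p.map e.toRingHom)
        (by rw [Polynomial.degree_map]; exact hirr.degree_pos.ne') (hsep.map (f := e.toRingHom))
      refine ⟨e.symm x, e.injective ?_⟩
      rw [map_zero]
      refine Eq.trans ?_ hx
      refine (Polynomial.eval_map_apply e.toRingHom (e.symm x)).symm.trans ?_
      congr 1
      exact e.apply_symm_apply x
    · exact Algebra.IsSeparable.of_algHom _ _ (residueEquiv R Ω).toAlgHom
  universal T _ _ f _ τ hτ := by
    let := f.toAlgebra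
    let e := residueEquiv R Ω
    have hτ' : ∀ r, τ.comp e.symm.toRingEquiv.toRingHom (algebraMap R Ω r) =
        residue T (algebraMap R T r) := fun r => by
      show τ (e.symm (algebraMap R Ω r)) = residue T (f r)
      rw [IsScalarTower.algebraMap_apply R (ResidueField R) Ω, e.symm.commutes]
      exact (DFunLike.congr_fun hτ _).trans (ResidueField.map_residue f r)
    obtain ⟨g, hg, huniq⟩ := Hens.existsUnique_lift (T := T) (τ.comp e.symm.toRingEquiv.toRingHom)
      hτ'
    have hpt : ∀ x, τ.comp e.symm.toRingEquiv.toRingHom (Hens.pt x) = τ (residue _ x) := fun x => by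
      show τ (e.symm (Hens.pt x)) = _
      rw [← residueEquiv_residue, AlgEquiv.symm_apply_apply]
    refine ⟨g.toRingHom, ⟨g.comp_algebraMap, fun x => (hg x).trans (hpt x)⟩, ?_⟩
    rintro g' ⟨hg'₁, hg'₂⟩
    have : ({ g' with commutes' := DFunLike.congr_fun hg'₁ } : Hens R Ω →ₐ[R] T) = g :=
      huniq _ fun x => (hg'₂ x).trans (hpt x).symm
    rw [← this]

omit [Field Ω] [Algebra R Ω] [Algebra (ResidueField R) Ω]
  [IsScalarTower R (ResidueField R) Ω] [Algebra.IsSeparable (ResidueField R) Ω] in
theorem exists_algEquiv_of_isStrictHenselization [hS : Hensel.IsStrictHenselization R S] :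
    Nonempty (Hens R (ResidueField S) ≃ₐ[R] S) := by
  have := hS.henselian
  have := hS.isSepClosure
  have hcomm : ∀ r, (RingHom.id (ResidueField S)) (algebraMap R (ResidueField S) r) =
      residue S (algebraMap R S r) := fun r => rfl
  obtain ⟨g, hg, -⟩ := Hens.existsUnique_lift (T := S) (RingHom.id (ResidueField S)) hcomm
  let τ : ResidueField S →+* ResidueField (Hens R (ResidueField S)) :=
    (residueEquiv R (ResidueField S)).symm.toRingEquiv.toRingHom
  have hτ : τ.comp (ResidueField.map (algebraMap R S)) =
      ResidueField.map (algebraMap R (Hens R (ResidueField S))) :=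
    RingHom.ext fun x => (residueEquiv R (ResidueField S)).symm.commutes x
  obtain ⟨h, ⟨hh₁, hh₂⟩, -⟩ := hS.universal (Hens R (ResidueField S)) (algebraMap R _) τ hτ
  have hpt : ∀ y, Hens.pt (h y) = residue S y := fun y => by
    rw [← residueEquiv_residue, hh₂]
    exact (residueEquiv R (ResidueField S)).apply_symm_apply _
  obtain ⟨j, -, hj⟩ := hS.universal S (algebraMap R S) (RingHom.id _) (by
    refine RingHom.ext fun x => ?_
    obtain ⟨r, rfl⟩ := residue_surjective x
    rfl)
  have hgc : g.toRingHom.comp (algebraMap R _) = algebraMap R S := g.comp_algebraMap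
  have e1 : g.toRingHom.comp h = RingHom.id S :=
    (hj _ ⟨by rw [RingHom.comp_assoc, hh₁, hgc], fun y => (hg (h y)).trans (hpt y)⟩).trans
      (hj _ ⟨RingHom.id_comp _, fun _ => rfl⟩).symm
  obtain ⟨i, -, hi⟩ := Hens.existsUnique_lift (T := Hens R (ResidueField S)) τ (fun r => by
    show τ (residue S (algebraMap R S r)) = residue _ (algebraMap R _ r)
    rw [← hh₂, ← DFunLike.congr_fun hh₁ r]
    rfl)
  let h' : S →ₐ[R] Hens R (ResidueField S) := { h with commutes' := DFunLike.congr_fun hh₁ }
  have e2 : h'.comp g = AlgHom.id R _ := by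
    refine (hi _ fun x => ?_).trans (hi _ fun x => ?_).symm
    · show residue _ (h (g x)) = τ (Hens.pt x)
      rw [hh₂, hg]
      rfl
    · show residue _ x = τ (Hens.pt x)
      rw [← residueEquiv_residue]
      exact ((residueEquiv R (ResidueField S)).symm_apply_apply _).symm
  exact ⟨AlgEquiv.ofAlgHom g h' (AlgHom.ext fun y => DFunLike.congr_fun e1 y) e2⟩

end

end Groth.Hensel1
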