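import Groth.Agent.Hensel1.HensAtPrime
import Groth.Agent.Hensel1.MinimalPrimesHens
import Groth.Agent.Hensel1.EtaleStalk
import Groth.Agent.Hensel1.BranchOne
import Groth.Agent.PropsBasic2.SchTop
import Groth.Agent.HTopHyper.ResidueIso
import Groth.Agent.FlatMor2.Deform
import Groth.Agent.S0506
import Groth.Prelude.Def_Hens2
import Mathlib.Order.ConditionallyCompleteLattice.Basic

/-!
# Branches and étale neighbourhoods
-/

set_option autoImplicit false

open CategoryTheory Limits AlgebraicGeometry TopologicalSpace IsLocalRing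

namespace Groth.Hensel1

universe u

/-- The irreducible components through a point are the minimal primes of its local ring. -/
theorem encard_components_eq_card_minimalPrimes {U : Scheme.{u}} (x : U) :
    {Z : Set ↑U | Z ∈ irreducibleComponents ↑U ∧ x ∈ Z}.encard =
      ENat.card (minimalPrimes (U.presheaf.stalk x)) := by
  let ι := U.fromSpecStalk x
  have hr : Set.range ι = {y | y ⤳ x} := U.range_fromSpecStalk
  have hind : Topology.IsEmbedding ι := ι.isEmbedding
  let F : minimalPrimes (U.presheaf.stalk x) → {Z : Set ↑U | Z ∈ irreducibleComponents ↑U ∧ x ∈ Z} :=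
    fun P => ⟨closure {ι ⟨P.1, P.2.1.1⟩}, by
      rw [Groth.PropsBasic2.closure_mem_irreducibleComponents_iff]
      intro z hz
      have hPx : ι ⟨P.1, P.2.1.1⟩ ⤳ x := hr.le ⟨_, rfl⟩
      obtain ⟨Q, rfl⟩ := hr.ge (hz.trans hPx)
      have hQP : Q.asIdeal ≤ P.1 := (PrimeSpectrum.le_iff_specializes Q ⟨P.1, P.2.1.1⟩).mpr
        (hind.isInducing.specializes_iff.mp hz)
      exact congrArg ι (PrimeSpectrum.ext (le_antisymm hQP (P.2.2 ⟨Q.isPrime, bot_le⟩ hQP))),
      specializes_iff_mem_closure.mp (hr.le ⟨_, rfl⟩)⟩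
  rw [← ENat.card_coe_set_eq]
  refine (ENat.card_congr (Equiv.ofBijective F ⟨fun P Q h => ?_, fun Z => ?_⟩)).symm
  · have h1 : closure {ι ⟨P.1, P.2.1.1⟩} = closure {ι ⟨Q.1, Q.2.1.1⟩} := congrArg Subtype.val h
    have h2 := hind.injective (inseparable_iff_closure_eq.mpr h1).eq
    exact Subtype.ext (congrArg PrimeSpectrum.asIdeal h2)
  · obtain ⟨Z, hZ, hxZ⟩ := Z
    obtain ⟨z, hz⟩ := QuasiSober.sober hZ.1 (isClosed_of_mem_irreducibleComponents Z hZ)
    obtain ⟨P, rfl⟩ := hr.ge (hz.specializes hxZ)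
    have hmax := (Groth.PropsBasic2.closure_mem_irreducibleComponents_iff (ι P)).mp
      (by rw [hz.def]; exact hZ)
    have hPmin : P.asIdeal ∈ minimalPrimes (U.presheaf.stalk x) := by
      refine ⟨⟨P.isPrime, bot_le⟩, fun Q hQ hle => ?_⟩
      have h1 : ι ⟨Q, hQ.1⟩ ⤳ ι P :=
        hind.isInducing.specializes_iff.mpr ((PrimeSpectrum.le_iff_specializes ⟨Q, hQ.1⟩ P).mp hle)
      exact (congrArg PrimeSpectrum.asIdeal (hind.injective (hmax _ h1))).ge
    exact ⟨⟨P.asIdeal, hPmin⟩, Subtype.ext hz.def⟩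

theorem one_le_encard_components {U : Scheme.{u}} (x : U) :
    1 ≤ {Z : Set ↑U | Z ∈ irreducibleComponents ↑U ∧ x ∈ Z}.encard := by
  rw [Set.one_le_encard_iff_nonempty]
  obtain ⟨Z, hZ, hxZ⟩ := exists_mem_irreducibleComponents_subset_of_isIrreducible {x} isIrreducible_singleton
  exact ⟨Z, hZ, hxZ rfl⟩

section Etale

variable {A B : Type u} [CommRing A] [IsLocalRing A] [CommRing B] [IsLocalRing B] [Algebra A B]
  [IsLocalHom (algebraMap A B)] (h : EGA4loc.IsEssentiallyEtale A B)

include h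

theorem numGeomBranches_eq_of_essentiallyEtale : Brnch.numGeomBranches B = Brnch.numGeomBranches A := by
  obtain ⟨T, _, _, _, _, _⟩ := exists_isStrictHenselization B
  let _ : Algebra A T := ((algebraMap B T).comp (algebraMap A B)).toAlgebra
  have : IsScalarTower A B T := .of_algebraMap_eq fun _ => rfl
  have : IsLocalHom (algebraMap A T) :=
    inferInstanceAs (IsLocalHom ((algebraMap B T).comp (algebraMap A B)))
  have := isStrictHenselization_of_essentiallyEtale h T
  rw [← card_minimalPrimes_strictHenselization_eq_numGeomBranches B T,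
    card_minimalPrimes_strictHenselization_eq_numGeomBranches A T]

theorem numBranches_eq_of_essentiallyEtale
    (hres : Function.Surjective (ResidueField.map (algebraMap A B))) :
    Brnch.numBranches B = Brnch.numBranches A := by
  obtain ⟨T, _, _, _, _, _⟩ := Groth.Agent.S0506.result B
  let _ : Algebra A T := ((algebraMap B T).comp (algebraMap A B)).toAlgebra
  have : IsScalarTower A B T := .of_algebraMap_eq fun _ => rfl
  have : IsLocalHom (algebraMap A T) :=
    inferInstanceAs (IsLocalHom ((algebraMap B T).comp (algebraMap A B)))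
  have := isHenselization_of_essentiallyEtale h hres T
  rw [← card_minimalPrimes_henselization_eq_numBranches B T,
    card_minimalPrimes_henselization_eq_numBranches A T]

end Etale

theorem card_minimalPrimes_le_numBranches (A : Type u) [CommRing A] [IsLocalRing A] :
    ENat.card (minimalPrimes A) ≤ Brnch.numBranches A := by
  obtain ⟨T, _, _, _, _, _⟩ := Groth.Agent.S0506.result A
  obtain ⟨M⟩ := hensModel_of_isHenselization (R := A) (S := T)
  have := M.faithfullyFlat
  exact (card_minimalPrimes_le_of_faithfullyFlat A T).trans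
    (card_minimalPrimes_henselization_eq_numBranches A T).le

theorem card_minimalPrimes_le_numGeomBranches (A : Type u) [CommRing A] [IsLocalRing A] :
    ENat.card (minimalPrimes A) ≤ Brnch.numGeomBranches A := by
  obtain ⟨T, _, _, _, _, _⟩ := exists_isStrictHenselization A
  obtain ⟨M⟩ := hensModel_of_isStrictHenselization (R := A) (S := T)
  have := M.faithfullyFlat
  exact (card_minimalPrimes_le_of_faithfullyFlat A T).trans
    (card_minimalPrimes_strictHenselization_eq_numGeomBranches A T).le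

/-- Transport of the minimal primes along a ring isomorphism. -/
theorem card_minimalPrimes_congr {A B : Type u} [CommRing A] [CommRing B] (e : A ≃+* B) :
    ENat.card (minimalPrimes A) = ENat.card (minimalPrimes B) := by
  let _ := e.toRingHom.toAlgebra
  let _ := e.symm.toRingHom.toAlgebra
  have h1 : Module.FaithfullyFlat A B := RingHom.FaithfullyFlat.of_bijective e.bijective
  have h2 : Module.FaithfullyFlat B A := RingHom.FaithfullyFlat.of_bijective e.symm.bijective
  exact le_antisymm (@card_minimalPrimes_le_of_faithfullyFlat A B _ _ _ h1)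
    (@card_minimalPrimes_le_of_faithfullyFlat B A _ _ _ h2)

variable {X : Scheme.{u}} {x : X}

theorem encard_components_le_numGeomBranchesAt {U : Scheme.{u}} (g : U ⟶ X) (u : U) (hg : Etale g)
    (hu : g u = x) :
    {Z : Set ↑U | Z ∈ irreducibleComponents ↑U ∧ u ∈ Z}.encard ≤ Brnch.numGeomBranchesAt X x := by
  subst hu
  rw [encard_components_eq_card_minimalPrimes]
  refine (card_minimalPrimes_le_numGeomBranches _).trans (le_of_eq ?_)
  let _ := (g.stalkMap u).hom.toAlgebra
  have : IsLocalHom (algebraMap (X.presheaf.stalk (g u)) (U.presheaf.stalk u)) :=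
    inferInstanceAs (IsLocalHom (g.stalkMap u).hom)
  exact numGeomBranches_eq_of_essentiallyEtale (isEssentiallyEtale_stalkMap_of_etale g u)

theorem encard_components_le_numBranchesAt {U : Scheme.{u}} (g : U ⟶ X) (u : U)
    (h : Hens2.IsEtaleNbhd g u x) :
    {Z : Set ↑U | Z ∈ irreducibleComponents ↑U ∧ u ∈ Z}.encard ≤ Brnch.numBranchesAt X x := by
  have := h.etale
  obtain rfl := h.base_eq
  rw [encard_components_eq_card_minimalPrimes]
  refine (card_minimalPrimes_le_numBranches _).trans (le_of_eq ?_)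
  let _ := (g.stalkMap u).hom.toAlgebra
  have : IsLocalHom (algebraMap (X.presheaf.stalk (g u)) (U.presheaf.stalk u)) :=
    inferInstanceAs (IsLocalHom (g.stalkMap u).hom)
  exact numBranches_eq_of_essentiallyEtale (isEssentiallyEtale_stalkMap_of_etale g u)
    h.residue_bijective.2

/-- The scheme of a stage, as an étale neighbourhood. -/
theorem exists_nbhd_of_index {V : X.Opens} (hV : IsAffineOpen V) (hx : x ∈ V) {Ω : Type u} [Field Ω]
    [Algebra Γ(X, V) Ω] (i : HensIdx Γ(X, V) Ω)
    (hq : i.q.comap (algebraMap Γ(X, V) i.P.Ring) = (hV.primeIdealOf ⟨x, hx⟩).asIdeal) :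
    ∃ (U : Scheme.{u}) (g : U ⟶ X) (u : U), Etale g ∧ g u = x ∧
      {Z : Set ↑U | Z ∈ irreducibleComponents ↑U ∧ u ∈ Z}.encard = ENat.card (minimalPrimes i.Obj) ∧
      ((∀ c : i.P.Ring, ∃ a b : Γ(X, V), b ∉ (hV.primeIdealOf ⟨x, hx⟩).asIdeal ∧
          algebraMap Γ(X, V) i.P.Ring b * c - algebraMap Γ(X, V) i.P.Ring a ∈ i.q) →
        Function.Bijective (g.residueFieldMap u)) := by
  let R := Γ(X, V)
  let ψ : CommRingCat.of R ⟶ CommRingCat.of i.P.Ring := CommRingCat.ofHom (algebraMap R i.P.Ring)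
  let g : Spec (CommRingCat.of i.P.Ring) ⟶ X := Spec.map ψ ≫ hV.fromSpec
  let u : Spec (CommRingCat.of i.P.Ring) := (⟨i.q, inferInstance⟩ : PrimeSpectrum i.P.Ring)
  have : Etale (Spec.map ψ) := (HasRingHomProperty.Spec_iff (P := @Etale)).mpr
    (RingHom.etale_algebraMap.mpr inferInstance)
  have hgu : g u = x := by
    show hV.fromSpec (Spec.map ψ u) = x
    rw [show Spec.map ψ u = hV.primeIdealOf ⟨x, hx⟩ from PrimeSpectrum.ext hq]
    exact hV.fromSpec_primeIdealOf ⟨x, hx⟩
  refine ⟨_, g, u, inferInstance, hgu, ?_, fun hc => ?_⟩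
  · rw [encard_components_eq_card_minimalPrimes]
    exact card_minimalPrimes_congr (Spec.stalkIso (CommRingCat.of i.P.Ring) u).commRingCatIsoToRingEquiv
  · have : IsIso ((Spec.map ψ).residueFieldMap u) := by
      refine (Groth.HTopHyper.residueFieldMap_isIso_iff ψ u).mpr fun c => ?_
      obtain ⟨a, b, hb, hab⟩ := hc c
      exact ⟨a, b, fun h => hb (hq.le h), hab⟩
    have : IsIso (hV.fromSpec.residueFieldMap (Spec.map ψ u)) :=
      Groth.FlatMor2.isIso_residueFieldMap_of_surjectiveOnStalks _ _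
    rw [show g = Spec.map ψ ≫ hV.fromSpec from rfl, Scheme.residueFieldMap_comp]
    exact (ConcreteCategory.bijective_of_isIso ((Spec.map ψ).residueFieldMap u)).comp
      (ConcreteCategory.bijective_of_isIso (hV.fromSpec.residueFieldMap (Spec.map ψ u)))

/-- The stalk and the localization of the sections have the same branches. -/
theorem numBranches_stalk_eq {V : X.Opens} (hV : IsAffineOpen V) (hx : x ∈ V) :
    Brnch.numBranchesAt X x = Brnch.numBranches (Localization.AtPrime (hV.primeIdealOf ⟨x, hx⟩).asIdeal) ∧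
    Brnch.numGeomBranchesAt X x =
      Brnch.numGeomBranches (Localization.AtPrime (hV.primeIdealOf ⟨x, hx⟩).asIdeal) := by
  let p := (hV.primeIdealOf ⟨x, hx⟩).asIdeal
  let A := Localization.AtPrime p
  let _ := X.presheaf.algebra_section_stalk (⟨x, hx⟩ : V)
  have : IsLocalization.AtPrime (X.presheaf.stalk x) p := hV.isLocalization_stalk ⟨x, hx⟩
  let e : A ≃ₐ[Γ(X, V)] X.presheaf.stalk x := IsLocalization.algEquiv p.primeCompl _ _
  let _ : Algebra A (X.presheaf.stalk x) := e.toRingEquiv.toRingHom.toAlgebra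
  have : IsScalarTower Γ(X, V) A (X.presheaf.stalk x) := .of_algebraMap_eq fun r => (e.commutes r).symm
  have : p.LiesOver p := ⟨rfl⟩
  obtain ⟨hloc, hess⟩ := isEssentiallyEtale_of_isLocalization Γ(X, V) Γ(X, V) p p A (X.presheaf.stalk x)
  refine ⟨numBranches_eq_of_essentiallyEtale hess fun z => ?_, numGeomBranches_eq_of_essentiallyEtale hess⟩
  obtain ⟨z, rfl⟩ := residue_surjective z
  exact ⟨residue A (e.symm z), (ResidueField.map_residue _ _).trans (congrArg _ (e.apply_symm_apply z))⟩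

theorem numGeomBranchesAt_eq_iSup (X : Scheme.{u}) (x : X) :
    Brnch.numGeomBranchesAt X x = ⨆ (U : Scheme.{u}) (g : U ⟶ X) (u : U) (_ : Etale g ∧ g u = x),
      {Z : Set ↑U | Z ∈ irreducibleComponents ↑U ∧ u ∈ Z}.encard := by
  refine le_antisymm ?_ (iSup_le fun U => iSup_le fun g => iSup_le fun u => iSup_le fun h =>
    encard_components_le_numGeomBranchesAt g u h.1 h.2)
  refine ENat.forall_natCast_le_iff_le.mp fun n hn => ?_
  obtain ⟨_, ⟨V, hV, rfl⟩, hxV, -⟩ :=
    X.isBasis_affineOpens.exists_subset_of_mem_open (Set.mem_univ x) isOpen_univ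
  replace hV : IsAffineOpen V := hV
  rw [(numBranches_stalk_eq hV hxV).2] at hn
  let p := (hV.primeIdealOf ⟨x, hxV⟩).asIdeal
  let Ω := SeparableClosure p.ResidueField
  obtain ⟨_, _, _, hS⟩ := isStrictHenselization_hens_atPrime p Ω
  rw [← card_minimalPrimes_strictHenselization_eq_numGeomBranches (Localization.AtPrime p)
    (Hens Γ(X, V) Ω)] at hn
  obtain ⟨i, hi⟩ := Hens.exists_le_card_minimalPrimes n hn
  obtain ⟨U, g, u, hg, hgu, hcard, -⟩ := exists_nbhd_of_index hV hxV i
    (Groth.Sga3.HensPoint.comap_ker p i.pt)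
  exact le_iSup_of_le U (le_iSup_of_le g (le_iSup_of_le u (le_iSup_of_le ⟨hg, hgu⟩ (hcard ▸ hi))))

theorem numBranchesAt_eq_iSup (X : Scheme.{u}) (x : X) :
    Brnch.numBranchesAt X x = ⨆ (U : Scheme.{u}) (g : U ⟶ X) (u : U) (_ : Hens2.IsEtaleNbhd g u x),
      {Z : Set ↑U | Z ∈ irreducibleComponents ↑U ∧ u ∈ Z}.encard := by
  refine le_antisymm ?_ (iSup_le fun U => iSup_le fun g => iSup_le fun u => iSup_le fun h =>
    encard_components_le_numBranchesAt g u h)
  refine ENat.forall_natCast_le_iff_le.mp fun n hn => ?_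
  obtain ⟨_, ⟨V, hV, rfl⟩, hxV, -⟩ :=
    X.isBasis_affineOpens.exists_subset_of_mem_open (Set.mem_univ x) isOpen_univ
  replace hV : IsAffineOpen V := hV
  rw [(numBranches_stalk_eq hV hxV).1] at hn
  let p := (hV.primeIdealOf ⟨x, hxV⟩).asIdeal
  obtain ⟨Rh, _, _, _, _, _⟩ := Groth.Agent.S0506.result (Localization.AtPrime p)
  let _ : Algebra Γ(X, V) Rh :=
    ((algebraMap (Localization.AtPrime p) Rh).comp (algebraMap Γ(X, V) _)).toAlgebra
  have : IsScalarTower Γ(X, V) (Localization.AtPrime p) Rh := .of_algebraMap_eq fun _ => rfl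
  obtain ⟨τ, Φ, hΦ, -⟩ := exists_hens_comparison (p := p) Rh
  rw [← card_minimalPrimes_henselization_eq_numBranches (Localization.AtPrime p) Rh,
    ← card_minimalPrimes_congr (RingEquiv.ofBijective Φ hΦ)] at hn
  obtain ⟨i, hi⟩ := Hens.exists_le_card_minimalPrimes n hn
  obtain ⟨hq, -⟩ := residueField_bijective_of_point i.pt i.q rfl
  obtain ⟨U, g, u, hg, hgu, hcard, hres⟩ := exists_nbhd_of_index hV hxV i hq.symm
  refine le_iSup_of_le U (le_iSup_of_le g (le_iSup_of_le u (le_iSup_of_le ⟨hg, hgu, hres fun c => ?_⟩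
    (hcard ▸ hi))))
  obtain ⟨⟨a, t, ht⟩, hat⟩ := IsLocalization.surj (nonZeroDivisors (Γ(X, V) ⧸ p)) (i.pt c)
  obtain ⟨a, rfl⟩ := Ideal.Quotient.mk_surjective a
  obtain ⟨t, rfl⟩ := Ideal.Quotient.mk_surjective t
  rw [Ideal.algebraMap_quotient_residueField_mk, Ideal.algebraMap_quotient_residueField_mk] at hat
  refine ⟨a, t, fun h => nonZeroDivisors.ne_zero ht (Ideal.Quotient.eq_zero_iff_mem.mpr h), ?_⟩
  show i.pt _ = 0
  rw [map_sub, map_mul, AlgHom.commutes, AlgHom.commutes, mul_comm, hat, sub_self]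

/-- A supremum of counts all at least one equals one iff all counts are one. -/
theorem iSup_nbhd_eq_one_iff {P : ∀ (U : Scheme.{u}), (U ⟶ X) → U → Prop}
    (hP : ∃ (U : Scheme.{u}) (g : U ⟶ X) (u : U), P U g u) :
    (⨆ (U : Scheme.{u}) (g : U ⟶ X) (u : U) (_ : P U g u),
      {Z : Set ↑U | Z ∈ irreducibleComponents ↑U ∧ u ∈ Z}.encard) = 1 ↔
    ∀ (U : Scheme.{u}) (g : U ⟶ X) (u : U), P U g u →
      {Z : Set ↑U | Z ∈ irreducibleComponents ↑U ∧ u ∈ Z}.encard = 1 := by
  refine ⟨fun h U g u hu => le_antisymm ?_ (one_le_encard_components u), fun h => ?_⟩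
  · rw [← h]
    exact le_iSup_of_le U (le_iSup_of_le g (le_iSup_of_le u (le_iSup_of_le hu le_rfl)))
  · refine le_antisymm (iSup_le fun U => iSup_le fun g => iSup_le fun u => iSup_le fun hu => (h U g u hu).le) ?_
    obtain ⟨U, g, u, hu⟩ := hP
    exact le_iSup_of_le U (le_iSup_of_le g (le_iSup_of_le u (le_iSup_of_le hu (h U g u hu).ge)))

theorem isUnibranch_stalk_iff_nbhds (X : Scheme.{u}) (x : X) :
    CAlg2.IsUnibranch ↑(X.presheaf.stalk x) ↔ ∀ (U : Scheme.{u}) (g : U ⟶ X) (u : U), Hens2.IsEtaleNbhd g u x →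
      {Z : Set ↑U | Z ∈ irreducibleComponents ↑U ∧ u ∈ Z}.encard = 1 := by
  rw [← numBranches_eq_one_iff, ← iSup_nbhd_eq_one_iff (X := X) (P := fun U g u => Hens2.IsEtaleNbhd g u x)
    ⟨X, 𝟙 X, x, inferInstance, rfl, by
      rw [Scheme.residueFieldMap_id]; exact Function.bijective_id⟩,
    ← numBranchesAt_eq_iSup]
  rfl

theorem isGeomUnibranch_stalk_iff_nbhds (X : Scheme.{u}) (x : X) :
    CAlg2.IsGeomUnibranch ↑(X.presheaf.stalk x) ↔ ∀ (U : Scheme.{u}) (g : U ⟶ X) (u : U), Etale g → g u = x →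
      {Z : Set ↑U | Z ∈ irreducibleComponents ↑U ∧ u ∈ Z}.encard = 1 := by
  rw [← numGeomBranches_eq_one_iff]
  refine Iff.trans ?_ (Iff.trans (iSup_nbhd_eq_one_iff (X := X) (P := fun U g u => Etale g ∧ g u = x)
    ⟨X, 𝟙 X, x, inferInstance, rfl⟩) ⟨fun h U g u h1 h2 => h U g u ⟨h1, h2⟩, fun h U g u h1 => h U g u h1.1 h1.2⟩)
  rw [← numGeomBranchesAt_eq_iSup]
  rfl

end Groth.Hensel1
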