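import Groth.Agent.Hensel1.Local
import Groth.Prelude.Def_EssEt
import Mathlib.RingTheory.Unramified.LocalRing
import Mathlib.RingTheory.QuasiFinite.Basic

/-!
# Essentially étale local algebras and maps out of them
-/

set_option autoImplicit false

namespace Groth.Hensel1

open IsLocalRing TensorProduct

universe u v w

/-- Points of a finite type formally unramified algebra in a local ring are determined by their
residues. -/
theorem algHom_eq_of_residue_eq {R : Type u} [CommRing R] {T : Type v} [CommRing T] [IsLocalRing T]
    [Algebra R T] {A : Type w} [CommRing A] [Algebra R A] [Algebra.FiniteType R A]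
    [Algebra.FormallyUnramified R A] {f g : A →ₐ[R] T}
    (h : ∀ a, residue T (f a) = residue T (g a)) : f = g := by
  let F : T ⊗[R] A →ₐ[T] T :=
    Algebra.TensorProduct.lift (AlgHom.id T T) f (fun _ _ => Commute.all _ _)
  let G : T ⊗[R] A →ₐ[T] T :=
    Algebra.TensorProduct.lift (AlgHom.id T T) g (fun _ _ => Commute.all _ _)
  have key : F = G := algHom_eq_of_mk_eq (I := maximalIdeal T)
    (IsLocalRing.maximalIdeal_le_jacobson ⊥) fun x => by
    induction x with
    | zero => simp
    | tmul t a =>
      simp only [F, G, Algebra.TensorProduct.lift_tmul, AlgHom.id_apply, ← mul_sub]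
      exact Ideal.mul_mem_left _ _ (Ideal.Quotient.eq.mp (h a))
    | add x y hx hy =>
      rw [map_add, map_add, add_sub_add_comm]
      exact add_mem hx hy
  ext a
  simpa [F, G] using DFunLike.congr_fun key (1 ⊗ₜ a)

section AtPrime

variable (A : Type u) [CommRing A] [IsLocalRing A] (C : Type u) [CommRing C] [Algebra A C]
  (q : Ideal C) [q.IsPrime]

lemma isLocalHom_atPrime (hq : q.comap (algebraMap A C) = maximalIdeal A) :
    IsLocalHom (algebraMap A (Localization.AtPrime q)) := by
  refine ((local_hom_TFAE _).out 0 2 rfl rfl).mpr (Ideal.map_le_iff_le_comap.mpr fun a ha => ?_)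
  rw [Ideal.mem_comap, IsScalarTower.algebraMap_apply A C (Localization.AtPrime q)]
  refine (IsLocalization.AtPrime.to_map_mem_maximal_iff (Localization.AtPrime q) q _).mpr ?_
  rw [← hq] at ha
  exact ha

lemma map_maximalIdeal_atPrime [Algebra.Etale A C]
    (hq : q.comap (algebraMap A C) = maximalIdeal A) :
    (maximalIdeal A).map (algebraMap A (Localization.AtPrime q)) =
      maximalIdeal (Localization.AtPrime q) := by
  have := isLocalHom_atPrime A C q hq
  have : Algebra.FormallyUnramified C (Localization.AtPrime q) :=
    .of_isLocalization q.primeCompl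
  have : Algebra.FormallyUnramified A (Localization.AtPrime q) := .comp A C _
  have : Algebra.EssFiniteType C (Localization.AtPrime q) :=
    .of_isLocalization _ q.primeCompl
  have : Algebra.EssFiniteType A (Localization.AtPrime q) := .comp A C _
  exact Algebra.FormallyUnramified.map_maximalIdeal

/-- Maps out of an étale algebra localized at a prime over the maximal ideal into a henselian local
ring are determined by the residue field map. -/
theorem existsUnique_ringHom_atPrime [Algebra.Etale A C] {B : Type v} [CommRing B]
    [HenselianLocalRing B] (ψ : A →+* B)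
    (α : C →+* ResidueField B) (hαq : RingHom.ker α = q)
    (hα : α.comp (algebraMap A C) = (residue B).comp ψ) :
    ∃! g : Localization.AtPrime q →+* B, g.comp (algebraMap A _) = ψ ∧
      ∀ c : C, residue B (g (algebraMap C _ c)) = α c := by
  let := ψ.toAlgebra
  have : IsScalarTower A B (ResidueField B) := IsScalarTower.of_algebraMap_eq fun _ => rfl
  let σ : C →ₐ[A] ResidueField B :=
    { α with commutes' := fun a => DFunLike.congr_fun hα a }
  obtain ⟨f, hf, huniq⟩ := existsUnique_algHom_lift_residue (T := B) σ
  have hunit : ∀ c : q.primeCompl, IsUnit (f c) := fun c => by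
    refine IsUnit.of_map (residue B) _ ?_
    rw [hf]
    exact isUnit_iff_ne_zero.mpr fun h => c.2 (hαq.le (show (c : C) ∈ RingHom.ker α from h))
  refine ⟨IsLocalization.lift (S := Localization.AtPrime q) (g := f.toRingHom) hunit, ⟨?_, ?_⟩, ?_⟩
  · ext a
    rw [RingHom.comp_apply, IsScalarTower.algebraMap_apply A C (Localization.AtPrime q),
      IsLocalization.lift_eq]
    exact f.commutes a
  · intro c
    rw [IsLocalization.lift_eq]
    exact hf c
  · rintro g ⟨hg₁, hg₂⟩
    let g' : C →ₐ[A] B :=
      { g.comp (algebraMap C (Localization.AtPrime q)) with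
        commutes' := fun a => by
          have := DFunLike.congr_fun hg₁ a
          rwa [RingHom.comp_apply,
            IsScalarTower.algebraMap_apply A C (Localization.AtPrime q)] at this }
    have : g' = f := huniq g' hg₂
    refine IsLocalization.ringHom_ext q.primeCompl (RingHom.ext fun c => ?_)
    rw [RingHom.comp_apply, RingHom.comp_apply, IsLocalization.lift_eq]
    exact DFunLike.congr_fun this c

end AtPrime

section EssEt

open EGA4loc

variable {A A' : Type u} [CommRing A] [IsLocalRing A] [CommRing A'] [IsLocalRing A'] [Algebra A A']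

lemma map_maximalIdeal_of_essentiallyEtale (h : IsEssentiallyEtale A A') :
    (maximalIdeal A).map (algebraMap A A') = maximalIdeal A' := by
  obtain ⟨C, _, _, q, _, _, hq, ⟨e⟩⟩ := h
  have h1 := congr_arg (Ideal.map (e.symm.toRingEquiv : Localization.AtPrime q →+* A'))
    (map_maximalIdeal_atPrime A C q hq)
  rw [Ideal.map_map] at h1
  have h2 : (maximalIdeal (Localization.AtPrime q)).map
      (e.symm.toRingEquiv : Localization.AtPrime q →+* A') = maximalIdeal A' :=
    IsLocalRing.map_maximalIdeal_of_surjective _ e.symm.surjective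
  rw [h2] at h1
  rw [← h1]
  congr 1
  exact (RingHom.ext fun a => e.symm.commutes a).symm

/-- EGA IV 18.8.4: factorization through an essentially étale local algebra. -/
theorem existsUnique_ringHom_of_essentiallyEtale [IsLocalHom (algebraMap A A')]
    (h : IsEssentiallyEtale A A') {B : Type v} [CommRing B] [HenselianLocalRing B]
    (ψ : A →+* B) (α : ResidueField A' →+* ResidueField B)
    (hα : ∀ a : A, α (residue A' (algebraMap A A' a)) = residue B (ψ a)) :
    ∃! ψ' : A' →+* B, ψ'.comp (algebraMap A A') = ψ ∧
      ∀ x : A', residue B (ψ' x) = α (residue A' x) := by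
  obtain ⟨C, _, _, q, _, _, hq, ⟨e⟩⟩ := h
  let β : C →+* ResidueField B :=
    α.comp ((residue A').comp ((e.symm.toRingEquiv : Localization.AtPrime q →+* A').comp
      (algebraMap C (Localization.AtPrime q))))
  have hβ : RingHom.ker β = q := by
    ext c
    simp only [RingHom.mem_ker, β, RingHom.comp_apply, map_eq_zero_iff α α.injective,
      residue_eq_zero_iff, mem_maximalIdeal, mem_nonunits_iff]
    show ¬ IsUnit (e.symm (algebraMap C (Localization.AtPrime q) c)) ↔ c ∈ q
    rw [isUnit_map_iff e.symm]
    exact IsLocalization.AtPrime.to_map_mem_maximal_iff _ q c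
  obtain ⟨g, ⟨hg₁, hg₂⟩, huniq⟩ := existsUnique_ringHom_atPrime A C q ψ β hβ (RingHom.ext fun a => by
    simp only [β, RingHom.comp_apply, ← hα]
    congr 2
    show e.symm (algebraMap C _ (algebraMap A C a)) = algebraMap A A' a
    rw [← IsScalarTower.algebraMap_apply]
    exact e.symm.commutes a)
  refine ⟨g.comp e.toRingEquiv.toRingHom, ⟨RingHom.ext fun a => ?_, fun x => ?_⟩, ?_⟩
  · show g (e (algebraMap A A' a)) = ψ a
    rw [e.commutes]
    exact DFunLike.congr_fun hg₁ a
  · show residue B (g (e x)) = _
    obtain ⟨⟨c, s⟩, hcs⟩ := IsLocalization.surj q.primeCompl (e x)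
    have h1 : residue B (g (e x)) * β s = β c := by
      rw [← hg₂, ← hg₂, ← map_mul, ← map_mul, hcs]
    have h2 : α (residue A' x) * β s = β c := by
      simp only [β, RingHom.comp_apply, ← map_mul, ← hcs]
      congr 2
      show x * e.symm (algebraMap C _ (s : C)) = e.symm (e x * algebraMap C _ (s : C))
      rw [map_mul, AlgEquiv.symm_apply_apply]
    have hs : β s ≠ 0 := fun h => s.2 (hβ.le (show (s : C) ∈ RingHom.ker β from h))
    exact mul_right_cancel₀ hs (h1.trans h2.symm)
  · rintro ψ' ⟨h₁, h₂⟩
    have hk := huniq (ψ'.comp e.symm.toRingEquiv.toRingHom) ⟨RingHom.ext fun a => by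
      show ψ' (e.symm (algebraMap A _ a)) = ψ a
      rw [e.symm.commutes]; exact DFunLike.congr_fun h₁ a, fun c => h₂ _⟩
    rw [← hk]
    ext x
    show ψ' x = ψ' (e.symm (e x))
    rw [AlgEquiv.symm_apply_apply]

omit [IsLocalRing A'] in
/-- An algebra map out of an essentially étale local algebra is determined by its residues. -/
theorem algHom_eq_of_essentiallyEtale (h : IsEssentiallyEtale A A') {T : Type v} [CommRing T]
    [IsLocalRing T] [Algebra A T] {f g : A' →ₐ[A] T}
    (hfg : ∀ x, residue T (f x) = residue T (g x)) : f = g := by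
  obtain ⟨C, _, _, q, _, _, hq, ⟨e⟩⟩ := h
  have h1 : f.comp (e.symm.toAlgHom.comp (IsScalarTower.toAlgHom A C _)) =
      g.comp (e.symm.toAlgHom.comp (IsScalarTower.toAlgHom A C _)) :=
    algHom_eq_of_residue_eq fun c => hfg _
  have h2 : f.comp e.symm.toAlgHom = g.comp e.symm.toAlgHom :=
    IsLocalization.algHom_ext q.primeCompl h1
  ext x
  simpa using DFunLike.congr_fun h2 (e x)

/-- An algebra map from an essentially étale local algebra to a local algebra with local structure
map is local. -/
theorem isLocalHom_of_essentiallyEtale (h : IsEssentiallyEtale A A') {T : Type v} [CommRing T]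
    [IsLocalRing T] [Algebra A T] [IsLocalHom (algebraMap A T)] (f : A' →ₐ[A] T) :
    IsLocalHom f.toRingHom := by
  refine ((local_hom_TFAE f.toRingHom).out 0 2 rfl rfl).mpr ?_
  rw [← map_maximalIdeal_of_essentiallyEtale h, Ideal.map_map]
  refine le_trans (le_of_eq ?_) (((local_hom_TFAE (algebraMap A T)).out 0 2 rfl rfl).mp ‹_›)
  congr 1
  exact RingHom.ext f.commutes

end EssEt

end Groth.Hensel1
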