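import Groth.Agent.Hensel1.Unibranch
import Groth.Agent.Hensel1.Reduced
import Groth.Prelude.Def_CAlgX

/-!
# (Geometrically) unibranch local rings and (strict) henselizations
-/

set_option autoImplicit false

namespace Groth.Hensel1

open IsLocalRing
open scoped TensorProduct

universe u

theorem hasUniqueMinimalPrime_iff (A : Type u) [CommRing A] :
    CAlgX.HasUniqueMinimalPrime A ↔ (nilradical A).IsPrime := by
  constructor
  · rintro ⟨P, hP, hu⟩
    have hPp := Ideal.minimalPrimes_isPrime hP
    suffices nilradical A = P by rwa [this]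
    refine le_antisymm (nilradical_le_prime P) ?_
    rw [nilradical_eq_sInf]
    refine le_sInf fun Q (hQ : Q.IsPrime) => ?_
    obtain ⟨P', hP', hle⟩ := Ideal.exists_minimalPrimes_le (I := (⊥ : Ideal A)) (J := Q) bot_le
    rw [← hu P' hP']
    exact hle
  · intro h
    have hmin : nilradical A ∈ minimalPrimes A :=
      ⟨⟨h, bot_le⟩, fun Q hQ _ => by have := hQ.1; exact nilradical_le_prime Q⟩
    refine ⟨_, hmin, fun Q hQ => ?_⟩
    have hQp := Ideal.minimalPrimes_isPrime hQ
    exact le_antisymm (hQ.2 ⟨h, bot_le⟩ (nilradical_le_prime Q)) (nilradical_le_prime Q)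

/-- The reduction of a local ring is local, with a local projection. -/
theorem isLocalRing_red (R : Type u) [CommRing R] [IsLocalRing R] : IsLocalRing (CAlg2.red R) := by
  have : Nontrivial (CAlg2.red R) := Ideal.Quotient.nontrivial_iff.mpr fun h =>
    not_isNilpotent_one (mem_nilradical.mp (h ▸ Submodule.mem_top : (1 : R) ∈ nilradical R))
  exact IsLocalRing.of_surjective' _ Ideal.Quotient.mk_surjective

variable (R S : Type u) [CommRing R] [IsLocalRing R] [CommRing S] [IsLocalRing S] [Algebra R S]

/-- Kernel of the projection to the reduction. -/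
theorem nilradical_isPrime_iff_isDomain_tensor [IsReduced (CAlg2.red R ⊗[R] S)] :
    (nilradical S).IsPrime ↔ IsDomain (CAlg2.red R ⊗[R] S) := by
  let π : S →ₐ[R] CAlg2.red R ⊗[R] S :=
    (Algebra.TensorProduct.map (Ideal.Quotient.mkₐ R (nilradical R)) (AlgHom.id R S)).comp
      (Algebra.TensorProduct.lid R S).symm.toAlgHom
  have hπ : Function.Surjective π :=
    (TensorProduct.map_surjective (Ideal.Quotient.mkₐ_surjective R _) Function.surjective_id).comp
      (Algebra.TensorProduct.lid R S).symm.surjective
  have hker : RingHom.ker π.toRingHom = nilradical S := by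
    refine le_antisymm (fun x hx => ?_) fun x hx => ?_
    · have hx' : (Algebra.TensorProduct.lid R S).symm x ∈ RingHom.ker
          (Algebra.TensorProduct.map (Ideal.Quotient.mkₐ R (nilradical R)) (AlgHom.id R S)) := hx
      rw [Algebra.TensorProduct.rTensor_ker _ (Ideal.Quotient.mkₐ_surjective R (nilradical R))] at hx'
      have h1 := Ideal.mem_map_of_mem (Algebra.TensorProduct.lid R S).toAlgHom.toRingHom hx'
      simp only [AlgHom.toRingHom_eq_coe, RingHom.coe_coe, AlgEquiv.toAlgHom_eq_coe,
        AlgEquiv.coe_algHom, AlgEquiv.apply_symm_apply] at h1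
      refine (?_ : _ ≤ nilradical S) h1
      rw [Ideal.map_le_iff_le_comap, Ideal.map_le_iff_le_comap]
      intro a ha
      have ha' : a ∈ nilradical R := by rwa [← Ideal.mk_ker (I := nilradical R)]
      refine mem_nilradical.mpr ?_
      exact ((mem_nilradical.mp ha').map (Algebra.TensorProduct.includeLeft : R →ₐ[R] R ⊗[R] S)).map
        (Algebra.TensorProduct.lid R S).toAlgHom
    · exact IsNilpotent.eq_zero ((mem_nilradical.mp hx).map π)
  rw [← hker]
  let e := RingHom.quotientKerEquivOfSurjective (f := π.toRingHom) hπ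
  exact (Ideal.Quotient.isDomain_iff_prime _).symm.trans
    ⟨fun _ => e.symm.injective.isDomain, fun _ => e.injective.isDomain⟩

variable [IsLocalHom (algebraMap R S)]

/-- A local ring is unibranch iff its henselization has prime nilradical. -/
theorem isUnibranch_iff_henselization [Hensel.IsHenselization R S] :
    CAlg2.IsUnibranch R ↔ (nilradical S).IsPrime := by
  have := isLocalRing_red R
  have := isLocalHom_of_isIntegral' R (CAlg2.red R)
  obtain ⟨_, _, hT⟩ := Groth.Agent.S2801.result R (CAlg2.red R) S
  obtain ⟨M⟩ := hensModel_of_isHenselization (R := CAlg2.red R) (S := CAlg2.red R ⊗[R] S)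
  have : IsReduced (CAlg2.red R) :=
    (Ideal.isRadical_iff_quotient_reduced _).mp (Ideal.radical_isRadical _)
  have := M.isReduced_iff.mp inferInstance
  rw [nilradical_isPrime_iff_isDomain_tensor R S]
  refine ⟨fun ⟨h1, h2⟩ => (isDomain_henselization_iff _ _).mpr h2, fun h => ?_⟩
  have := M.faithfullyFlat
  have hd : IsDomain (CAlg2.red R) :=
    (FaithfulSMul.algebraMap_injective (CAlg2.red R) (CAlg2.red R ⊗[R] S)).isDomain
      (algebraMap (CAlg2.red R) (CAlg2.red R ⊗[R] S))
  exact ⟨hd, (isDomain_henselization_iff _ _).mp h⟩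

theorem reduced_isUnibranch_iff_isDomain [Hensel.IsHenselization R S] :
    (IsReduced R ∧ CAlg2.IsUnibranch R) ↔ IsDomain S := by
  obtain ⟨M⟩ := hensModel_of_isHenselization (R := R) (S := S)
  rw [isUnibranch_iff_henselization R S, M.isReduced_iff]
  refine ⟨fun ⟨_, h⟩ => ?_, fun _ => ⟨inferInstance, ?_⟩⟩
  · rw [nilradical_eq_zero] at h
    have := h
    exact IsDomain.of_bot_isPrime S
  · rw [nilradical_eq_zero]
    exact Ideal.isPrime_bot

/-- A local domain is geometrically unibranch iff its strict henselization is a domain. -/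
theorem isDomain_strictHenselization_iff [IsDomain R] [Hensel.IsStrictHenselization R S] :
    IsDomain S ↔ ∃ _ : IsLocalRing (integralClosure R (FractionRing R)),
      ∀ _h : IsLocalHom (algebraMap R (integralClosure R (FractionRing R))),
        IsPurelyInseparable (ResidueField R) (ResidueField (integralClosure R (FractionRing R))) := by
  obtain ⟨M⟩ := hensModel_of_isStrictHenselization (R := R) (S := S)
  have := M.flat
  have := M.faithfullyFlat
  have := (inferInstance : Hensel.IsStrictHenselization R S).henselian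
  let R' := integralClosure R (FractionRing R)
  constructor
  · intro _
    have : FaithfulSMul R S := (faithfulSMul_iff_algebraMap_injective R S).mpr
      (FaithfulSMul.algebraMap_injective R S)
    have := isDomain_tensor R R' S (FractionRing R) R'.val Subtype.val_injective
    let _ : Algebra S (R' ⊗[R] S) := Algebra.TensorProduct.rightAlgebra
    have : Algebra.IsIntegral S (R' ⊗[R] S) :=
      Algebra.IsIntegral.of_surjective (Algebra.TensorProduct.commRight R S R').toAlgHom
        (Algebra.TensorProduct.commRight R S R').surjective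
    have := isLocalRing_of_isIntegral_of_isDomain S (R' ⊗[R] S)
    have h : IsLocalRing R' := isLocalRing_of_tensor R R' S
    exact ⟨h, fun _ => isPurelyInseparable_residueField_of_tensor R R' S⟩
  · rintro ⟨hloc, hins⟩
    have := isLocalHom_of_isIntegral' R R'
    have := hins this
    obtain ⟨_, _, hT⟩ := isStrictHenselization_tensor R R' S
    obtain ⟨M'⟩ := hensModel_of_isStrictHenselization (R := R') (S := R' ⊗[R] S)
    have h := M'.normal_iff.mp ⟨inferInstance, isIntegrallyClosed_normalization R⟩
    have := h.1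
    have hinj : Function.Injective (Algebra.TensorProduct.includeRight : S →ₐ[R] R' ⊗[R] S) := by
      have h1 : Function.Injective
          (Algebra.TensorProduct.map (Algebra.ofId R R') (AlgHom.id R S)) :=
        Module.Flat.rTensor_preserves_injective_linearMap (M := S) (Algebra.ofId R R').toLinearMap
          (FaithfulSMul.algebraMap_injective R R')
      intro a b hab
      have h2 := h1 (a₁ := (1 : R) ⊗ₜ[R] a) (a₂ := (1 : R) ⊗ₜ[R] b) (by simpa using hab)
      exact (Algebra.TensorProduct.lid R S).symm.injective h2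
    exact hinj.isDomain

/-- The residue condition in the definition of geometrically unibranch. -/
theorem isGeomUnibranch_iff :
    CAlg2.IsGeomUnibranch R ↔ IsDomain (CAlg2.red R) ∧
      ∃ (_ : IsLocalRing (CAlg2.red R)) (_ : IsLocalRing (CAlg2.normRed R)),
        ∀ _h : IsLocalHom (algebraMap (CAlg2.red R) (CAlg2.normRed R)),
          IsPurelyInseparable (ResidueField (CAlg2.red R)) (ResidueField (CAlg2.normRed R)) := by
  have h0 := isLocalRing_red R
  constructor
  · rintro ⟨⟨h1, h2⟩, h3⟩
    refine ⟨h1, h0, h2, fun _ => ?_⟩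
    obtain ⟨q, hq⟩ := ExpChar.exists (ResidueField (CAlg2.red R))
    refine (isPurelyInseparable_iff_pow_mem _ q).mpr fun x => ?_
    have := expChar_of_injective_ringHom
      (algebraMap (ResidueField (CAlg2.red R)) (ResidueField (CAlg2.normRed R))).injective q
    have hqe : ringExpChar (ResidueField (CAlg2.normRed R)) = q := ringExpChar.eq _ q
    obtain ⟨n, a, ha⟩ := h3 (maximalIdeal (CAlg2.normRed R)) x
    refine ⟨n, residue _ (Ideal.Quotient.mk (nilradical R) a), ?_⟩
    rw [← hqe]
    exact ha
  · rintro ⟨h1, _, h2, h3⟩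
    refine ⟨⟨h1, h2⟩, fun m' hm' => ?_⟩
    obtain rfl := IsLocalRing.eq_maximalIdeal hm'
    intro x
    have hloc := isLocalHom_of_isIntegral' (CAlg2.red R) (CAlg2.normRed R)
    have := h3 hloc
    obtain ⟨q, hq⟩ := ExpChar.exists (ResidueField (CAlg2.red R))
    have := expChar_of_injective_ringHom
      (algebraMap (ResidueField (CAlg2.red R)) (ResidueField (CAlg2.normRed R))).injective q
    have hqe : ringExpChar (ResidueField (CAlg2.normRed R)) = q := ringExpChar.eq _ q
    let y : ResidueField (CAlg2.normRed R) := x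
    obtain ⟨n, a, ha⟩ := IsPurelyInseparable.pow_mem (ResidueField (CAlg2.red R)) q y
    obtain ⟨a, rfl⟩ := residue_surjective a
    obtain ⟨a, rfl⟩ := Ideal.Quotient.mk_surjective a
    refine ⟨n, a, ?_⟩
    rw [← hqe] at ha
    exact ha

/-- A local ring is geometrically unibranch iff its strict henselization has prime nilradical. -/
theorem isGeomUnibranch_iff_strictHenselization [Hensel.IsStrictHenselization R S] :
    CAlg2.IsGeomUnibranch R ↔ (nilradical S).IsPrime := by
  have := isLocalRing_red R
  have := isLocalHom_of_isIntegral' R (CAlg2.red R)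
  have : IsPurelyInseparable (ResidueField R) (ResidueField (CAlg2.red R)) := by
    obtain ⟨q, hq⟩ := ExpChar.exists (ResidueField R)
    refine (isPurelyInseparable_iff_pow_mem _ q).mpr fun x => ⟨0, ?_⟩
    obtain ⟨x, rfl⟩ := residue_surjective x
    obtain ⟨x, rfl⟩ := Ideal.Quotient.mk_surjective x
    exact ⟨residue R x, by rw [pow_zero, pow_one]; rfl⟩
  obtain ⟨_, _, hT⟩ := isStrictHenselization_tensor R (CAlg2.red R) S
  obtain ⟨M⟩ := hensModel_of_isStrictHenselization (R := CAlg2.red R) (S := CAlg2.red R ⊗[R] S)
  have : IsReduced (CAlg2.red R) :=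
    (Ideal.isRadical_iff_quotient_reduced _).mp (Ideal.radical_isRadical _)
  have := M.isReduced_iff.mp inferInstance
  rw [nilradical_isPrime_iff_isDomain_tensor R S, isGeomUnibranch_iff R]
  refine ⟨fun ⟨h1, _, h2, h3⟩ => (isDomain_strictHenselization_iff (CAlg2.red R) (CAlg2.red R ⊗[R] S)).mpr ⟨h2, h3⟩, fun h => ?_⟩
  have := M.faithfullyFlat
  have hd : IsDomain (CAlg2.red R) :=
    (FaithfulSMul.algebraMap_injective (CAlg2.red R) (CAlg2.red R ⊗[R] S)).isDomain
      (algebraMap (CAlg2.red R) (CAlg2.red R ⊗[R] S))
  obtain ⟨h2, h3⟩ := (isDomain_strictHenselization_iff (CAlg2.red R) (CAlg2.red R ⊗[R] S)).mp h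
  exact ⟨hd, inferInstance, h2, h3⟩

theorem reduced_isGeomUnibranch_iff_isDomain [Hensel.IsStrictHenselization R S] :
    (IsReduced R ∧ CAlg2.IsGeomUnibranch R) ↔ IsDomain S := by
  obtain ⟨M⟩ := hensModel_of_isStrictHenselization (R := R) (S := S)
  rw [isGeomUnibranch_iff_strictHenselization R S, M.isReduced_iff]
  refine ⟨fun ⟨_, h⟩ => ?_, fun _ => ⟨inferInstance, ?_⟩⟩
  · rw [nilradical_eq_zero] at h
    have := h
    exact IsDomain.of_bot_isPrime S
  · rw [nilradical_eq_zero]
    exact Ideal.isPrime_bot

end Groth.Hensel1
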