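import Groth.Agent.Hensel1.EssEt
import Groth.Agent.Hensel1.Std
import Groth.Agent.Hensel1.UnibranchCriterion
import Mathlib.RingTheory.Localization.BaseChange
import Mathlib.FieldTheory.SeparableClosure

/-!
# Strict henselizations along essentially étale local maps
-/

set_option autoImplicit false

namespace Groth.Hensel1

open IsLocalRing
open scoped TensorProduct

universe u

/-- Existence of strict henselizations. -/
theorem exists_isStrictHenselization (A : Type u) [CommRing A] [IsLocalRing A] :
    ∃ (T : Type u) (_ : CommRing T) (_ : IsLocalRing T) (_ : Algebra A T)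
      (_ : IsLocalHom (algebraMap A T)), Hensel.IsStrictHenselization A T :=
  ⟨Hens A (SeparableClosure (ResidueField A)), inferInstance, inferInstance, inferInstance,
    inferInstance, isStrictHenselization_hens A (SeparableClosure (ResidueField A))⟩

/-- A strict henselization of an essentially étale local algebra is one of the base. -/
theorem isStrictHenselization_of_essentiallyEtale {A B : Type u} [CommRing A] [IsLocalRing A]
    [CommRing B] [IsLocalRing B] [Algebra A B] [IsLocalHom (algebraMap A B)]
    (h : EGA4loc.IsEssentiallyEtale A B)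
    (T : Type u) [CommRing T] [IsLocalRing T] [Algebra B T] [IsLocalHom (algebraMap B T)]
    [Hensel.IsStrictHenselization B T] [Algebra A T] [IsScalarTower A B T]
    [IsLocalHom (algebraMap A T)] : Hensel.IsStrictHenselization A T := by
  have hT := (inferInstance : Hensel.IsStrictHenselization B T)
  have : Algebra.IsSeparable (ResidueField A) (ResidueField B) := by
    obtain ⟨C, _, _, q, _, _, -, ⟨e⟩⟩ := h
    have : Algebra.FormallyUnramified C (Localization.AtPrime q) := .of_isLocalization q.primeCompl
    have : Algebra.FormallyUnramified A (Localization.AtPrime q) := .comp A C _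
    have : Algebra.EssFiniteType C (Localization.AtPrime q) := .of_isLocalization _ q.primeCompl
    have : Algebra.EssFiniteType A (Localization.AtPrime q) := .comp A C _
    have : Algebra.FormallyUnramified A B := Algebra.FormallyUnramified.of_equiv e.symm
    have : Algebra.EssFiniteType A B := Algebra.EssFiniteType.of_surjective e.symm.toAlgHom e.symm.surjective
    infer_instance
  have : IsScalarTower (ResidueField A) (ResidueField B) (ResidueField T) := by
    refine IsScalarTower.of_algebraMap_eq fun z => ?_
    obtain ⟨z, rfl⟩ := residue_surjective z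
    exact congrArg (residue T) (IsScalarTower.algebraMap_apply A B T z)
  refine ⟨hT.henselian, ⟨hT.isSepClosure.sep_closed, ?_⟩, fun U _ _ f _ τ hτ => ?_⟩
  · have := hT.isSepClosure.separable
    exact Algebra.IsSeparable.trans (ResidueField A) (ResidueField B) (ResidueField T)
  · obtain ⟨ψ, ⟨hψ, hψr⟩, hψu⟩ := existsUnique_ringHom_of_essentiallyEtale h f
      (τ.comp (algebraMap (ResidueField B) (ResidueField T))) (fun a => by
        have h1 := RingHom.congr_fun hτ (residue A a)
        refine Eq.trans ?_ h1
        show τ (residue T (algebraMap B T (algebraMap A B a))) = τ (residue T (algebraMap A T a))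
        rw [← IsScalarTower.algebraMap_apply])
    have : IsLocalHom ψ := ⟨fun x hx => by
      have h2 : residue U (ψ x) ≠ 0 := (residue_ne_zero_iff_isUnit _).mpr hx
      rw [hψr, map_ne_zero] at h2
      exact (residue_ne_zero_iff_isUnit _).mp h2⟩
    obtain ⟨g, ⟨hg, hgτ⟩, hgu⟩ := hT.universal U ψ τ (by
      refine (RingHom.cancel_right residue_surjective).mp (RingHom.ext fun x => ?_)
      exact (hψr x).symm)
    refine ⟨g, ⟨?_, hgτ⟩, fun g' ⟨hg', hg'τ⟩ => hgu g' ⟨?_, hg'τ⟩⟩
    · rw [IsScalarTower.algebraMap_eq A B T, ← RingHom.comp_assoc, hg, hψ]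
    · refine hψu _ ⟨?_, fun x => hg'τ _⟩
      rw [RingHom.comp_assoc, ← IsScalarTower.algebraMap_eq A B T, hg']

/-- Geometric unibranchness and reducedness only depend on the strict henselization. -/
theorem isGeomUnibranch_iff_of_essentiallyEtale {A B : Type u} [CommRing A] [IsLocalRing A]
    [CommRing B] [IsLocalRing B] [Algebra A B] [IsLocalHom (algebraMap A B)]
    (h : EGA4loc.IsEssentiallyEtale A B) :
    (CAlg2.IsGeomUnibranch A ↔ CAlg2.IsGeomUnibranch B) ∧
      ((IsReduced A ∧ CAlg2.IsGeomUnibranch A) ↔ (IsReduced B ∧ CAlg2.IsGeomUnibranch B)) := by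
  obtain ⟨T, _, _, _, _, _⟩ := exists_isStrictHenselization B
  let _ : Algebra A T := ((algebraMap B T).comp (algebraMap A B)).toAlgebra
  have : IsScalarTower A B T := .of_algebraMap_eq fun _ => rfl
  have : IsLocalHom (algebraMap A T) :=
    inferInstanceAs (IsLocalHom ((algebraMap B T).comp (algebraMap A B)))
  have := isStrictHenselization_of_essentiallyEtale h T
  exact ⟨(isGeomUnibranch_iff_strictHenselization A T).trans
    (isGeomUnibranch_iff_strictHenselization B T).symm,
    (reduced_isGeomUnibranch_iff_isDomain A T).trans (reduced_isGeomUnibranch_iff_isDomain B T).symm⟩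

/-- Localizations of an étale algebra at compatible primes are essentially étale. -/
theorem isEssentiallyEtale_of_isLocalization (A₀ C₀ : Type u) [CommRing A₀] [CommRing C₀]
    [Algebra A₀ C₀] [Algebra.Etale A₀ C₀] (p : Ideal A₀) [p.IsPrime] (q : Ideal C₀) [q.IsPrime]
    [q.LiesOver p] (A : Type u) [CommRing A] [IsLocalRing A] [Algebra A₀ A]
    [IsLocalization.AtPrime A p] (B : Type u) [CommRing B] [IsLocalRing B] [Algebra C₀ B]
    [IsLocalization.AtPrime B q] [Algebra A₀ B] [IsScalarTower A₀ C₀ B] [Algebra A B]
    [IsScalarTower A₀ A B] :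
    IsLocalHom (algebraMap A B) ∧ EGA4loc.IsEssentiallyEtale A B := by
  have hloc : IsLocalHom (algebraMap A B) := ⟨fun z hz => by
    obtain ⟨a, s, rfl⟩ := IsLocalization.exists_mk'_eq p.primeCompl z
    rw [IsLocalization.AtPrime.isUnit_mk'_iff]
    intro ha
    have h1 := congr_arg (algebraMap A B) (IsLocalization.mk'_spec A a s)
    rw [map_mul, ← IsScalarTower.algebraMap_apply, ← IsScalarTower.algebraMap_apply,
      IsScalarTower.algebraMap_apply A₀ C₀ B, IsScalarTower.algebraMap_apply A₀ C₀ B] at h1
    have h2 : IsUnit (algebraMap C₀ B (algebraMap A₀ C₀ (s : A₀))) :=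
      (IsLocalization.AtPrime.isUnit_to_map_iff B q _).mpr fun h => s.2 ((q.mem_of_liesOver p _).mpr h)
    have h3 := hz.mul h2
    rw [h1] at h3
    exact (IsLocalization.AtPrime.isUnit_to_map_iff B q _).mp h3 ((q.mem_of_liesOver p a).mp ha)⟩
  refine ⟨hloc, ?_⟩
  let C := A ⊗[A₀] C₀
  let _ : Algebra C₀ C := Algebra.TensorProduct.rightAlgebra
  have : IsLocalization (Algebra.algebraMapSubmonoid C₀ p.primeCompl) C :=
    IsLocalization.tensorRight (A := A) p.primeCompl
  let ψ : C →ₐ[A] B :=
    Algebra.TensorProduct.lift (Algebra.ofId A B) (IsScalarTower.toAlgHom A₀ C₀ B) fun _ _ => .all _ _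
  let _ : Algebra C B := ψ.toRingHom.toAlgebra
  have : IsScalarTower A C B := .of_algebraMap_eq fun a => (ψ.commutes a).symm
  have : IsScalarTower C₀ C B := .of_algebraMap_eq fun c => by
    show algebraMap C₀ B c = ψ ((1 : A) ⊗ₜ[A₀] c)
    erw [Algebra.TensorProduct.lift_tmul, map_one, one_mul]
    rfl
  let q' : Ideal C := (maximalIdeal B).comap (algebraMap C B)
  have : q'.IsPrime := Ideal.IsPrime.comap _
  have hle : Algebra.algebraMapSubmonoid C₀ p.primeCompl ≤ q.primeCompl := by
    rintro _ ⟨a, ha, rfl⟩
    exact fun h => ha ((q.mem_of_liesOver p a).mpr h)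
  have h1 : IsLocalization (q.primeCompl.map (algebraMap C₀ C)) B :=
    IsLocalization.isLocalization_of_submonoid_le C B (Algebra.algebraMapSubmonoid C₀ p.primeCompl)
      q.primeCompl hle
  have h2 : IsLocalization.AtPrime B q' := by
    refine IsLocalization.of_le (q.primeCompl.map (algebraMap C₀ C)) q'.primeCompl ?_ ?_
    · rintro _ ⟨c, hc, rfl⟩ hmem
      have hm : algebraMap C B (algebraMap C₀ C c) ∈ maximalIdeal B := hmem
      rw [← IsScalarTower.algebraMap_apply] at hm
      exact hm ((IsLocalization.AtPrime.isUnit_to_map_iff B q c).mpr hc)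
    · exact fun r hr => IsLocalRing.notMem_maximalIdeal.mp hr
  refine ⟨C, inferInstance, inferInstance, q', inferInstance, inferInstance, ?_,
    ⟨((IsLocalization.algEquiv q'.primeCompl (Localization.AtPrime q') B).restrictScalars A).symm⟩⟩
  rw [Ideal.comap_comap, ← IsScalarTower.algebraMap_eq]
  exact ((IsLocalRing.local_hom_TFAE (algebraMap A B)).out 0 4).mp hloc

end Groth.Hensel1
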