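import Groth.Agent.Hensel1.Pairs
import Mathlib.RingTheory.TensorProduct.Quotient

/-!
# Lifting maps out of étale algebras into henselian pairs over the base
-/

set_option autoImplicit false

namespace Groth.Hensel1

open TensorProduct

universe u v w

/-- Maps from an étale `A`-algebra to `C/J` lift uniquely to `C` if `(C, J)` is henselian. -/
theorem existsUnique_algHom_etale_lift {A : Type u} [CommRing A] {C : Type v} [CommRing C]
    [Algebra A C] {J : Ideal C} [HenselianRing C J] {E : Type w} [CommRing E] [Algebra A E]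
    [Algebra.Etale A E] (σ : E →ₐ[A] C ⧸ J) :
    ∃! τ : E →ₐ[A] C, (Ideal.Quotient.mkₐ A J).comp τ = σ := by
  let σ' : C ⊗[A] E →ₐ[C] C ⧸ J :=
    Algebra.TensorProduct.lift (Ideal.Quotient.mkₐ C J) σ fun _ _ => Commute.all _ _
  obtain ⟨τ, hτ, huniq⟩ := existsUnique_etale_lift (gabber_of_henselianRing (I := J)) σ'
  refine ⟨(τ.restrictScalars A).comp Algebra.TensorProduct.includeRight,
    AlgHom.ext fun e => ?_, fun τ₁ hτ₁ => ?_⟩
  · have := DFunLike.congr_fun hτ (1 ⊗ₜ e)
    simpa [σ'] using this
  · have h2 := huniq (Algebra.TensorProduct.lift (AlgHom.id C C) τ₁ fun _ _ => Commute.all _ _)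
      (Algebra.TensorProduct.ext (Subsingleton.elim _ _) (AlgHom.ext fun e => by
        simpa [σ'] using DFunLike.congr_fun hτ₁ e))
    rw [← h2]
    exact AlgHom.ext fun e => by simp

/-- Same, in the form of a bijection. -/
theorem bijective_comp_mk {A : Type u} [CommRing A] {C : Type v} [CommRing C] [Algebra A C]
    (J : Ideal C) [HenselianRing C J] (E : Type w) [CommRing E] [Algebra A E] [Algebra.Etale A E] :
    Function.Bijective (fun φ : E →ₐ[A] C => (Ideal.Quotient.mkₐ A J).comp φ) :=
  (Function.bijective_iff_existsUnique _).mpr fun σ => existsUnique_algHom_etale_lift σ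

/-- Over a henselian pair, reduction mod `I` is fully faithful from étale algebras to finite ones. -/
theorem bijective_tensorProduct_map_id {A : Type u} [CommRing A] (I : Ideal A) [HenselianRing A I]
    (B₁ : Type v) (B₂ : Type u) [CommRing B₁] [CommRing B₂] [Algebra A B₁] [Algebra A B₂]
    [Algebra.Etale A B₁] [Module.Finite A B₂] :
    Function.Bijective (fun φ : B₁ →ₐ[A] B₂ =>
      Algebra.TensorProduct.map (AlgHom.id (A ⧸ I) (A ⧸ I)) φ) := by
  have : Algebra.IsIntegral A B₂ := Algebra.IsIntegral.of_finite A B₂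
  have := henselianRing_of_isIntegral (I := I) B₂
  let e : (B₂ ⧸ I.map (algebraMap A B₂)) ≃ₐ[A] (A ⧸ I) ⊗[A] B₂ :=
    ((Algebra.TensorProduct.quotIdealMapEquivTensorQuot B₂ I).restrictScalars A).trans
      (Algebra.TensorProduct.comm A B₂ (A ⧸ I))
  have h := (Algebra.TensorProduct.liftEquivRight A (A ⧸ I) B₁ ((A ⧸ I) ⊗[A] B₂)).bijective.comp
    ((AlgEquiv.arrowCongr (AlgEquiv.refl (A₁ := B₁) (R := A)) e).bijective.comp
      (bijective_comp_mk (I.map (algebraMap A B₂)) B₁))
  convert h using 1
  funext φ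
  refine Algebra.TensorProduct.ext (Subsingleton.elim _ _) (AlgHom.ext fun b => ?_)
  simp [e]

end Groth.Hensel1
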