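import Groth.Agent.Hensel1.Pairs
import Groth.Agent.S9436
import Mathlib.RingTheory.ZariskisMainTheorem
import Mathlib.RingTheory.Ideal.GoingUp
import Mathlib.RingTheory.Unramified.LocalStructure
import Mathlib.RingTheory.Localization.Away.Basic
import Mathlib.RingTheory.TensorProduct.Quotient

/-!
# Finite étale algebras lift along henselian pairs
-/

set_option autoImplicit false

namespace Groth.Hensel1

open TensorProduct

universe u

set_option maxHeartbeats 800000 in
theorem exists_finite_etale_lift {A : Type u} [CommRing A] (I : Ideal A) [HenselianRing A I]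
    (C : Type u) [CommRing C] [Algebra (A ⧸ I) C] [Module.Finite (A ⧸ I) C]
    [Algebra.Etale (A ⧸ I) C] :
    ∃ (B : Type u) (_ : CommRing B) (_ : Algebra A B), Module.Finite A B ∧ Algebra.Etale A B ∧
      Nonempty ((A ⧸ I) ⊗[A] B ≃ₐ[A ⧸ I] C) := by
  classical
  obtain ⟨B, _, _, _, ⟨ε⟩⟩ := Groth.Agent.S9436.result A I C
  let := Algebra.compHom C (Ideal.Quotient.mk I)
  have : IsScalarTower A (A ⧸ I) C := IsScalarTower.of_algebraMap_eq fun _ => rfl
  have : Module.Finite A C := Module.Finite.trans (A ⧸ I) C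
  let ρ : B →ₐ[A] C := (ε.toAlgHom.restrictScalars A).comp Algebra.TensorProduct.includeRight
  have hρsurj : Function.Surjective ρ :=
    ε.surjective.comp (TensorProduct.mk_surjective A B (A ⧸ I) Ideal.Quotient.mk_surjective)
  have hker : ∀ x, ρ x = 0 → x ∈ I.map (algebraMap A B) := by
    intro x hx
    have h1 : (1 : A ⧸ I) ⊗ₜ[A] x = 0 := ε.injective (by rw [map_zero]; exact hx)
    refine Ideal.Quotient.eq_zero_iff_mem.mp
      ((Algebra.TensorProduct.quotIdealMapEquivTensorQuot B I).injective ?_)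
    rw [map_zero]
    simpa using congr_arg (Algebra.TensorProduct.comm A (A ⧸ I) B) h1
  have hρI : I.map (algebraMap A B) ≤ RingHom.ker ρ.toRingHom := Ideal.map_le_iff_le_comap.mpr
    fun a ha => by
      show ρ (algebraMap A B a) = 0
      rw [ρ.commutes]
      show algebraMap (A ⧸ I) C (Ideal.Quotient.mk I a) = 0
      rw [Ideal.Quotient.eq_zero_iff_mem.mpr ha, map_zero]
  let G : Ideal (integralClosure A B) :=
    { carrier := {r | ∀ x : B, ∃ m : ℕ, IsIntegral A ((r : B) ^ m * x)}
      add_mem' := fun {r r'} hr hr' x => by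
        obtain ⟨m, hm⟩ := hr x
        obtain ⟨m', hm'⟩ := hr' x
        refine ⟨m + m', ?_⟩
        rw [Subalgebra.coe_add, add_pow, Finset.sum_mul]
        refine IsIntegral.sum _ fun i hi => ?_
        have hr1 : IsIntegral A (r : B) := r.2
        have hr2 : IsIntegral A (r' : B) := r'.2
        have hc : IsIntegral A (((m + m').choose i : ℕ) : B) :=
          map_natCast (algebraMap A B) _ ▸ isIntegral_algebraMap
        rcases le_or_gt m i with h | h
        · have e : (r : B) ^ i = (r : B) ^ (i - m) * (r : B) ^ m := by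
            rw [← pow_add, Nat.sub_add_cancel h]
          rw [show (r : B) ^ i * (r' : B) ^ (m + m' - i) * ((m + m').choose i) * x =
              (r : B) ^ (i - m) * (r' : B) ^ (m + m' - i) * ((m + m').choose i) *
                ((r : B) ^ m * x) by rw [e]; ring]
          exact IsIntegral.mul (((hr1.pow _).mul (hr2.pow _)).mul hc) hm
        · have h' : m' ≤ m + m' - i := by omega
          have e : (r' : B) ^ (m + m' - i) = (r' : B) ^ (m + m' - i - m') * (r' : B) ^ m' := by
            rw [← pow_add, Nat.sub_add_cancel h']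
          rw [show (r : B) ^ i * (r' : B) ^ (m + m' - i) * ((m + m').choose i) * x =
              (r : B) ^ i * (r' : B) ^ (m + m' - i - m') * ((m + m').choose i) *
                ((r' : B) ^ m' * x) by rw [e]; ring]
          exact IsIntegral.mul (((hr1.pow _).mul (hr2.pow _)).mul hc) hm'
      zero_mem' := fun x => ⟨1, by simpa using isIntegral_zero⟩
      smul_mem' := fun c r hr x => by
        obtain ⟨m, hm⟩ := hr x
        refine ⟨m, ?_⟩
        rw [smul_eq_mul, Subalgebra.coe_mul, mul_pow, mul_assoc]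
        exact (IsIntegral.pow c.2 m).mul hm }
  let ρ' : integralClosure A B →ₐ[A] C := ρ.comp (integralClosure A B).val
  have htop : G ⊔ RingHom.ker ρ'.toRingHom = ⊤ := by
    by_contra hne
    obtain ⟨q, hq, hle⟩ := Ideal.exists_le_maximal _ hne
    let := ρ'.toRingHom.toAlgebra
    have : IsScalarTower A (integralClosure A B) C :=
      IsScalarTower.of_algebraMap_eq fun a => (ρ'.commutes a).symm
    have : Algebra.IsIntegral A C := Algebra.IsIntegral.of_finite A C
    have : Algebra.IsIntegral (integralClosure A B) C :=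
      ⟨fun c => (Algebra.IsIntegral.isIntegral (R := A) c).tower_top⟩
    obtain ⟨Q', -, hQ'p, hQ'⟩ := Ideal.exists_ideal_over_prime_of_isIntegral q (⊥ : Ideal C)
      (fun z hz => hle (Ideal.mem_sup_right hz))
    let Q : Ideal B := Q'.comap ρ
    obtain ⟨r, hrQ, hr, hrx⟩ := Algebra.zariskisMainProperty_iff.mp
      (Algebra.ZariskisMainProperty.of_finiteType (R := A) Q)
    have hrG : (⟨r, hr⟩ : integralClosure A B) ∈ q := hle (Ideal.mem_sup_left fun x => hrx x)
    rw [← hQ'] at hrG
    exact hrQ hrG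
  obtain ⟨s, hsG, k, hk, hsk⟩ := Submodule.mem_sup.mp (htop ▸ Submodule.mem_top :
    (1 : integralClosure A B) ∈ G ⊔ RingHom.ker ρ'.toRingHom)
  have hρs : ρ (s : B) = 1 := by
    have := congr_arg ρ' hsk
    rw [map_add, show ρ' k = 0 from hk, add_zero, map_one] at this
    exact this
  obtain ⟨t, ht⟩ := Algebra.FiniteType.out (R := A) (A := B)
  choose m hm using hsG
  let T : Set B := insert (s : B) ((fun x => (s : B) ^ m x * x) '' (t : Set B))
  let A₀ : Subalgebra A B := Algebra.adjoin A T
  have hT : ∀ x ∈ T, IsIntegral A x := by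
    rintro x (rfl | ⟨y, -, rfl⟩)
    exacts [s.2, hm y]
  have hTfin : T.Finite := (t.finite_toSet.image _).insert _
  have : Module.Finite A A₀ := Module.Finite.iff_fg.mpr (fg_adjoin_of_finite hTfin hT)
  have hsA : (s : B) ∈ A₀ := Algebra.subset_adjoin (Set.mem_insert _ _)
  have hpow : ∀ x : B, ∃ k : ℕ, (s : B) ^ k * x ∈ A₀ := by
    intro x
    have hx : x ∈ Algebra.adjoin A (t : Set B) := ht ▸ Algebra.mem_top
    induction hx using Algebra.adjoin_induction with
    | mem y hy => exact ⟨m y, Algebra.subset_adjoin (Set.mem_insert_of_mem _ ⟨y, hy, rfl⟩)⟩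
    | algebraMap a => exact ⟨0, by simpa using A₀.algebraMap_mem a⟩
    | add y z _ _ hy hz =>
      obtain ⟨i, hi⟩ := hy; obtain ⟨j, hj⟩ := hz
      refine ⟨i + j, ?_⟩
      rw [show (s : B) ^ (i + j) * (y + z) =
        (s : B) ^ j * ((s : B) ^ i * y) + (s : B) ^ i * ((s : B) ^ j * z) by ring]
      exact add_mem (mul_mem (pow_mem hsA _) hi) (mul_mem (pow_mem hsA _) hj)
    | mul y z _ _ hy hz =>
      obtain ⟨i, hi⟩ := hy; obtain ⟨j, hj⟩ := hz
      refine ⟨i + j, ?_⟩
      rw [show (s : B) ^ (i + j) * (y * z) = ((s : B) ^ i * y) * ((s : B) ^ j * z) by ring]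
      exact mul_mem hi hj
  let s₀ : A₀ := ⟨s, hsA⟩
  let K : Ideal A₀ := I.map (algebraMap A A₀)
  -- elements of `I B` fall into `K` after multiplication by a power of `s`
  have hIB : ∀ x ∈ I.map (algebraMap A B), ∃ N, ∃ w ∈ K, (w : B) = (s : B) ^ N * x := by
    intro x hx
    change x ∈ Submodule.span B (algebraMap A B '' (I : Set A)) at hx
    induction hx using Submodule.span_induction with
    | mem y hy =>
      obtain ⟨a, ha, rfl⟩ := hy
      exact ⟨0, algebraMap A A₀ a, Ideal.mem_map_of_mem _ ha, by simp⟩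
    | zero => exact ⟨0, 0, zero_mem _, by simp⟩
    | add y z _ _ hy hz =>
      obtain ⟨i, v, hv, hv'⟩ := hy; obtain ⟨j, w, hw, hw'⟩ := hz
      refine ⟨i + j, s₀ ^ j * v + s₀ ^ i * w,
        add_mem (Ideal.mul_mem_left _ _ hv) (Ideal.mul_mem_left _ _ hw), ?_⟩
      simp only [Subalgebra.coe_add, Subalgebra.coe_mul, Subalgebra.coe_pow, hv', hw', s₀]
      ring
    | smul c y _ hy =>
      obtain ⟨i, v, hv, hv'⟩ := hy
      obtain ⟨j, hj⟩ := hpow c
      refine ⟨j + i, ⟨_, hj⟩ * v, Ideal.mul_mem_left _ _ hv, ?_⟩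
      simp only [Subalgebra.coe_mul, hv', smul_eq_mul]
      ring
  obtain ⟨N, hN, w, hw, hw'⟩ : ∃ N, 0 < N ∧ ∃ w ∈ K, (w : B) = (s : B) ^ N * (1 - (s : B)) := by
    obtain ⟨N, w, hw, hw'⟩ := hIB (1 - (s : B)) (hker _ (by rw [map_sub, map_one, hρs, sub_self]))
    refine ⟨N + 1, by omega, s₀ * w, Ideal.mul_mem_left _ _ hw, ?_⟩
    rw [Subalgebra.coe_mul, hw']
    show (s : B) * _ = _
    ring
  obtain ⟨e, he, hes⟩ : ∃ e : A₀, IsIdempotentElem e ∧ e - s₀ ^ N ∈ K := by
    have : Algebra.IsIntegral A A₀ := Algebra.IsIntegral.of_finite A A₀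
    refine exists_idempotent_lift (I := I) (s₀ ^ N) ?_
    have h1 : Ideal.Quotient.mk K (s₀ ^ N) = Ideal.Quotient.mk K (s₀ ^ (N + 1)) := by
      refine Ideal.Quotient.eq.mpr ?_
      convert hw using 1
      apply Subtype.ext
      simp only [Subalgebra.coe_sub, Subalgebra.coe_pow, hw', s₀]
      ring
    have h2 : ∀ j, Ideal.Quotient.mk K (s₀ ^ N) = Ideal.Quotient.mk K (s₀ ^ (N + j)) := by
      intro j
      induction j with
      | zero => rfl
      | succ j ih =>
        rw [← Nat.add_assoc, pow_succ, map_mul, ← ih, ← map_mul, ← pow_succ]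
        exact h1
    refine Ideal.Quotient.eq.mp ?_
    rw [← pow_add]
    exact (h2 N).symm
  let B' := B ⧸ Ideal.span {1 - (e : B)}
  let π : B →ₐ[A] B' := Ideal.Quotient.mkₐ A _
  have heB : IsIdempotentElem (e : B) := by
    show (e : B) * e = e
    rw [← Subalgebra.coe_mul, he.eq]
  have hπe : π (e : B) = 1 := by
    rw [← map_one π]
    exact Ideal.Quotient.eq.mpr (Ideal.mem_span_singleton.mpr ⟨-1, by ring⟩)
  -- `s` is a unit in the finite algebra `A₀ → B'`
  let R₀ : Subalgebra A B' := (π.comp A₀.val).range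
  have : Module.Finite A R₀ := Module.Finite.of_surjective
    ((π.comp A₀.val).rangeRestrict.toLinearMap) (π.comp A₀.val).rangeRestrict_surjective
  have hu : ∃ c : A₀, π (c : B) * π (s : B) ^ N = 1 := by
    let g := (π.comp A₀.val).rangeRestrict
    have hK : ∀ z ∈ K, g z ∈ I.map (algebraMap A R₀) := fun z hz => by
      have := Ideal.mem_map_of_mem g.toRingHom hz
      rwa [Ideal.map_map, AlgHom.toRingHom_eq_coe, g.comp_algebraMap] at this
    have : Algebra.IsIntegral A R₀ := Algebra.IsIntegral.of_finite A R₀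
    have h1 : g (s₀ ^ N) - 1 ∈ I.map (algebraMap A R₀) := by
      have h2 := hK _ hes
      have hge : g e = 1 := Subtype.ext hπe
      rw [map_sub, hge] at h2
      simpa using neg_mem h2
    obtain ⟨c, hc⟩ := isUnit_iff_exists_inv'.mp (isUnit_of_sub_one_mem
      (map_le_jacobson_of_isIntegral HenselianRing.jac R₀) h1)
    obtain ⟨c, rfl⟩ := (π.comp A₀.val).rangeRestrict_surjective c
    refine ⟨c, ?_⟩
    simpa [g, s₀] using congr_arg Subtype.val hc
  obtain ⟨c, hc⟩ := hu
  have hfin : Function.Surjective (π.comp A₀.val) := by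
    intro y
    obtain ⟨x, rfl⟩ := Ideal.Quotient.mk_surjective y
    obtain ⟨i, hi⟩ := hpow x
    refine ⟨c ^ i * s₀ ^ (N * i - i) * ⟨_, hi⟩, ?_⟩
    show π ((c ^ i * s₀ ^ (N * i - i) * ⟨_, hi⟩ : A₀) : B) = π x
    simp only [Subalgebra.coe_mul, Subalgebra.coe_pow, map_mul, map_pow, s₀]
    rw [← mul_assoc, mul_assoc (π (c : B) ^ i), ← pow_add,
      Nat.sub_add_cancel (Nat.le_mul_of_pos_left i hN), pow_mul, ← mul_pow, hc, one_pow, one_mul]
  have : Module.Finite A B' := Module.Finite.of_surjective (π.comp A₀.val).toLinearMap hfin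
  have : IsLocalization.Away (e : B) B' :=
    IsLocalization.away_of_isIdempotentElem heB Ideal.mk_ker Ideal.Quotient.mk_surjective
  have := Algebra.Etale.of_isLocalizationAway (R := B) (A := B') (e : B)
  have : Algebra.Etale A B' := Algebra.Etale.comp A B B'
  have hρe : ρ (e : B) = 1 := by
    have h1 : (e : B) - (s : B) ^ N ∈ I.map (algebraMap A B) := by
      have := Ideal.mem_map_of_mem A₀.val.toRingHom hes
      rw [Ideal.map_map, AlgHom.toRingHom_eq_coe, A₀.val.comp_algebraMap] at this
      simpa [s₀] using this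
    have h2 : ρ ((e : B) - (s : B) ^ N) = 0 := hρI h1
    rwa [map_sub, map_pow, hρs, one_pow, sub_eq_zero] at h2
  let φ : B' →ₐ[A] C := Ideal.Quotient.liftₐ _ ρ fun a ha => by
    obtain ⟨d, rfl⟩ := Ideal.mem_span_singleton.mp ha
    rw [map_mul, map_sub, map_one, hρe, sub_self, zero_mul]
  have hφsurj : Function.Surjective φ := fun y => by
    obtain ⟨x, rfl⟩ := hρsurj y
    exact ⟨π x, rfl⟩
  have hφker : RingHom.ker φ = I.map (algebraMap A B') := by
    refine le_antisymm (fun y hy => ?_) (Ideal.map_le_iff_le_comap.mpr fun a ha => ?_)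
    · obtain ⟨x, rfl⟩ := Ideal.Quotient.mk_surjective y
      have := Ideal.mem_map_of_mem π.toRingHom (hker x hy)
      rwa [Ideal.map_map, AlgHom.toRingHom_eq_coe, π.comp_algebraMap] at this
    · show φ (algebraMap A B' a) = 0
      rw [φ.commutes, ← ρ.commutes]
      exact hρI (Ideal.mem_map_of_mem _ ha)
  let E : (A ⧸ I) ⊗[A] B' ≃ₐ[A] C :=
    ((Algebra.TensorProduct.comm A (A ⧸ I) B').trans
      ((Algebra.TensorProduct.quotIdealMapEquivTensorQuot B' I).restrictScalars A).symm).trans
      ((Ideal.quotientEquivAlgOfEq A hφker.symm).trans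
        (Ideal.quotientKerAlgEquivOfSurjective hφsurj))
  exact ⟨B', inferInstance, inferInstance, inferInstance, inferInstance,
    ⟨AlgEquiv.ofRingEquiv (f := E.toRingEquiv) fun r => by
      obtain ⟨a, rfl⟩ := Ideal.Quotient.mk_surjective r
      exact E.commutes a⟩⟩

end Groth.Hensel1
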