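import Groth.Agent.Hensel1.Pairs
import Groth.Agent.Hensel1.Local
import Mathlib.RingTheory.Artinian.Module
import Mathlib.RingTheory.Idempotents
import Mathlib.RingTheory.LocalRing.ResidueField.Basic

/-!
# Finite algebras over henselian local rings
-/

set_option autoImplicit false

namespace Groth.Hensel1

open IsLocalRing Polynomial

universe u

theorem exists_completeOrthogonalIdempotents_of_isArtinianRing (A : Type u) [CommRing A]
    [IsArtinianRing A] [Fintype (MaximalSpectrum A)] :
    ∃ e : MaximalSpectrum A → A, CompleteOrthogonalIdempotents e ∧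
      ∀ I J : MaximalSpectrum A, I ≠ J → e I ∈ J.asIdeal := by
  classical
  let ψ := IsArtinianRing.quotNilradicalEquivPi A
  let f : A →+* (∀ I : MaximalSpectrum A, A ⧸ I.asIdeal) :=
    ψ.toRingHom.comp (Ideal.Quotient.mk (nilradical A))
  have hf : Function.Surjective f := ψ.surjective.comp Ideal.Quotient.mk_surjective
  have hker : ∀ x ∈ RingHom.ker f, IsNilpotent x := fun x hx => by
    have : Ideal.Quotient.mk (nilradical A) x = 0 := ψ.injective (by
      rw [map_zero]; exact hx)
    exact mem_nilradical.mp (Ideal.Quotient.eq_zero_iff_mem.mp this)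
  obtain ⟨e, he, hfe⟩ := CompleteOrthogonalIdempotents.lift_of_isNilpotent_ker f hker
    (CompleteOrthogonalIdempotents.single fun I : MaximalSpectrum A => A ⧸ I.asIdeal)
    (fun i => hf _)
  refine ⟨e, he, fun I J hIJ => Ideal.Quotient.eq_zero_iff_mem.mp ?_⟩
  have : f (e I) J = 0 := by
    rw [show f (e I) = Pi.single I 1 from congr_fun hfe I, Pi.single_eq_of_ne hIJ.symm]
  exact this

/-- A finite algebra over a henselian local ring splits into local rings. -/
theorem exists_completeOrthogonalIdempotents_local (R : Type u) [CommRing R]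
    [HenselianLocalRing R] (S : Type u) [CommRing S] [Algebra R S] [Module.Finite R S] :
    ∃ (ι : Type u) (_ : Fintype ι) (e : ι → S), CompleteOrthogonalIdempotents e ∧
      ∀ i, IsLocalRing (S ⧸ Ideal.span {1 - e i}) := by
  classical
  set m := maximalIdeal R
  set J := m.map (algebraMap R S) with hJ
  have : Module.Finite (R ⧸ m) (S ⧸ J) := Module.Finite.of_restrictScalars_finite R _ _
  have : IsArtinianRing (R ⧸ m) := inferInstanceAs (IsArtinianRing (ResidueField R))
  have : IsArtinianRing (S ⧸ J) := IsArtinianRing.of_finite (R ⧸ m) _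
  have : Fintype (MaximalSpectrum (S ⧸ J)) := Fintype.ofFinite _
  have : HenselianRing R m := inferInstance
  have : Algebra.IsIntegral R S := Algebra.IsIntegral.of_finite R S
  have hJjac : J ≤ Ideal.jacobson ⊥ := map_le_jacobson_of_isIntegral HenselianRing.jac S
  obtain ⟨ε, hε, hεI⟩ := exists_completeOrthogonalIdempotents_of_isArtinianRing (S ⧸ J)
  have hbij := bijOn_idempotents (I := m) S
  choose e he hee using fun i => hbij.surjOn (show ε i ∈ {e | IsIdempotentElem e} from hε.idem i)
  have hee' : ∀ i, Ideal.Quotient.mk J (e i) = ε i := hee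
  have horth : ∀ i j, i ≠ j → e i * e j = 0 := fun i j hij =>
    hbij.injOn (IsIdempotentElem.mul (he i) (he j)) IsIdempotentElem.zero (by
      show Ideal.Quotient.mk J (e i * e j) = Ideal.Quotient.mk J 0
      rw [map_mul, hee', hee', hε.ortho hij, map_zero])
  have hO : OrthogonalIdempotents e := ⟨he, horth⟩
  have hsum : ∑ i, e i = 1 :=
    hbij.injOn (OrthogonalIdempotents.isIdempotentElem_sum hO) IsIdempotentElem.one (by
      show Ideal.Quotient.mk J (∑ i, e i) = Ideal.Quotient.mk J 1
      rw [map_sum, Finset.sum_congr rfl (fun i _ => hee' i), hε.complete, map_one])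
  refine ⟨_, inferInstance, e, ⟨hO, hsum⟩, fun i => ?_⟩
  have key : ∀ P : Ideal S, P.IsMaximal → 1 - e i ∈ P →
      P = i.asIdeal.comap (Ideal.Quotient.mk J) := by
    intro P hP hiP
    have hJP : J ≤ P := hJjac.trans (sInf_le ⟨bot_le, hP⟩)
    have : (P.map (Ideal.Quotient.mk J)).IsMaximal :=
      Ideal.IsMaximal.map_of_surjective_of_ker_le Ideal.Quotient.mk_surjective
        (by rwa [Ideal.mk_ker])
    have h1 : (⟨P.map (Ideal.Quotient.mk J), this⟩ : MaximalSpectrum (S ⧸ J)) = i := by
      by_contra hne
      refine this.ne_top ((Ideal.eq_top_iff_one _).mpr ?_)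
      have h2 := (P.map (Ideal.Quotient.mk J)).add_mem
        (Ideal.mem_map_of_mem (Ideal.Quotient.mk J) hiP) (hεI i _ (Ne.symm hne))
      rwa [map_sub, map_one, hee', sub_add_cancel] at h2
    rw [← h1, Ideal.comap_map_of_surjective' _ Ideal.Quotient.mk_surjective, Ideal.mk_ker,
      sup_eq_left.mpr hJP]
  have hi : Ideal.span {1 - e i} ≤ i.asIdeal.comap (Ideal.Quotient.mk J) := by
    have hεi : (1 : S ⧸ J) - ε i ∈ i.asIdeal := by
      rw [← hε.complete, ← Finset.add_sum_erase _ _ (Finset.mem_univ i), add_sub_cancel_left]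
      exact Ideal.sum_mem _ fun j hj => hεI j i (Finset.mem_erase.mp hj).1
    rw [Ideal.span_le, Set.singleton_subset_iff, SetLike.mem_coe, Ideal.mem_comap, map_sub,
      map_one, hee']
    exact hεi
  have hM₀ : (i.asIdeal.comap (Ideal.Quotient.mk J)).IsMaximal :=
    Ideal.comap_isMaximal_of_surjective _ Ideal.Quotient.mk_surjective
  refine IsLocalRing.of_unique_max_ideal
    ⟨(i.asIdeal.comap (Ideal.Quotient.mk J)).map (Ideal.Quotient.mk _),
      Ideal.IsMaximal.map_of_surjective_of_ker_le Ideal.Quotient.mk_surjective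
        (by rwa [Ideal.mk_ker]), fun Q (hQ : Q.IsMaximal) => ?_⟩
  have hQc := Ideal.comap_isMaximal_of_surjective
    (Ideal.Quotient.mk (Ideal.span {1 - e i})) Ideal.Quotient.mk_surjective (K := Q)
  rw [← key _ hQc (by
    rw [Ideal.mem_comap, Ideal.Quotient.eq_zero_iff_mem.mpr (Ideal.mem_span_singleton_self _)]
    exact Q.zero_mem), Ideal.map_comap_of_surjective _ Ideal.Quotient.mk_surjective]

/-- A local ring finite over a henselian local ring is henselian. -/
theorem henselianLocalRing_of_finite (R : Type u) [CommRing R] [HenselianLocalRing R]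
    (S : Type u) [CommRing S] [IsLocalRing S] [Algebra R S] [Module.Finite R S] :
    HenselianLocalRing S := by
  have : HenselianRing R (maximalIdeal R) := inferInstance
  have : Algebra.IsIntegral R S := Algebra.IsIntegral.of_finite R S
  have := henselianRing_of_isIntegral (I := maximalIdeal R) S
  have : HenselianRing S (maximalIdeal S) := by
    refine henselianRing_of_le_radical (I := (maximalIdeal R).map (algebraMap R S)) ?_
    rw [Ideal.radical_eq_sInf]
    refine le_sInf fun P ⟨hP, hprime⟩ => ?_
    have hle : maximalIdeal R ≤ P.comap (algebraMap R S) := Ideal.map_le_iff_le_comap.mp hP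
    have hmax : (P.comap (algebraMap R S)).IsMaximal := by
      rw [← (maximalIdeal.isMaximal R).eq_of_le (Ideal.IsPrime.ne_top inferInstance) hle]
      exact maximalIdeal.isMaximal R
    have : P.IsMaximal := Ideal.isMaximal_of_isIntegral_of_isMaximal_comap P hmax
    exact (IsLocalRing.eq_maximalIdeal this).ge
  exact henselianLocalRing_of_henselianRing

/-- If all algebras `R[T]/(F)` split into local rings then `R` is henselian. -/
theorem henselianLocalRing_of_adjoinRoot_pi (R : Type u) [CommRing R] [IsLocalRing R]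
    (h : ∀ F : R[X], F.Monic →
      ∃ (ι : Type u) (_ : Fintype ι) (A : ι → Type u) (_ : ∀ i, CommRing (A i)),
        (∀ i, IsLocalRing (A i)) ∧ Nonempty (AdjoinRoot F ≃+* (∀ i, A i))) :
    HenselianLocalRing R := by
  classical
  refine ⟨fun f hf a₀ ha₀ hu => ?_⟩
  obtain ⟨ι, _, A, _, hA, ⟨e⟩⟩ := h f hf
  have : Module.Finite R (AdjoinRoot f) := hf.finite_adjoinRoot
  have : Module.Free R (AdjoinRoot f) := hf.free_adjoinRoot
  let k := ResidueField R
  have ha₀' : f.eval₂ (residue R) (residue R a₀) = 0 := by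
    rw [eval₂_at_apply, residue_eq_zero_iff]; exact ha₀
  let φ : AdjoinRoot f →+* k := AdjoinRoot.lift (residue R) (residue R a₀) ha₀'
  let t : AdjoinRoot f := AdjoinRoot.root f
  let E : ι → AdjoinRoot f := fun i => e.symm (Pi.single i 1)
  have hE : ∑ i, E i = 1 := by
    rw [← map_sum, Finset.univ_sum_single (fun i => (1 : A i))]; exact map_one e.symm
  obtain ⟨i, hi⟩ : ∃ i, φ (E i) ≠ 0 := by
    by_contra! hne
    have := congr_arg φ hE
    rw [map_sum, Finset.sum_eq_zero (fun i _ => hne i), map_one] at this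
    exact zero_ne_one this
  let π : AdjoinRoot f →+* A i := (Pi.evalRingHom A i).comp e.toRingHom
  let : Algebra R (A i) := (π.comp (algebraMap R (AdjoinRoot f))).toAlgebra
  let πₐ : AdjoinRoot f →ₐ[R] A i := { π with commutes' := fun r => rfl }
  have hsingle : ∀ x, e.symm (Pi.single i (π x)) = E i * x := fun x => e.injective (by
    rw [e.apply_symm_apply, map_mul, e.apply_symm_apply, ← Pi.single_mul_left, one_mul]
    rfl)
  have hsurj : Function.Surjective π := fun y => ⟨e.symm (Pi.single i y), by simp [π]⟩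
  let σ : A i →ₗ[R] AdjoinRoot f :=
    { toFun := fun y => e.symm (Pi.single i y)
      map_add' := fun x y => by rw [Pi.single_add, map_add]
      map_smul' := fun r y => by
        obtain ⟨x, rfl⟩ := hsurj y
        show e.symm (Pi.single i (r • π x)) = r • e.symm (Pi.single i (π x))
        rw [Algebra.smul_def, RingHom.algebraMap_toAlgebra, RingHom.comp_apply, ← map_mul,
          hsingle, hsingle, Algebra.smul_def]
        ring }
  have : Module.Projective R (A i) :=
    Module.Projective.of_split σ πₐ.toLinearMap (LinearMap.ext fun y => by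
      show π (e.symm (Pi.single i y)) = y
      simp [π])
  have : Module.Finite R (A i) := Module.Finite.of_surjective πₐ.toLinearMap hsurj
  have : Module.Free R (A i) := Module.free_of_flat_of_isLocalRing
  have := hA i
  set x : A i := πₐ t
  have hφ : ∀ y, π y = 0 → φ y = 0 := fun y hy => by
    have h1 : E i * y = 0 := by rw [← hsingle, hy, Pi.single_zero, map_zero]
    have := congr_arg φ h1
    rw [map_mul, map_zero] at this
    exact (mul_eq_zero.mp this).resolve_left hi
  have hloc : ∀ y, φ y = 0 → π y ∈ maximalIdeal (A i) := fun y hy => by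
    by_contra hyu
    rw [mem_maximalIdeal, mem_nonunits_iff, not_not] at hyu
    obtain ⟨z, hz⟩ := hsurj ↑hyu.unit⁻¹
    have h1 := hφ (y * z - 1) (by rw [map_sub, map_mul, hz, map_one, IsUnit.mul_val_inv, sub_self])
    rw [map_sub, map_mul, hy, zero_mul, map_one, zero_sub, neg_eq_zero] at h1
    exact one_ne_zero h1
  -- `g` with `f = (X - a₀) g + f(a₀)`
  obtain ⟨g, hg⟩ : (X - C a₀) ∣ f - C (f.eval a₀) := dvd_iff_isRoot.mpr (by simp)
  have hga : g.eval a₀ = f.derivative.eval a₀ := by
    have := congr_arg (fun p => (derivative p).eval a₀) hg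
    simpa [derivative_mul] using this.symm
  have hxf : aeval x f = 0 := by
    rw [aeval_algHom_apply, AdjoinRoot.aeval_eq, AdjoinRoot.mk_self, map_zero]
  have hgx : IsUnit (aeval x g) := by
    rw [aeval_algHom_apply, AdjoinRoot.aeval_eq]
    by_contra hn
    obtain ⟨z, hz⟩ : (X - C a₀) ∣ g - C (g.eval a₀) := dvd_iff_isRoot.mpr (by simp)
    have h1 : φ (AdjoinRoot.mk f g) = residue R (g.eval a₀) := by
      rw [AdjoinRoot.lift_mk, eval₂_at_apply]
    have h2 : φ (AdjoinRoot.mk f g - algebraMap R _ (g.eval a₀)) = 0 := by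
      rw [map_sub, h1, AdjoinRoot.algebraMap_eq, AdjoinRoot.lift_of, sub_self]
    have h3 := Ideal.sub_mem _ (mem_maximalIdeal _ |>.mpr hn :
      πₐ (AdjoinRoot.mk f g) ∈ maximalIdeal (A i)) (hloc _ h2)
    rw [show πₐ (AdjoinRoot.mk f g) = π (AdjoinRoot.mk f g) from rfl, ← map_sub, sub_sub_cancel,
      mem_maximalIdeal] at h3
    exact h3 ((((hga ▸ hu).map (algebraMap R (AdjoinRoot f))).map π))
  have hxa : x - algebraMap R (A i) a₀ ∈ (maximalIdeal R).map (algebraMap R (A i)) := by
    have h1 : aeval x (f - C (f.eval a₀)) = (x - algebraMap R (A i) a₀) * aeval x g := by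
      rw [hg, map_mul, map_sub, aeval_X, aeval_C]
    rw [map_sub, hxf, aeval_C, zero_sub] at h1
    refine (Ideal.mul_unit_mem_iff_mem _ hgx).mp ?_
    rw [← h1]
    exact neg_mem (Ideal.mem_map_of_mem _ ha₀)
  have htop : (⊥ : Submodule R (A i)) ⊔ Submodule.span R {(1 : A i)} = ⊤ := by
    refine le_antisymm le_top ?_
    have hle : (⊤ : Submodule R (A i)) ≤ Submodule.span R {(1 : A i)} ⊔
        maximalIdeal R • ⊤ := by
      intro y _
      obtain ⟨z, rfl⟩ := hsurj y
      obtain ⟨p, rfl⟩ := AdjoinRoot.mk_surjective z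
      obtain ⟨q, hq⟩ : (X - C a₀) ∣ p - C (p.eval a₀) := dvd_iff_isRoot.mpr (by simp)
      have h1 : π (AdjoinRoot.mk f p) =
          algebraMap R (A i) (p.eval a₀) + (x - algebraMap R (A i) a₀) * aeval x q := by
        show πₐ (AdjoinRoot.mk f p) = _
        rw [← AdjoinRoot.aeval_eq, ← aeval_algHom_apply, ← aeval_C x (p.eval a₀)]
        show aeval x p = _
        have h2 := congr_arg (aeval x) hq
        rw [map_sub, map_mul, map_sub, aeval_X, aeval_C, aeval_C] at h2
        rw [aeval_C]
        linear_combination h2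
      rw [h1]
      refine Submodule.add_mem_sup ?_ ?_
      · rw [Algebra.algebraMap_eq_smul_one]
        exact Submodule.smul_mem _ _ (Submodule.mem_span_singleton_self _)
      · rw [Ideal.smul_top_eq_map]
        exact Ideal.mul_mem_right _ _ hxa
    rw [bot_sup_eq]
    exact Submodule.le_of_le_smul_of_le_jacobson_bot Module.Finite.fg_top
      (jacobson_eq_maximalIdeal ⊥ bot_ne_top).ge hle
  rw [bot_sup_eq] at htop
  obtain ⟨a, ha⟩ := Submodule.mem_span_singleton.mp (htop ▸ Submodule.mem_top : x ∈ Submodule.span R {(1 : A i)})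
  rw [← Algebra.algebraMap_eq_smul_one] at ha
  refine ⟨a, FaithfulSMul.algebraMap_injective R (A i) ?_, ?_⟩
  · rw [map_zero, ← aeval_algebraMap_apply_eq_algebraMap_eval, ha, hxf]
  · rw [← residue_eq_zero_iff, map_sub]
    have h1 := hφ (t - algebraMap R (AdjoinRoot f) a) (by
      rw [map_sub, show π t = x from rfl, ← ha]; exact sub_self _)
    rw [map_sub, AdjoinRoot.algebraMap_eq, AdjoinRoot.lift_of, AdjoinRoot.lift_root] at h1
    rw [← neg_sub, h1, neg_zero]

end Groth.Hensel1
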