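import Groth.Agent.Hensel1.Finite
import Mathlib.RingTheory.ZariskisMainTheorem
import Mathlib.RingTheory.Localization.Away.Basic
import Mathlib.RingTheory.Unramified.LocalStructure
import Mathlib.RingTheory.FiniteType

/-!
# Splitting off the finite part of finite type algebras over henselian local rings
-/

set_option autoImplicit false

namespace Groth.Hensel1

open IsLocalRing Polynomial

universe u

variable {R : Type u} [CommRing R] {S : Type u} [CommRing S] [Algebra R S]

/-- `(f)` is a finite `R`-module, i.e. `S/(1-f)` is. -/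
def FGIdem (R : Type u) [CommRing R] {S : Type u} [CommRing S] [Algebra R S] (f : S) : Prop :=
  IsIdempotentElem f ∧ ((Ideal.span {f}).restrictScalars R).FG

theorem FGIdem.finite {f : S} (h : FGIdem R f) : Module.Finite R (S ⧸ Ideal.span {1 - f}) := by
  have := Module.Finite.iff_fg.mpr h.2
  refine Module.Finite.of_surjective ((Ideal.Quotient.mkₐ R _).toLinearMap.comp
    ((Ideal.span {f}).restrictScalars R).subtype) fun y => ?_
  obtain ⟨x, rfl⟩ := Ideal.Quotient.mk_surjective y
  refine ⟨⟨f * x, Ideal.mul_mem_right _ _ (Ideal.mem_span_singleton_self f)⟩,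
    Ideal.Quotient.eq.mpr ?_⟩
  exact Ideal.mem_span_singleton.mpr ⟨-x, by show f * x - x = _; ring⟩

theorem fgIdem_of_finite {f : S} (hf : IsIdempotentElem f)
    [Module.Finite R (S ⧸ Ideal.span {1 - f})] : FGIdem R f := by
  refine ⟨hf, ?_⟩
  let μ : S →ₗ[R] S := LinearMap.mulLeft R f
  let ν : (S ⧸ Ideal.span {1 - f}) →ₗ[R] S :=
    ((Ideal.span {1 - f}).restrictScalars R).liftQ μ (fun x hx => by
      obtain ⟨c, rfl⟩ := Ideal.mem_span_singleton.mp hx
      show f * ((1 - f) * c) = 0
      rw [← mul_assoc, hf.mul_one_sub_self, zero_mul]) ∘ₗ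
      (Submodule.Quotient.restrictScalarsEquiv R (Ideal.span {1 - f})).symm.toLinearMap
  have hν : LinearMap.range ν = (Ideal.span {f}).restrictScalars R := by
    ext y
    rw [LinearMap.mem_range, Submodule.restrictScalars_mem, Ideal.mem_span_singleton]
    constructor
    · rintro ⟨z, rfl⟩
      obtain ⟨z, rfl⟩ := Ideal.Quotient.mk_surjective z
      exact ⟨z, rfl⟩
    · rintro ⟨c, rfl⟩
      exact ⟨Ideal.Quotient.mk _ c, rfl⟩
  rw [← hν, LinearMap.range_eq_map]
  exact Submodule.FG.map ν Module.Finite.fg_top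

theorem FGIdem.zero : FGIdem R (0 : S) :=
  ⟨IsIdempotentElem.zero, by simpa using Submodule.fg_bot⟩

theorem FGIdem.or {f g : S} (hf : FGIdem R f) (hg : FGIdem R g) : FGIdem R (f + g - f * g) := by
  have hidem : IsIdempotentElem (f + g - f * g) := by
    show (f + g - f * g) * (f + g - f * g) = f + g - f * g
    linear_combination (1 - g) ^ 2 * hf.1.eq + (1 - f) * hg.1.eq
  refine ⟨hidem, ?_⟩
  have : Ideal.span {f + g - f * g} = Ideal.span {f} ⊔ Ideal.span {g} := by
    refine le_antisymm ?_ (sup_le ?_ ?_)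
    · rw [Ideal.span_le, Set.singleton_subset_iff]
      refine Ideal.sub_mem _ (Ideal.add_mem _ ?_ ?_) (Ideal.mul_mem_right _ _ ?_)
      exacts [Ideal.mem_sup_left (Ideal.mem_span_singleton_self f),
        Ideal.mem_sup_right (Ideal.mem_span_singleton_self g),
        Ideal.mem_sup_left (Ideal.mem_span_singleton_self f)]
    · rw [Ideal.span_le, Set.singleton_subset_iff, SetLike.mem_coe, Ideal.mem_span_singleton]
      exact ⟨f, by linear_combination (g - 1) * hf.1.eq⟩
    · rw [Ideal.span_le, Set.singleton_subset_iff, SetLike.mem_coe, Ideal.mem_span_singleton]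
      exact ⟨g, by linear_combination (f - 1) * hg.1.eq⟩
  rw [this, Submodule.restrictScalars_sup]
  exact hf.2.sup hg.2

theorem exists_fgIdem_forall_mem (s : Finset S) (hs : ∀ f ∈ s, FGIdem R f) :
    ∃ e : S, FGIdem R e ∧ ∀ f ∈ s, f ∈ Ideal.span {e} := by
  classical
  induction s using Finset.induction with
  | empty => exact ⟨0, FGIdem.zero, by simp⟩
  | insert a s has ih =>
    obtain ⟨e, he, hes⟩ := ih fun f hf => hs f (Finset.mem_insert_of_mem hf)
    have ha := hs a (Finset.mem_insert_self a s)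
    refine ⟨a + e - a * e, ha.or he, fun f hf => ?_⟩
    have h1 : a ∈ Ideal.span {a + e - a * e} :=
      Ideal.mem_span_singleton.mpr ⟨a, by linear_combination (e - 1) * ha.1.eq⟩
    have h2 : e ∈ Ideal.span {a + e - a * e} :=
      Ideal.mem_span_singleton.mpr ⟨e, by linear_combination (a - 1) * he.1.eq⟩
    rcases Finset.mem_insert.mp hf with rfl | hf
    · exact h1
    · exact Ideal.span_le.mpr (Set.singleton_subset_iff.mpr h2) (hes f hf)

/-- A quasi-finite point over the closed point of a henselian local ring is split off by an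
idempotent. -/
theorem exists_idempotent_of_quasiFiniteAt [HenselianLocalRing R] [Algebra.FiniteType R S]
    (q : Ideal S) [q.IsPrime] [q.LiesOver (maximalIdeal R)] [Algebra.QuasiFiniteAt R q] :
    ∃ f : S, f ∉ q ∧ FGIdem R f ∧ IsLocalRing (S ⧸ Ideal.span {1 - f}) := by
  classical
  obtain ⟨r, hrq, hr, hrx⟩ := Algebra.zariskisMainProperty_iff.mp
    (Algebra.ZariskisMainProperty.of_finiteType (R := R) q)
  obtain ⟨t, ht⟩ := Algebra.FiniteType.out (R := R) (A := S)
  choose m hm using hrx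
  let T : Set S := insert r ((fun x => r ^ m x * x) '' (t : Set S))
  let A₀ : Subalgebra R S := Algebra.adjoin R T
  have hT : ∀ x ∈ T, IsIntegral R x := by
    rintro x (rfl | ⟨y, -, rfl⟩)
    exacts [hr, hm y]
  have hTfin : T.Finite := (t.finite_toSet.image _).insert _
  have : Module.Finite R A₀ := Module.Finite.iff_fg.mpr (fg_adjoin_of_finite hTfin hT)
  have hrA : r ∈ A₀ := Algebra.subset_adjoin (Set.mem_insert _ _)
  have hpow : ∀ x : S, ∃ k : ℕ, r ^ k * x ∈ A₀ := by
    intro x
    have hx : x ∈ Algebra.adjoin R (t : Set S) := ht ▸ Algebra.mem_top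
    induction hx using Algebra.adjoin_induction with
    | mem y hy => exact ⟨m y, Algebra.subset_adjoin (Set.mem_insert_of_mem _ ⟨y, hy, rfl⟩)⟩
    | algebraMap a => exact ⟨0, by simpa using A₀.algebraMap_mem a⟩
    | add y z _ _ hy hz =>
      obtain ⟨i, hi⟩ := hy; obtain ⟨j, hj⟩ := hz
      refine ⟨i + j, ?_⟩
      rw [show r ^ (i + j) * (y + z) = r ^ j * (r ^ i * y) + r ^ i * (r ^ j * z) by ring]
      exact add_mem (mul_mem (pow_mem hrA _) hi) (mul_mem (pow_mem hrA _) hj)
    | mul y z _ _ hy hz =>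
      obtain ⟨i, hi⟩ := hy; obtain ⟨j, hj⟩ := hz
      refine ⟨i + j, ?_⟩
      rw [show r ^ (i + j) * (y * z) = (r ^ i * y) * (r ^ j * z) by ring]
      exact mul_mem hi hj
  obtain ⟨ι, _, e, he, hloc⟩ := exists_completeOrthogonalIdempotents_local R A₀
  let p₀ : Ideal A₀ := q.comap A₀.val
  have : p₀.IsPrime := Ideal.IsPrime.comap _
  obtain ⟨i, hi⟩ : ∃ i, e i ∉ p₀ := by
    by_contra! hall
    exact (Ideal.IsPrime.ne_top ‹p₀.IsPrime›) ((Ideal.eq_top_iff_one _).mpr
      (he.complete ▸ Ideal.sum_mem _ fun i _ => hall i))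
  have := hloc i
  set f₀ : A₀ := e i
  have hf₀ : IsIdempotentElem f₀ := he.idem i
  have h1f : 1 - f₀ ∈ p₀ := by
    have : f₀ * (1 - f₀) ∈ p₀ := by rw [hf₀.mul_one_sub_self]; exact p₀.zero_mem
    exact (‹p₀.IsPrime›.mem_or_mem this).resolve_left hi
  -- the image of `p₀` is the maximal ideal of the local factor
  let π := Ideal.Quotient.mk (Ideal.span {1 - f₀})
  have hker : Ideal.span {1 - f₀} ≤ p₀ := Ideal.span_le.mpr (by simpa using h1f)
  have hp₀max : p₀.IsMaximal := by
    have : Algebra.IsIntegral R A₀ := Algebra.IsIntegral.of_finite R A₀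
    refine Ideal.isMaximal_of_isIntegral_of_isMaximal_comap (R := R) p₀ ?_
    have : p₀.comap (algebraMap R A₀) = maximalIdeal R := (q.over_def (maximalIdeal R)).symm
    rw [this]
    exact maximalIdeal.isMaximal R
  have hp₀map : p₀.map π = maximalIdeal _ := IsLocalRing.eq_maximalIdeal
    (Ideal.IsMaximal.map_of_surjective_of_ker_le Ideal.Quotient.mk_surjective
      (by rwa [Ideal.mk_ker]))
  have hu : IsUnit (π ⟨r, hrA⟩) := by
    by_contra hn
    rw [← mem_nonunits_iff, ← mem_maximalIdeal, ← hp₀map, ← Ideal.mem_comap,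
      Ideal.comap_map_of_surjective' _ Ideal.Quotient.mk_surjective, Ideal.mk_ker,
      sup_eq_left.mpr hker] at hn
    exact hrq hn
  -- `f S ⊆ A₀`
  have hfS : ∀ x : S, (f₀ : S) * x ∈ A₀ := by
    intro x
    obtain ⟨k, hk⟩ := hpow x
    obtain ⟨c, hc⟩ := Ideal.Quotient.mk_surjective (↑(hu.pow k).unit⁻¹ : A₀ ⧸ Ideal.span {1 - f₀})
    have h1 : π ((⟨r, hrA⟩ : A₀) ^ k * c) = π 1 := by
      rw [map_mul, map_pow, map_one, hc]
      exact IsUnit.mul_val_inv _
    obtain ⟨d, hd⟩ := Ideal.mem_span_singleton.mp (Ideal.Quotient.eq.mp h1)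
    have h3 := congr_arg Subtype.val (congr_arg (f₀ * ·) hd)
    have h2 : f₀ * ((1 - f₀) * d) = 0 := by rw [← mul_assoc, hf₀.mul_one_sub_self, zero_mul]
    simp only [h2, mul_sub, mul_one, Subalgebra.coe_sub, Subalgebra.coe_mul, Subalgebra.coe_pow,
      ZeroMemClass.coe_zero] at h3
    have : (f₀ : S) * x = ((f₀ * c : A₀) : S) * (r ^ k * x) := by
      rw [Subalgebra.coe_mul]
      linear_combination -x * h3
    rw [this]
    exact mul_mem (f₀ * c).2 hk
  have hfidem : IsIdempotentElem (f₀ : S) := by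
    show (f₀ : S) * f₀ = f₀
    rw [← Subalgebra.coe_mul, hf₀.eq]
  let φ : A₀ →ₐ[R] S ⧸ Ideal.span {1 - (f₀ : S)} := (Ideal.Quotient.mkₐ R _).comp A₀.val
  have hφ : Function.Surjective φ := fun y => by
    obtain ⟨x, rfl⟩ := Ideal.Quotient.mk_surjective y
    exact ⟨⟨_, hfS x⟩, Ideal.Quotient.eq.mpr (Ideal.mem_span_singleton.mpr ⟨-x, by
      show (f₀ : S) * x - x = _; ring⟩)⟩
  have : Module.Finite R (S ⧸ Ideal.span {1 - (f₀ : S)}) :=
    Module.Finite.of_surjective φ.toLinearMap hφ
  refine ⟨f₀, hi, fgIdem_of_finite hfidem, ?_⟩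
  have hle : Ideal.span {1 - f₀} ≤ RingHom.ker φ.toRingHom := by
    rw [Ideal.span_le, Set.singleton_subset_iff]
    exact Ideal.Quotient.eq_zero_iff_mem.mpr (Ideal.mem_span_singleton_self _)
  let φ' := Ideal.Quotient.lift (Ideal.span {1 - f₀}) φ.toRingHom fun a ha => hle ha
  have hφ' : Function.Surjective φ' := fun y => by
    obtain ⟨a, rfl⟩ := hφ y
    exact ⟨π a, rfl⟩
  have : Nontrivial (S ⧸ Ideal.span {1 - (f₀ : S)}) := Ideal.Quotient.nontrivial_iff.mpr
    (ne_top_of_le_ne_top (Ideal.IsPrime.ne_top ‹q.IsPrime›) (Ideal.span_le.mpr (Set.singleton_subset_iff.mpr h1f)))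
  exact IsLocalRing.of_surjective' φ' hφ'

/-- An idempotent splitting off all quasi-finite points over the closed point. -/
theorem exists_fgIdem_forall_quasiFiniteAt [HenselianLocalRing R] [Algebra.FiniteType R S] :
    ∃ e : S, FGIdem R e ∧ ∀ (q : Ideal S) [q.IsPrime] [q.LiesOver (maximalIdeal R)],
      Algebra.QuasiFiniteAt R q → e ∉ q := by
  classical
  let F : Set S := {f | FGIdem R f}
  let J := (maximalIdeal R).map (algebraMap R S)
  have : Algebra.FiniteType (R ⧸ maximalIdeal R) (S ⧸ J) :=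
    Algebra.FiniteType.of_restrictScalars_finiteType R _ _
  have : IsNoetherianRing (R ⧸ maximalIdeal R) :=
    inferInstanceAs (IsNoetherianRing (ResidueField R))
  have : IsNoetherianRing (S ⧸ J) := Algebra.FiniteType.isNoetherianRing (R ⧸ maximalIdeal R) _
  obtain ⟨s', hs', hspan⟩ := (Submodule.fg_span_iff_fg_span_finset_subset
    (R := S ⧸ J) (Ideal.Quotient.mk J '' F)).mp (IsNoetherian.noetherian _)
  obtain ⟨s, hsF, rfl⟩ := Finset.subset_set_image_iff.mp hs'
  obtain ⟨e, he, hes⟩ := exists_fgIdem_forall_mem (R := R) s fun f hf => hsF hf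
  refine ⟨e, he, fun q _ _ _ heq => ?_⟩
  obtain ⟨f, hfq, hf, -⟩ := exists_idempotent_of_quasiFiniteAt (R := R) q
  have hJq : J ≤ q := Ideal.map_le_iff_le_comap.mpr (q.over_def (maximalIdeal R)).le
  have h1 : Ideal.Quotient.mk J f ∈ Submodule.span (S ⧸ J)
      ((s.image (Ideal.Quotient.mk J) : Finset _) : Set (S ⧸ J)) :=
    hspan ▸ Submodule.subset_span ⟨f, hf, rfl⟩
  rw [Finset.coe_image] at h1
  have h2 : Submodule.span (S ⧸ J) (Ideal.Quotient.mk J '' (s : Set S)) ≤ q.map (Ideal.Quotient.mk J) :=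
    Submodule.span_le.mpr (by
      rintro _ ⟨g, hg, rfl⟩
      exact Ideal.mem_map_of_mem _ (Ideal.span_le.mpr (Set.singleton_subset_iff.mpr heq) (hes g hg)))
  have h3 : f ∈ (q.map (Ideal.Quotient.mk J)).comap (Ideal.Quotient.mk J) := h2 h1
  rw [Ideal.comap_map_of_surjective' _ Ideal.Quotient.mk_surjective, Ideal.mk_ker,
    sup_eq_left.mpr hJq] at h3
  exact hfq h3

theorem quasiFiniteAt_quotient_span_singleton_iff {e : S} (he : IsIdempotentElem e)
    (q : Ideal (S ⧸ Ideal.span {e})) [q.IsPrime] :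
    Algebra.QuasiFiniteAt R q ↔ Algebra.QuasiFiniteAt R (q.comap (Ideal.Quotient.mk _)) := by
  have : IsLocalization.Away (1 - e) (S ⧸ Ideal.span {e}) :=
    IsLocalization.away_of_isIdempotentElem he.one_sub (by simp [Ideal.mk_ker])
      Ideal.Quotient.mk_surjective
  have := IsLocalization.isLocalization_isLocalization_atPrime_isLocalization
    (Submonoid.powers (1 - e)) (S := S ⧸ Ideal.span {e}) (T := Localization.AtPrime q) q
  exact (Algebra.QuasiFinite.iff_of_algEquiv ((IsLocalization.algEquiv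
    (q.comap (algebraMap S (S ⧸ Ideal.span {e}))).primeCompl (Localization.AtPrime q)
    (Localization.AtPrime (q.comap (algebraMap S (S ⧸ Ideal.span {e}))))).restrictScalars R))

end Groth.Hensel1
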