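import Groth.Agent.S17972
import Mathlib.RingTheory.Derivation.MapCoeffs
import Mathlib.Algebra.Polynomial.Div
import Mathlib.RingTheory.MvPolynomial.Basic
import Mathlib.Algebra.MvPolynomial.PDeriv
import Mathlib.LinearAlgebra.Matrix.ToLin

/-!
# Lifting a factorization with one monic factor
-/

set_option autoImplicit false

namespace Groth.Hensel1

open Polynomial

universe u

theorem exists_factor_lift_of_monic {R : Type u} [CommRing R] [HenselianLocalRing R]
    (f : R[X]) (g₀ h₀ : (IsLocalRing.ResidueField R)[X]) (hg : g₀.Monic) (hc : IsCoprime g₀ h₀)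
    (hf : f.map (IsLocalRing.residue R) = g₀ * h₀) :
    ∃ g h : R[X], f = g * h ∧ g.Monic ∧ g.map (IsLocalRing.residue R) = g₀ ∧
      h.map (IsLocalRing.residue R) = h₀ := by
  classical
  set res := IsLocalRing.residue R
  let d := g₀.natDegree
  choose a₀ ha₀ using fun i : Fin d => IsLocalRing.residue_surjective (R := R) (g₀.coeff i)
  let gu : (MvPolynomial (Fin d) R)[X] := X ^ d + ∑ i : Fin d, C (MvPolynomial.X i) * X ^ (i : ℕ)
  have hdeg : ∀ {T : Type u} [CommRing T] (c : Fin d → T),
      (∑ i : Fin d, C (c i) * X ^ (i : ℕ) : T[X]).degree < (d : WithBot ℕ) := fun c =>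
    degree_sum_fin_lt _
  have hgu : gu.Monic := monic_X_pow_add (hdeg _)
  let F : (MvPolynomial (Fin d) R)[X] := f.map MvPolynomial.C
  let q := F /ₘ gu
  let r := F %ₘ gu
  have hF : r + gu * q = F := modByMonic_add_div F gu
  have hr : ∀ {T : Type u} [CommRing T] [Nontrivial T] (θ : (MvPolynomial (Fin d) R) →+* T),
      (r.map θ).degree < (d : WithBot ℕ) := by
    intro T _ _ θ
    have h1 := degree_modByMonic_lt (p := F.map θ) (hgu.map θ)
    rw [← map_modByMonic θ hgu] at h1
    have : (gu.map θ).degree = (d : WithBot ℕ) := by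
      simp only [gu, Polynomial.map_add, Polynomial.map_pow, map_X, Polynomial.map_sum,
        Polynomial.map_mul, map_C]
      rw [degree_add_eq_left_of_degree_lt (by rw [degree_X_pow]; exact hdeg _), degree_X_pow]
    rwa [this] at h1
  have hFθ : ∀ (θ : (MvPolynomial (Fin d) R) →+* R), θ.comp MvPolynomial.C = RingHom.id R → F.map θ = f := by
    intro θ hθ
    rw [Polynomial.map_map, hθ, Polynomial.map_id]
  have hev : ∀ a : Fin d → R, (MvPolynomial.eval a).comp MvPolynomial.C = RingHom.id R :=
    fun a => RingHom.ext fun x => MvPolynomial.eval_C x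
  let θ : (MvPolynomial (Fin d) R) →+* IsLocalRing.ResidueField R := res.comp (MvPolynomial.eval a₀)
  have hguθ : gu.map θ = g₀ := by
    conv_rhs => rw [hg.as_sum]
    simp only [gu, Polynomial.map_add, Polynomial.map_pow, map_X, Polynomial.map_sum,
      Polynomial.map_mul, map_C]
    rw [Finset.sum_range]
    congr 1
    refine Finset.sum_congr rfl fun i _ => ?_
    simp [θ, res, ha₀]
  have hFθ' : F.map θ = g₀ * h₀ := by
    rw [← hf, ← Polynomial.map_map, hFθ _ (hev a₀)]
  obtain ⟨hqθ, hrθ⟩ : q.map θ = h₀ ∧ r.map θ = 0 := by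
    obtain ⟨h1, h2⟩ := div_modByMonic_unique (f := g₀ * h₀) h₀ (0 : (IsLocalRing.ResidueField R)[X]) hg
      ⟨by simp, by rw [degree_zero]; exact bot_lt_iff_ne_bot.mpr (degree_ne_bot.mpr hg.ne_zero)⟩
    exact ⟨by rw [map_divByMonic θ hgu, hFθ', hguθ, h1], by rw [map_modByMonic θ hgu, hFθ', hguθ, h2]⟩
  let D : Fin d → Derivation ℤ (MvPolynomial (Fin d) R)[X] (MvPolynomial (Fin d) R)[X] := fun j =>
    PolynomialModule.equivPolynomialSelf.compDer ((MvPolynomial.pderiv j).restrictScalars ℤ).mapCoeffs
  have hD : ∀ j (p : (MvPolynomial (Fin d) R)[X]) (i : ℕ), (D j p).coeff i = MvPolynomial.pderiv j (p.coeff i) :=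
    fun j p i => rfl
  have hDgu : ∀ j : Fin d, D j gu = X ^ (j : ℕ) := by
    intro j
    ext i
    rw [hD]
    simp only [gu, coeff_add, coeff_X_pow, finsetSum_coeff, coeff_C_mul_X_pow, map_add, map_sum]
    rw [Finset.sum_eq_single j]
    · have hjd : ¬ d = (j : ℕ) := fun h => absurd h (ne_of_gt j.isLt)
      by_cases h1 : i = d <;> by_cases h2 : i = (j : ℕ) <;> simp [h1, h2, hjd, Ne.symm hjd]
    · intro b _ hb
      by_cases h2 : i = (b : ℕ) <;> simp [h2, MvPolynomial.pderiv_X_of_ne hb.symm, MvPolynomial.pderiv_X_of_ne hb]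
    · simp
  have hDF : ∀ j : Fin d, D j F = 0 := fun j => by
    ext i
    rw [hD, coeff_map]
    simp
  let M : Matrix (Fin d) (Fin d) R := Matrix.of fun i j =>
    MvPolynomial.eval a₀ (MvPolynomial.pderiv j (r.coeff i))
  have hDr : ∀ j : Fin d, (D j r).map θ = -(h₀ * X ^ (j : ℕ)) - g₀ * (D j q).map θ := by
    intro j
    have h1 := congr_arg (fun p : (MvPolynomial (Fin d) R)[X] => (D j p).map θ) hF
    simp only [map_add, Derivation.leibniz, smul_eq_mul, hDF, Polynomial.map_zero,
      Polynomial.map_add, Polynomial.map_mul, hqθ, hguθ, hDgu, Polynomial.map_pow, map_X] at h1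
    linear_combination h1
  have hM : IsUnit M.det := by
    refine isUnit_of_map_unit res _ ?_
    rw [RingHom.map_det]
    refine (isUnit_iff_ne_zero).mpr fun hdet => ?_
    obtain ⟨v, hv, hMv⟩ := Matrix.exists_mulVec_eq_zero_iff.mpr hdet
    let w : (IsLocalRing.ResidueField R)[X] := ∑ j : Fin d, C (v j) * X ^ (j : ℕ)
    let Dq := ∑ j : Fin d, C (v j) * (D j q).map θ
    have h1 : ∑ j : Fin d, C (v j) * (D j r).map θ = -(h₀ * w) - g₀ * Dq := by
      simp only [hDr, w, Dq, Finset.mul_sum, mul_sub, Finset.sum_sub_distrib]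
      rw [← Finset.sum_neg_distrib]
      congr 1
      · exact Finset.sum_congr rfl fun j _ => by ring
      · exact Finset.sum_congr rfl fun j _ => by ring
    have h2 : ∑ j : Fin d, C (v j) * (D j r).map θ = 0 := by
      ext i
      simp only [finsetSum_coeff, coeff_C_mul, coeff_map, hD, coeff_zero]
      rcases lt_or_ge i d with hi | hi
      · have := congr_fun hMv ⟨i, hi⟩
        simpa [Matrix.mulVec, dotProduct, M, θ, mul_comm] using this
      · refine Finset.sum_eq_zero fun j _ => ?_
        have : r.coeff i = 0 := by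
          rcases subsingleton_or_nontrivial (MvPolynomial (Fin d) R) with _ | _
          · exact Subsingleton.elim _ _
          have h3 := hr (RingHom.id (MvPolynomial (Fin d) R))
          rw [Polynomial.map_id] at h3
          exact coeff_eq_zero_of_degree_lt (h3.trans_le (WithBot.coe_le_coe.mpr hi))
        simp [this]
    rw [h2] at h1
    have h3 : g₀ ∣ h₀ * w := ⟨-Dq, by linear_combination h1⟩
    have h4 : w = 0 := by
      by_contra hw
      refine not_lt_of_ge (degree_le_of_dvd (hc.dvd_of_dvd_mul_left h3) hw) ?_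
      rw [degree_eq_natDegree hg.ne_zero]
      exact hdeg v
    refine hv (funext fun j => ?_)
    have := congr_arg (fun p => p.coeff (j : ℕ)) h4
    simp only [w, finsetSum_coeff, coeff_C_mul_X_pow, coeff_zero] at this
    rw [Finset.sum_eq_single j] at this
    · simpa using this
    · intro b _ hb
      rw [if_neg fun h => hb (Fin.ext h.symm)]
    · simp
  obtain ⟨a, ha, haa₀⟩ := Groth.Agent.S17972.result R d (fun i => r.coeff i) a₀ (fun i => by
    rw [← IsLocalRing.residue_eq_zero_iff]
    have := congr_arg (fun p => p.coeff (i : ℕ)) hrθ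
    simpa [coeff_map, θ, res] using this) hM
  let ev : (MvPolynomial (Fin d) R) →+* R := MvPolynomial.eval a
  have hres : res.comp ev = θ := MvPolynomial.ringHom_ext (fun x => by simp [ev, θ]) fun i => by
    simp only [ev, θ, RingHom.comp_apply, MvPolynomial.eval_X]
    exact Ideal.Quotient.eq.mpr (haa₀ i)
  have hr0 : r.map ev = 0 := by
    ext i
    rw [coeff_map, coeff_zero]
    rcases lt_or_ge i d with hi | hi
    · exact ha ⟨i, hi⟩
    · rw [← coeff_map]
      exact coeff_eq_zero_of_degree_lt ((hr ev).trans_le (WithBot.coe_le_coe.mpr hi))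
  refine ⟨gu.map ev, q.map ev, ?_, hgu.map ev, ?_, ?_⟩
  · rw [← hFθ ev (hev a), ← hF, Polynomial.map_add, Polynomial.map_mul, hr0, zero_add]
  · rw [Polynomial.map_map, hres, hguθ]
  · rw [Polynomial.map_map, hres, hqθ]

end Groth.Hensel1
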