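import Groth.Prelude.Def_EGA4b
import Groth.Agent.Hensel1.Transfer
import Groth.Agent.Hensel1.Reduced
import Groth.Agent.Hensel1.Noetherian
import Groth.Agent.Ega4Algebra2.CplQuot
import Groth.Agent.Calg1.SmoothCompletion
import Groth.Agent.S2801
import Mathlib.RingTheory.Ideal.AssociatedPrime.Localization

/-!
# Formal catenarity of henselizations
-/

set_option autoImplicit false

namespace Groth.Hensel1

open IsLocalRing
open scoped TensorProduct

universe u

theorem isEquidim_of_surjective {C E : Type u} [CommRing C] [CommRing E] [Nontrivial E] (π : C →+* E)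
    (hπ : Function.Surjective π) (hmin : ∀ P ∈ minimalPrimes E, P.comap π ∈ minimalPrimes C)
    (h : EGA4.IsEquidim C) : EGA4.IsEquidim E := by
  intro P hP
  have hdim : ∀ P ∈ minimalPrimes E, ringKrullDim (E ⧸ P) = ringKrullDim C := fun P hP => by
    have e := RingHom.quotientKerEquivOfSurjective (f := (Ideal.Quotient.mk P).comp π)
      (Ideal.Quotient.mk_surjective.comp hπ)
    rw [← ringKrullDim_eq_of_ringEquiv e, ← RingHom.comap_ker, Ideal.mk_ker]
    exact h _ (hmin P hP)
  refine le_antisymm ?_ ?_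
  · exact ringKrullDim_quotient_le P
  · rw [hdim P hP]
    exact ringKrullDim_le_of_surjective π hπ

theorem isEquidim_of_ringEquiv {C E : Type u} [CommRing C] [CommRing E] [Nontrivial E] (e : C ≃+* E)
    (h : EGA4.IsEquidim C) : EGA4.IsEquidim E := by
  refine isEquidim_of_surjective e.toRingHom e.surjective (fun P hP => ?_) h
  have hPp := Ideal.minimalPrimes_isPrime hP
  refine ⟨⟨Ideal.IsPrime.comap _, bot_le⟩, fun P' hP' hle => ?_⟩
  have hP'p := hP'.1
  have h1 : P ≤ P'.comap e.symm.toRingHom :=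
    hP.2 ⟨Ideal.IsPrime.comap _, bot_le⟩ fun x hx => by
      have h2 : e (e.symm x) ∈ P := hle hx
      rwa [e.apply_symm_apply] at h2
  intro x hx
  have h3 : e.symm (e x) ∈ P' := h1 hx
  rwa [e.symm_apply_apply] at h3

theorem isStrictlyEquidim_of_surjective {C E : Type u} [CommRing C] [CommRing E] [Nontrivial E]
    [IsNoetherianRing E] (π : C →+* E) (hπ : Function.Surjective π)
    (hass : ∀ P ∈ associatedPrimes E E, P.comap π ∈ associatedPrimes C C)
    (h : EGA4.IsStrictlyEquidim C) : EGA4.IsStrictlyEquidim E := by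
  intro P hP
  refine le_antisymm (ringKrullDim_quotient_le P) ?_
  have e := RingHom.quotientKerEquivOfSurjective (f := (Ideal.Quotient.mk P).comp π)
    (Ideal.Quotient.mk_surjective.comp hπ)
  rw [← ringKrullDim_eq_of_ringEquiv e, ← RingHom.comap_ker, Ideal.mk_ker, h _ (hass P hP)]
  exact ringKrullDim_le_of_surjective π hπ

/-- The pullback of an associated prime along a surjection whose kernel is an annihilator. -/
theorem comap_mem_associatedPrimes {C E : Type u} [CommRing C] [CommRing E] [IsNoetherianRing C]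
    [IsNoetherianRing E] (π : C →+* E) (hπ : Function.Surjective π) (c : C)
    (hker : ∀ y, c * y = 0 ↔ π y = 0) {P : Ideal E} (hP : P ∈ associatedPrimes E E) :
    P.comap π ∈ associatedPrimes C C := by
  obtain ⟨hPp, x, hx⟩ := isAssociatedPrime_iff.mp hP
  refine isAssociatedPrime_iff.mpr ⟨Ideal.IsPrime.comap _, ?_⟩
  obtain ⟨x, rfl⟩ := hπ x
  refine ⟨c * x, Ideal.ext fun y => ?_⟩
  rw [Ideal.mem_comap, hx, Submodule.mem_colon_singleton, Submodule.mem_bot, Submodule.mem_colon_singleton,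
    Submodule.mem_bot, smul_eq_mul, smul_eq_mul, ← map_mul, ← hker, mul_left_comm]

theorem isStrictlyEquidim_of_ringEquiv {C E : Type u} [CommRing C] [CommRing E] [Nontrivial E]
    [IsNoetherianRing C] [IsNoetherianRing E] (e : C ≃+* E) (h : EGA4.IsStrictlyEquidim C) :
    EGA4.IsStrictlyEquidim E :=
  isStrictlyEquidim_of_surjective e.toRingHom e.surjective
    (fun _ hP => comap_mem_associatedPrimes e.toRingHom e.surjective 1
      (fun y => by rw [one_mul]; exact (map_eq_zero_iff e.toRingHom e.injective).symm) hP) h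

/-- Completions of isomorphic local rings are isomorphic. -/
theorem nonempty_cpl_ringEquiv {A B : Type u} [CommRing A] [IsLocalRing A] [CommRing B] [IsLocalRing B]
    (e : A ≃+* B) : Nonempty (EGA4.Cpl A ≃+* EGA4.Cpl B) := by
  let _ : Algebra A B := e.toRingHom.toAlgebra
  have hm : ∀ n, (maximalIdeal B ^ n).comap (Algebra.ofId A B) = maximalIdeal A ^ n := fun n => by
    have h1 : (maximalIdeal A).map e.toRingHom = maximalIdeal B :=
      IsLocalRing.map_maximalIdeal_of_surjective _ e.surjective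
    rw [← h1, ← Ideal.map_pow]
    exact Ideal.comap_map_of_bijective e.toRingHom e.bijective
  obtain ⟨E⟩ := Groth.Calg1.nonempty_algEquiv_adicCompletion (R := A) (maximalIdeal A) (maximalIdeal B)
    (Algebra.ofId A B) (fun n => (hm n).ge) fun n => by
      refine ⟨Ideal.quotientMap_injective' (H := (hm n).ge) (hm n).le, fun y => ?_⟩
      obtain ⟨y, rfl⟩ := Ideal.Quotient.mk_surjective y
      obtain ⟨a, rfl⟩ := e.surjective y
      exact ⟨Ideal.Quotient.mk _ a, rfl⟩
  exact ⟨E.toRingEquiv⟩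

/-- The completion of a henselization is the completion. -/
theorem nonempty_cpl_henselization (A T : Type u) [CommRing A] [IsLocalRing A] [CommRing T]
    [IsLocalRing T] [Algebra A T] [IsLocalHom (algebraMap A T)] [Hensel.IsHenselization A T] :
    Nonempty (EGA4.Cpl A ≃+* EGA4.Cpl T) := by
  obtain ⟨M⟩ := hensModel_of_isHenselization (R := A) (S := T)
  have := M.faithfullyFlat
  have hm := M.map_maximalIdeal
  have hres : ∀ t : T, ∃ a : A, t - algebraMap A T a ∈ maximalIdeal T := by
    intro t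
    obtain ⟨e⟩ := exists_algEquiv_of_isHenselization A T
    obtain ⟨a, ha⟩ := residue_surjective (Hens.pt (e.symm t))
    refine ⟨a, (IsLocalRing.mem_maximalIdeal _).mpr fun hu => ?_⟩
    have h0 : e.symm (t - algebraMap A T a) ∈ maximalIdeal (Hens A (ResidueField A)) := by
      rw [Hens.mem_maximalIdeal_iff, map_sub, AlgEquiv.commutes, map_sub,
        AlgHom.commutes, ← ha, ResidueField.algebraMap_eq, sub_self]
    exact (IsLocalRing.mem_maximalIdeal _).mp h0 (hu.map e.symm)
  have hstep : ∀ (n : ℕ), ∀ x ∈ maximalIdeal T ^ n, ∃ a ∈ maximalIdeal A ^ n,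
      x - algebraMap A T a ∈ maximalIdeal T ^ (n + 1) := by
    intro n x hx
    rw [← hm, ← Ideal.map_pow] at hx
    refine Submodule.span_induction (p := fun x _ => ∃ a ∈ maximalIdeal A ^ n,
      x - algebraMap A T a ∈ maximalIdeal T ^ (n + 1)) ?_ ⟨0, zero_mem _, by simp⟩ ?_ ?_ hx
    · rintro _ ⟨a, ha, rfl⟩
      exact ⟨a, ha, by rw [sub_self]; exact zero_mem _⟩
    · rintro x y - - ⟨a, ha, hxa⟩ ⟨b, hb, hyb⟩
      exact ⟨a + b, add_mem ha hb, by rw [map_add, add_sub_add_comm]; exact add_mem hxa hyb⟩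
    · rintro t x - ⟨a, ha, hxa⟩
      obtain ⟨b, hb⟩ := hres t
      refine ⟨b * a, Ideal.mul_mem_left _ _ ha, ?_⟩
      have h1 : algebraMap A T a ∈ maximalIdeal T ^ n := by
        rw [← hm, ← Ideal.map_pow]; exact Ideal.mem_map_of_mem _ ha
      have h2 : (t - algebraMap A T b) * algebraMap A T a ∈ maximalIdeal T ^ (n + 1) := by
        rw [pow_succ']; exact Ideal.mul_mem_mul hb h1
      rw [map_mul, smul_eq_mul,
        show t * x - algebraMap A T b * algebraMap A T a =
          t * (x - algebraMap A T a) + (t - algebraMap A T b) * algebraMap A T a by ring]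
      exact add_mem (Ideal.mul_mem_left _ _ hxa) h2
  have hsurj : ∀ (n : ℕ) (t : T), ∃ a : A, t - algebraMap A T a ∈ maximalIdeal T ^ n := by
    intro n
    induction n with
    | zero => exact fun t => ⟨0, by simp⟩
    | succ n ih =>
      intro t
      obtain ⟨a, ha⟩ := ih t
      obtain ⟨b, -, hb⟩ := hstep n _ ha
      exact ⟨a + b, by rwa [map_add, ← sub_sub]⟩
  have hle : ∀ n, (maximalIdeal T ^ n).comap (algebraMap A T) = maximalIdeal A ^ n := fun n => by
    rw [← hm, ← Ideal.map_pow, Ideal.comap_map_eq_self_of_faithfullyFlat]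
  obtain ⟨E⟩ := Groth.Calg1.nonempty_algEquiv_adicCompletion (R := A) (maximalIdeal A) (maximalIdeal T)
    (Algebra.ofId A T) (fun n => (hle n).ge) fun n => by
      refine ⟨Ideal.quotientMap_injective' (H := (hle n).ge) (hle n).le, fun y => ?_⟩
      obtain ⟨y, rfl⟩ := Ideal.Quotient.mk_surjective y
      obtain ⟨a, ha⟩ := hsurj n y
      exact ⟨Ideal.Quotient.mk _ a, (Ideal.Quotient.eq.mpr (by
        rw [← neg_sub, neg_mem_iff]; exact ha))⟩
  exact ⟨E.toRingEquiv⟩

theorem nontrivial_cpl (A : Type u) [CommRing A] [IsLocalRing A] [IsNoetherianRing A] :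
    Nontrivial (EGA4.Cpl A) :=
  (AdicCompletion.of_injective (maximalIdeal A) A).nontrivial

variable (R S : Type u) [CommRing R] [IsLocalRing R] [IsNoetherianRing R] [CommRing S] [IsLocalRing S]
  [Algebra R S] [IsLocalHom (algebraMap R S)] [Hensel.IsHenselization R S]

/-- Setup: a prime of `S` seen in the henselization of `R/p`. -/
theorem exists_quotient_henselization (Q : Ideal S) [Q.IsPrime] :
    ∃ (T : Type u) (_ : CommRing T) (_ : IsLocalRing T) (_ : IsNoetherianRing T) (Q' : Ideal T)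
      (_ : Q'.IsPrime) (_ : Nontrivial (T ⧸ Q')), Q' ∈ minimalPrimes T ∧
      Nonempty (EGA4.Cpl (R ⧸ Q.comap (algebraMap R S)) ≃+* EGA4.Cpl T) ∧
      Nonempty (T ⧸ Q' ≃+* S ⧸ Q) := by
  classical
  let p := Q.comap (algebraMap R S)
  have : p.IsPrime := Ideal.IsPrime.comap _
  let A := R ⧸ p
  have : IsLocalHom (algebraMap R A) :=
    IsLocalHom.of_surjective (algebraMap R A) Ideal.Quotient.mk_surjective
  obtain ⟨_, _, hT⟩ := Groth.Agent.S2801.result R A S
  let T := A ⊗[R] S
  obtain ⟨M⟩ := hensModel_of_isHenselization (R := A) (S := T)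
  have : IsNoetherianRing T := M.isNoetherianRing_iff.mp inferInstance
  let π : S →+* T := Algebra.TensorProduct.includeRight.toRingHom
  have hA : ∀ a : A, ∃ r : R, algebraMap R A r = a := fun a => Ideal.Quotient.mk_surjective a
  have hπ : Function.Surjective π := by
    intro x
    induction x using TensorProduct.induction_on with
    | zero => exact ⟨0, map_zero _⟩
    | tmul a s =>
      obtain ⟨r, rfl⟩ := hA a
      refine ⟨r • s, ?_⟩
      show (1 : A) ⊗ₜ[R] (r • s) = algebraMap R A r ⊗ₜ[R] s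
      rw [Algebra.algebraMap_eq_smul_one, TensorProduct.smul_tmul]
    | add x y hx hy =>
      obtain ⟨a, rfl⟩ := hx
      obtain ⟨b, rfl⟩ := hy
      exact ⟨a + b, map_add _ _ _⟩
  let iA : A →ₐ[R] S ⧸ Q := Ideal.Quotient.liftₐ p (Algebra.ofId R (S ⧸ Q)) fun r hr =>
    Ideal.Quotient.eq_zero_iff_mem.mpr hr
  let iS : S →ₐ[R] S ⧸ Q := Ideal.Quotient.mkₐ R Q
  let χ : T →ₐ[R] S ⧸ Q := Algebra.TensorProduct.lift iA iS fun _ _ => .all _ _
  have hχπ : ∀ s, χ (π s) = Ideal.Quotient.mk Q s := fun s => by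
    show χ ((1 : A) ⊗ₜ[R] s) = _
    refine (Algebra.TensorProduct.lift_tmul _ _ _ _ _).trans ?_
    rw [map_one, one_mul]
    rfl
  have hχ : Function.Surjective χ := fun y => by
    obtain ⟨s, rfl⟩ := Ideal.Quotient.mk_surjective y
    exact ⟨π s, hχπ s⟩
  let Q' : Ideal T := RingHom.ker χ.toRingHom
  have : Q'.IsPrime := RingHom.ker_isPrime _
  let e' : T ⧸ Q' ≃+* S ⧸ Q := RingHom.quotientKerEquivOfSurjective (f := χ.toRingHom) hχ
  have hnt : Nontrivial (T ⧸ Q') := Ideal.Quotient.nontrivial_iff.mpr (Ideal.IsPrime.ne_top inferInstance)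
  have hmin : Q' ∈ minimalPrimes T := by
    refine ⟨⟨inferInstance, bot_le⟩, fun P hP hle => ?_⟩
    have := hP.1
    let ε := M.equiv.toRingEquiv
    have := Hens.eq_of_le_of_comap_eq (R := A) (Ω := M.Ω) (P := P.comap ε.toRingHom)
      (Q := Q'.comap ε.toRingHom) (Ideal.comap_mono hle) (by
        rw [Ideal.comap_comap, Ideal.comap_comap,
          show ε.toRingHom.comp (algebraMap A (Hens A M.Ω)) = algebraMap A T from M.equiv.toAlgHom.comp_algebraMap]
        refine le_antisymm (Ideal.comap_mono hle) fun a ha => ?_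
        have h0 : a = 0 := by
          obtain ⟨r, rfl⟩ := hA a
          have h1 : χ (algebraMap A T (algebraMap R A r)) = 0 := ha
          rw [← IsScalarTower.algebraMap_apply, AlgHom.commutes] at h1
          have h2 : Ideal.Quotient.mk Q (algebraMap R S r) = 0 := h1
          exact Ideal.Quotient.eq_zero_iff_mem.mpr
            (show r ∈ p from Ideal.mem_comap.mpr (Ideal.Quotient.eq_zero_iff_mem.mp h2))
        rw [h0]
        exact zero_mem _)
    intro x hx
    obtain ⟨y, rfl⟩ := ε.surjective x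
    exact (this.ge hx : y ∈ P.comap ε.toRingHom)
  exact ⟨T, inferInstance, inferInstance, inferInstance, Q', inferInstance, hnt, hmin,
    nonempty_cpl_henselization A T, ⟨e'⟩⟩

theorem isFormallyCatenary_henselization (h : EGA4.IsFormallyCatenary R) :
    EGA4.IsFormallyCatenary S := by
  intro Q _
  obtain ⟨T, _, _, _, Q', _, _, hmin, ⟨e₁⟩, ⟨e'⟩⟩ := exists_quotient_henselization R S Q
  have hN := Groth.Ega4b.isNoetherianRing_cpl T
  have := nontrivial_cpl T
  have h1 : EGA4.IsEquidim (EGA4.Cpl T) := isEquidim_of_ringEquiv e₁ (h (Q.comap (algebraMap R S)))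
  obtain ⟨e₂⟩ := nonempty_cpl_ringEquiv e'
  have := nontrivial_cpl (T ⧸ Q')
  have h2 : EGA4.IsEquidim (EGA4.Cpl (T ⧸ Q')) := by
    refine isEquidim_of_surjective _ (Groth.Ega4b.cplQuot_surjective T Q') (fun P hP => ?_) h1
    have hPp := Ideal.minimalPrimes_isPrime hP
    set P' := P.comap (Groth.Ega4b.cplQuot T Q')
    have hP' : P'.IsPrime := Ideal.IsPrime.comap _
    have hK : Q'.map (algebraMap T (EGA4.Cpl T)) ≤ P' := by
      rw [← Groth.Ega4b.ker_cplQuot]
      intro x hx
      show Groth.Ega4b.cplQuot T Q' x ∈ P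
      rw [RingHom.mem_ker.mp hx]
      exact zero_mem _
    have hQ'P : Q' ≤ P'.under T := Ideal.map_le_iff_le_comap.mp hK
    have hminP : ∀ P₁ : Ideal (EGA4.Cpl T), P₁.IsPrime → Q'.map (algebraMap T _) ≤ P₁ → P₁ ≤ P' → P' ≤ P₁ := by
      intro P₁ hP₁ hK₁ hle₁
      have hker : RingHom.ker (Groth.Ega4b.cplQuot T Q') ≤ P₁ := by rwa [Groth.Ega4b.ker_cplQuot]
      have hp : (P₁.map (Groth.Ega4b.cplQuot T Q')).IsPrime :=
        Ideal.map_isPrime_of_surjective (Groth.Ega4b.cplQuot_surjective T Q') hker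
      have h3 := hP.2 ⟨hp, bot_le⟩ (Ideal.map_le_iff_le_comap.mpr hle₁)
      calc P' ≤ (P₁.map (Groth.Ega4b.cplQuot T Q')).comap (Groth.Ega4b.cplQuot T Q') :=
            Ideal.comap_mono h3
        _ = P₁ := by
            rw [Ideal.comap_map_of_surjective' _ (Groth.Ega4b.cplQuot_surjective T Q'),
              sup_eq_left.mpr hker]
    have : Module.Flat T (EGA4.Cpl T) := AdicCompletion.flat_of_isNoetherian _
    have hover : P'.LiesOver (P'.under T) := ⟨rfl⟩
    obtain ⟨P₁, hP₁le, hP₁, hP₁o⟩ := Ideal.exists_ideal_le_liesOver_of_le (p := Q') P' (q := P'.under T) hQ'P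
    have hP'1 : P' ≤ P₁ := hminP P₁ hP₁ (Ideal.map_le_iff_le_comap.mpr hP₁o.over.le) hP₁le
    refine ⟨⟨hP', bot_le⟩, fun P₂ hP₂ hle₂ => ?_⟩
    have := hP₂.1
    refine hminP P₂ hP₂.1 (Ideal.map_le_iff_le_comap.mpr ?_) hle₂
    refine hmin.2 ⟨Ideal.IsPrime.comap _, bot_le⟩ ?_
    refine (Ideal.comap_mono (hle₂.trans hP'1)).trans ?_
    exact hP₁o.over.ge
  have := e₂.toEquiv.symm.nontrivial
  exact (isEquidim_of_ringEquiv (E := EGA4.Cpl (S ⧸ Q))) e₂ h2

theorem isFormallyStrictlyCatenary_henselization (h : EGA4.IsFormallyStrictlyCatenary R) :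
    EGA4.IsFormallyStrictlyCatenary S := by
  intro Q _
  obtain ⟨T, _, _, _, Q', _, _, hmin, ⟨e₁⟩, ⟨e'⟩⟩ := exists_quotient_henselization R S Q
  have hN := Groth.Ega4b.isNoetherianRing_cpl T
  have hN' := Groth.Ega4b.isNoetherianRing_cpl (T ⧸ Q')
  have hN'' := Groth.Ega4b.isNoetherianRing_cpl (R ⧸ Q.comap (algebraMap R S))
  have := nontrivial_cpl T
  have h1 : EGA4.IsStrictlyEquidim (EGA4.Cpl T) :=
    isStrictlyEquidim_of_ringEquiv e₁ (h (Q.comap (algebraMap R S)))
  obtain ⟨e₂⟩ := nonempty_cpl_ringEquiv e'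
  have := nontrivial_cpl (T ⧸ Q')
  have hass : Q' ∈ associatedPrimes T T := by
    refine Module.associatedPrimes.minimalPrimes_annihilator_subset_associatedPrimes T T ?_
    rwa [Module.annihilator_eq_bot.mpr inferInstance]
  obtain ⟨-, c, hc⟩ := isAssociatedPrime_iff.mp hass
  have hQc : ∀ a, a ∈ Q' ↔ c * a = 0 := fun a => by
    rw [hc, Submodule.mem_colon_singleton, Submodule.mem_bot, smul_eq_mul, mul_comm]
  have hflat : Module.Flat T (EGA4.Cpl T) := AdicCompletion.flat_of_isNoetherian _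
  have hker : ∀ y : EGA4.Cpl T, algebraMap T _ c * y = 0 ↔ Groth.Ega4b.cplQuot T Q' y = 0 := by
    intro y
    rw [← RingHom.mem_ker (f := Groth.Ega4b.cplQuot T Q'), Groth.Ega4b.ker_cplQuot]
    constructor
    · intro hy
      obtain ⟨k, a, z, hyz, ha⟩ := Module.Flat.isTrivialRelation_of_sum_smul_eq_zero
        (R := T) (M := EGA4.Cpl T) (f := fun _ : Fin 1 => c) (x := fun _ => y)
        (by rw [Fin.sum_univ_one, Algebra.smul_def]; exact hy)
      rw [show y = ∑ j, a 0 j • z j from hyz 0]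
      refine Ideal.sum_mem _ fun j _ => ?_
      rw [Algebra.smul_def]
      refine Ideal.mul_mem_right _ _ (Ideal.mem_map_of_mem _ ((hQc _).mpr ?_))
      simpa using ha j
    · intro hy
      refine Submodule.span_induction (p := fun y _ => algebraMap T _ c * y = 0) ?_ (mul_zero _) ?_ ?_ hy
      · rintro _ ⟨a, ha, rfl⟩
        rw [← map_mul, (hQc a).mp ha, map_zero]
      · rintro x y - - hx hy
        rw [mul_add, hx, hy, add_zero]
      · rintro t x - hx
        rw [smul_eq_mul, mul_left_comm, hx, mul_zero]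
  have h2 : EGA4.IsStrictlyEquidim (EGA4.Cpl (T ⧸ Q')) :=
    isStrictlyEquidim_of_surjective _ (Groth.Ega4b.cplQuot_surjective T Q')
      (fun P hP => comap_mem_associatedPrimes _ (Groth.Ega4b.cplQuot_surjective T Q') _ hker hP) h1
  have : IsNoetherianRing (S ⧸ Q) := isNoetherianRing_of_ringEquiv (T ⧸ Q') e'
  have hN''' := Groth.Ega4b.isNoetherianRing_cpl (S ⧸ Q)
  have := nontrivial_cpl (S ⧸ Q)
  exact (isStrictlyEquidim_of_ringEquiv (E := EGA4.Cpl (S ⧸ Q))) e₂ h2

end Groth.Hensel1
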