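import Groth.Agent.LocImm.FiniteFactor
import Groth.Agent.EtaleBase.Rigidity
import Mathlib.AlgebraicGeometry.Morphisms.Etale
import Mathlib.AlgebraicGeometry.Morphisms.FlatMono
import Mathlib.AlgebraicGeometry.Morphisms.QuasiFinite

/-!
# Lifting of open and closed subsets along finite morphisms gives lifting of sections
-/

set_option autoImplicit false
universe u

open CategoryTheory Limits AlgebraicGeometry

noncomputable section

namespace Groth.Hensel1

variable {S S₀ : Scheme.{u}}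

theorem eq_empty_of_disjoint_range (i : S₀ ⟶ S)
    (ha : ∀ (S' : Scheme.{u}) (g : S' ⟶ S), IsFinite g →
      ∀ V : Set ↥(pullback g i), IsClopen V → ∃! U : Set ↥S', IsClopen U ∧ (pullback.fst g i).base ⁻¹' U = V)
    {X : Scheme.{u}} (g : X ⟶ S) [IsFinite g] {C : Set X} (hC : IsClosed C)
    (hd : ∀ x ∈ C, g x ∉ Set.range i) : C = ∅ := by
  let Z : TopologicalSpace.Closeds X := ⟨C, hC⟩
  let I := Scheme.IdealSheafData.vanishingIdeal Z
  have hr : Set.range I.subschemeι = C := by
    rw [I.range_subschemeι]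
    simp [I, Z]
  have hemp : IsEmpty ↥(pullback (I.subschemeι ≫ g) i) := ⟨fun p => by
    refine hd (I.subschemeι (pullback.fst (I.subschemeι ≫ g) i p)) (hr ▸ ⟨_, rfl⟩)
      ⟨pullback.snd (I.subschemeι ≫ g) i p, ?_⟩
    exact (congrArg (fun m : pullback (I.subschemeι ≫ g) i ⟶ S => m p)
      (pullback.condition (f := I.subschemeι ≫ g) (g := i))).symm⟩
  obtain ⟨U, -, hU⟩ := ha _ (I.subschemeι ≫ g) inferInstance ∅ isClopen_empty
  have h := (hU ∅ ⟨isClopen_empty, Set.eq_empty_of_isEmpty _⟩).trans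
    (hU Set.univ ⟨isClopen_univ, Set.eq_empty_of_isEmpty _⟩).symm
  rw [← hr, Set.range_eq_empty_iff]
  exact Set.univ_eq_empty_iff.mp h.symm

theorem eq_univ_of_isOpen_of_range_subset (i : S₀ ⟶ S)
    (ha : ∀ (S' : Scheme.{u}) (g : S' ⟶ S), IsFinite g →
      ∀ V : Set ↥(pullback g i), IsClopen V → ∃! U : Set ↥S', IsClopen U ∧ (pullback.fst g i).base ⁻¹' U = V)
    {X : Scheme.{u}} (g : X ⟶ S) [IsFinite g] {W : Set X} (hW : IsOpen W)
    (h : ∀ x, g x ∈ Set.range i → x ∈ W) : W = Set.univ :=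
  Set.compl_empty_iff.mp (eq_empty_of_disjoint_range i ha g hW.isClosed_compl fun x hx hx' => hx (h x hx'))

theorem sections_unique (i : S₀ ⟶ S)
    (ha : ∀ (S' : Scheme.{u}) (g : S' ⟶ S), IsFinite g →
      ∀ V : Set ↥(pullback g i), IsClopen V → ∃! U : Set ↥S', IsClopen U ∧ (pullback.fst g i).base ⁻¹' U = V)
    {S' : Scheme.{u}} (g : S' ⟶ S) [Etale g] {u u' : S ⟶ S'} (hu : u ≫ g = 𝟙 S)
    (hu' : u' ≫ g = 𝟙 S) (h : i ≫ u = i ≫ u') : u = u' := by
  let w : S ⟶ pullback g g := pullback.lift u u' (hu.trans hu'.symm)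
  have hW := eq_univ_of_isOpen_of_range_subset i ha (𝟙 S)
    (W := w ⁻¹' Set.range (pullback.diagonal g))
    ((pullback.diagonal g).isOpenEmbedding.isOpen_range.preimage w.continuous) (by
      rintro _ ⟨s, rfl⟩
      refine ⟨(i ≫ u) s, ?_⟩
      have e : (i ≫ u) ≫ pullback.diagonal g = i ≫ w := by
        apply pullback.hom_ext
        · rw [Category.assoc, pullback.diagonal_fst, Category.comp_id, Category.assoc]
          exact (congrArg (i ≫ ·) (pullback.lift_fst _ _ _)).symm
        · rw [Category.assoc, pullback.diagonal_snd, Category.comp_id, Category.assoc, h]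
          exact (congrArg (i ≫ ·) (pullback.lift_snd _ _ _)).symm
      exact congrArg (fun m : S₀ ⟶ pullback g g => m s) e)
  have hr : Set.range w ⊆ Set.range (pullback.diagonal g) := by
    rintro _ ⟨s, rfl⟩
    exact (hW.ge (Set.mem_univ s) : s ∈ w ⁻¹' Set.range (pullback.diagonal g))
  have hl := IsOpenImmersion.lift_fac (pullback.diagonal g) w hr
  have h1 := congrArg (· ≫ pullback.fst g g) hl
  have h2 := congrArg (· ≫ pullback.snd g g) hl
  simp only [Category.assoc, pullback.diagonal_fst, pullback.diagonal_snd, Category.comp_id, w,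
    pullback.lift_fst, pullback.lift_snd] at h1 h2
  exact h1.symm.trans h2

theorem isOpenImmersion_section {X Y : Scheme.{u}} (p : X ⟶ Y) [Etale p] (e : Y ⟶ X)
    (he : e ≫ p = 𝟙 Y) : IsOpenImmersion e := by
  have : Etale (e ≫ p) := he ▸ inferInstance
  have : Etale e := Etale.of_comp e p
  have : Mono e := (SplitMono.mk p he).mono
  exact IsOpenImmersion.of_flat_of_mono e

/-- If clopen subsets lift along finite morphisms, sections of étale separated morphisms lift. -/
theorem sections_lift_of_clopen_lift (i : S₀ ⟶ S) [IsClosedImmersion i]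
    [CompactSpace ↥S] [QuasiSeparatedSpace ↥S]
    (ha : ∀ (S' : Scheme.{u}) (g : S' ⟶ S), IsFinite g →
      ∀ V : Set ↥(pullback g i), IsClopen V → ∃! U : Set ↥S', IsClopen U ∧ (pullback.fst g i).base ⁻¹' U = V)
    {S' : Scheme.{u}} (g : S' ⟶ S) [Etale g] [IsSeparated g]
    (u₀ : S₀ ⟶ pullback g i) (hu₀ : u₀ ≫ pullback.snd g i = 𝟙 S₀) :
    ∃! u : S ⟶ S', u ≫ g = 𝟙 S ∧ i ≫ u = u₀ ≫ pullback.fst g i := by
  suffices hex : ∃ u : S ⟶ S', u ≫ g = 𝟙 S ∧ i ≫ u = u₀ ≫ pullback.fst g i by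
    obtain ⟨u, hu, hui⟩ := hex
    exact ⟨u, ⟨hu, hui⟩, fun y hy => sections_unique i ha g hy.1 hu (hy.2.trans hui.symm)⟩
  let v₀ : S₀ ⟶ S' := u₀ ≫ pullback.fst g i
  have hv₀ : v₀ ≫ g = i := by
    simp only [v₀, Category.assoc, pullback.condition]
    rw [← Category.assoc, hu₀, Category.id_comp]
  have : CompactSpace ↥S₀ := QuasiCompact.compactSpace_of_compactSpace i
  -- a quasi-compact open containing the image
  obtain ⟨t, ht⟩ := (isCompact_range v₀.continuous).elim_finite_subcover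
    (fun V : S'.affineOpens => (V.1 : Set S')) (fun V => V.1.2) fun x _ => by
      obtain ⟨_, ⟨V, hV, rfl⟩, hx, -⟩ :=
        S'.isBasis_affineOpens.exists_subset_of_mem_open (Set.mem_univ x) isOpen_univ
      exact Set.mem_iUnion.2 ⟨⟨V, hV⟩, hx⟩
  let V : S'.Opens := ⟨⋃ W ∈ t, (W.1 : Set S'), isOpen_biUnion fun W _ => W.1.2⟩
  have hVc : IsCompact (V : Set S') := t.finite_toSet.isCompact_biUnion fun W _ => W.2.isCompact
  have : CompactSpace ↥V.toScheme := isCompact_iff_compactSpace.mp hVc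
  have : QuasiCompact (V.ι ≫ g) := quasiCompact_of_compactSpace _
  obtain ⟨T, j, q, hj, hq, hjq⟩ := Groth.LocImmersion.exists_isOpenImmersion_comp_isFinite (V.ι ≫ g)
  have hr₀ : Set.range v₀ ⊆ Set.range V.ι := by rw [Scheme.Opens.range_ι]; exact ht
  let a₀ : S₀ ⟶ V.toScheme := IsOpenImmersion.lift V.ι v₀ hr₀
  have ha₀ : a₀ ≫ V.ι = v₀ := IsOpenImmersion.lift_fac _ _ _
  have ha₀g : a₀ ≫ V.ι ≫ g = i := by rw [reassoc_of% ha₀, hv₀]
  -- the clopen subset of the base change
  let sV : S₀ ⟶ pullback (V.ι ≫ g) i := pullback.lift a₀ (𝟙 S₀) (by rw [ha₀g, Category.id_comp])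
  have : IsOpenImmersion sV := isOpenImmersion_section (pullback.snd (V.ι ≫ g) i) sV (pullback.lift_snd _ _ _)
  let m : pullback (V.ι ≫ g) i ⟶ pullback q i :=
    pullback.map _ _ _ _ j (𝟙 S₀) (𝟙 S) (by rw [Category.comp_id, hjq]) (by simp)
  let e : S₀ ⟶ pullback q i := sV ≫ m
  have hesnd : e ≫ pullback.snd q i = 𝟙 S₀ := by
    rw [show e = sV ≫ m from rfl, Category.assoc,
      show m ≫ pullback.snd q i = pullback.snd (V.ι ≫ g) i ≫ 𝟙 S₀ from pullback.lift_snd _ _ _,
      Category.comp_id]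
    exact pullback.lift_snd _ _ _
  have hefst : e ≫ pullback.fst q i = a₀ ≫ j := by
    rw [show e = sV ≫ m from rfl, Category.assoc,
      show m ≫ pullback.fst q i = pullback.fst (V.ι ≫ g) i ≫ j from pullback.lift_fst _ _ _,
      ← Category.assoc, show sV ≫ pullback.fst (V.ι ≫ g) i = a₀ from pullback.lift_fst _ _ _]
  have : IsClosedImmersion e := by
    have : IsClosedImmersion (e ≫ pullback.snd q i) := hesnd ▸ inferInstance
    exact IsClosedImmersion.of_comp e (pullback.snd q i)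
  have hm : IsOpenImmersion m := inferInstance
  have hC : IsClopen (Set.range e) :=
    ⟨e.isClosedEmbedding.isClosed_range, (inferInstance : IsOpenImmersion (sV ≫ m)).base_open.isOpen_range⟩
  obtain ⟨U, ⟨hU, hUC⟩, -⟩ := ha T q hq _ hC
  have hpt : ∀ x ∈ U, q x ∈ Set.range i → x ∈ Set.range (a₀ ≫ j) := by
    rintro x hx ⟨s, hs⟩
    obtain ⟨p, hp, -⟩ := Scheme.Pullback.exists_preimage_pullback (f := q) (g := i) x s hs.symm
    obtain ⟨s', hs'⟩ := hUC.le (show p ∈ pullback.fst q i ⁻¹' U by rw [Set.mem_preimage, hp]; exact hx)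
    refine ⟨s', ?_⟩
    rw [← hefst, Scheme.Hom.comp_apply, hs', hp]
  have hUj : U ⊆ Set.range j := by
    intro x hx
    by_contra hxj
    have hempty := eq_empty_of_disjoint_range i ha q (C := U \ Set.range j)
      (hU.1.sdiff j.isOpenEmbedding.isOpen_range) fun y hy hy' => by
        obtain ⟨s, hs⟩ := hpt y hy.1 hy'
        exact hy.2 ⟨a₀ s, hs⟩
    exact hempty.le ⟨hx, hxj⟩
  let W : T.Opens := ⟨U, hU.2⟩
  have : IsClosedImmersion W.ι :=
    IsClosedImmersion.of_isPreimmersion _ (by rw [Scheme.Opens.range_ι]; exact hU.1)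
  let π : W.toScheme ⟶ S := W.ι ≫ q
  have : IsFinite π := inferInstance
  let l : W.toScheme ⟶ V.toScheme := IsOpenImmersion.lift j W.ι (by rw [Scheme.Opens.range_ι]; exact hUj)
  have hlj : l ≫ j = W.ι := IsOpenImmersion.lift_fac _ _ _
  have : IsOpenImmersion (l ≫ j) := hlj.symm ▸ inferInstance
  have : IsOpenImmersion l := IsOpenImmersion.of_comp l j
  have hlπ : l ≫ V.ι ≫ g = π := by rw [← hjq, reassoc_of% hlj]
  have : Etale π := hlπ ▸ inferInstance
  have hw₀r : Set.range (a₀ ≫ j) ⊆ Set.range W.ι := by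
    rw [Scheme.Opens.range_ι, ← hefst]
    rintro _ ⟨s, rfl⟩
    exact (hUC.ge ⟨s, rfl⟩ : e s ∈ pullback.fst q i ⁻¹' U)
  let w₀ : S₀ ⟶ W.toScheme := IsOpenImmersion.lift W.ι (a₀ ≫ j) hw₀r
  have hw₀ : w₀ ≫ W.ι = a₀ ≫ j := IsOpenImmersion.lift_fac _ _ _
  have hw₀π : w₀ ≫ π = i := by rw [reassoc_of% hw₀, hjq, ha₀g]
  have hw₀l : w₀ ≫ l = a₀ := by rw [← cancel_mono j, Category.assoc, hlj, hw₀]
  -- the base change of `π` is an isomorphism
  let e₀ : S₀ ⟶ pullback π i := pullback.lift w₀ (𝟙 S₀) (by rw [hw₀π, Category.id_comp])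
  have : IsOpenImmersion e₀ := isOpenImmersion_section (pullback.snd π i) e₀ (pullback.lift_snd _ _ _)
  have : IsIso e₀ := by
    refine (isIso_iff_isOpenImmersion_and_surjective e₀).mpr ⟨inferInstance, ⟨fun p => ?_⟩⟩
    let mW : pullback π i ⟶ pullback q i :=
      pullback.map _ _ _ _ W.ι (𝟙 S₀) (𝟙 S) (by rw [Category.comp_id]) (by simp)
    have : IsOpenImmersion mW := inferInstance
    obtain ⟨s, hs⟩ := hUC.le (show mW p ∈ pullback.fst q i ⁻¹' U by
      show pullback.fst q i (mW p) ∈ U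
      rw [← Scheme.Hom.comp_apply, show mW ≫ pullback.fst q i = pullback.fst π i ≫ W.ι from pullback.lift_fst _ _ _,
        Scheme.Hom.comp_apply]
      exact (pullback.fst π i p).2)
    refine ⟨s, mW.isOpenEmbedding.injective ?_⟩
    rw [← Scheme.Hom.comp_apply, show e₀ ≫ mW = e by
      apply pullback.hom_ext
      · rw [Category.assoc, show mW ≫ pullback.fst q i = pullback.fst π i ≫ W.ι from pullback.lift_fst _ _ _,
          ← Category.assoc, show e₀ ≫ pullback.fst π i = w₀ from pullback.lift_fst _ _ _, hw₀, hefst]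
      · rw [Category.assoc, show mW ≫ pullback.snd q i = pullback.snd π i ≫ 𝟙 S₀ from pullback.lift_snd _ _ _,
          Category.comp_id, show e₀ ≫ pullback.snd π i = 𝟙 S₀ from pullback.lift_snd _ _ _, hesnd]]
    exact hs
  have hsnd : IsIso (pullback.snd π i) := by
    have : IsIso (e₀ ≫ pullback.snd π i) := by rw [pullback.lift_snd]; infer_instance
    exact IsIso.of_isIso_comp_left e₀ _
  have hdiag : Set.range (pullback.diagonal π) = Set.univ := by
    refine eq_univ_of_isOpen_of_range_subset i ha (pullback.fst π π ≫ π)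
      (pullback.diagonal π).isOpenEmbedding.isOpen_range fun z hz => ?_
    obtain ⟨s, hs⟩ := hz
    obtain ⟨z', hz', -⟩ := Scheme.Pullback.exists_preimage_pullback
      (f := pullback.fst π π ≫ π) (g := i) z s hs.symm
    let r := pullback.fst (pullback.fst π π ≫ π) i
    let p₁ : pullback (pullback.fst π π ≫ π) i ⟶ pullback π i :=
      pullback.lift (r ≫ pullback.fst π π) (pullback.snd _ i) (by rw [Category.assoc]; exact pullback.condition)
    let p₂ : pullback (pullback.fst π π ≫ π) i ⟶ pullback π i :=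
      pullback.lift (r ≫ pullback.snd π π) (pullback.snd _ i) (by
        rw [Category.assoc, ← pullback.condition (f := π) (g := π)]; exact pullback.condition)
    have hp : p₁ = p₂ := (cancel_mono (pullback.snd π i)).mp ((pullback.lift_snd _ _ _).trans (pullback.lift_snd _ _ _).symm)
    have h12 : r ≫ pullback.fst π π = r ≫ pullback.snd π π :=
      (pullback.lift_fst _ _ _).symm.trans
        ((congrArg (· ≫ pullback.fst π i) hp).trans (pullback.lift_fst _ _ _))
    have hfac : (r ≫ pullback.fst π π) ≫ pullback.diagonal π = r := by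
      apply pullback.hom_ext <;> simp [h12]
    refine ⟨(r ≫ pullback.fst π π) z', ?_⟩
    rw [← Scheme.Hom.comp_apply, hfac]
    exact hz'
  have : IsIso (pullback.diagonal π) := (isIso_iff_isOpenImmersion_and_surjective _).mpr
    ⟨inferInstance, ⟨Set.range_eq_univ.mp hdiag⟩⟩
  have : Mono π := (pullback.isIso_diagonal_iff π).mp inferInstance
  have : IsOpenImmersion π := IsOpenImmersion.of_flat_of_mono π
  have : IsIso π := by
    refine (isIso_iff_isOpenImmersion_and_surjective π).mpr ⟨inferInstance, ⟨Set.range_eq_univ.mp ?_⟩⟩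
    refine eq_univ_of_isOpen_of_range_subset i ha (𝟙 S) π.isOpenEmbedding.isOpen_range ?_
    rintro _ ⟨s, rfl⟩
    exact ⟨w₀ s, congrArg (fun m : S₀ ⟶ S => m s) hw₀π⟩
  refine ⟨inv π ≫ l ≫ V.ι, ?_, ?_⟩
  · rw [Category.assoc, Category.assoc, hlπ, IsIso.inv_hom_id]
  · conv_lhs => rw [← hw₀π]
    rw [Category.assoc, IsIso.hom_inv_id_assoc, reassoc_of% hw₀l, ha₀]

end Groth.Hensel1
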