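import Groth.Agent.Hensel1.QFSplit
import Groth.Agent.Hensel1.Transfer

/-!
# Factoring a quasi-finite map into a henselian local ring through a finite henselian local algebra
-/

set_option autoImplicit false

namespace Groth.Hensel1

open IsLocalRing
open scoped TensorProduct

universe u

/-- Let `H` be a henselian local `R`-algebra, `W` a local `H`-algebra (local structure map) with a
compatible `R`-map `j : S → W`, and `S` of finite type over `R` and quasi-finite at the centre `q` of
`j`. Then `j` factors through a finite henselian local `H`-algebra mapping locally to `W`. -/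
theorem exists_finite_local_factor (R S : Type u) [CommRing R] [CommRing S] [Algebra R S]
    [Algebra.FiniteType R S] (q : Ideal S) [q.IsPrime] [Algebra.QuasiFiniteAt R q]
    (H : Type u) [CommRing H] [HenselianLocalRing H] [Algebra R H]
    (W : Type u) [CommRing W] [IsLocalRing W] [Algebra H W] [IsLocalHom (algebraMap H W)]
    (j : S →+* W) (hj : j.comp (algebraMap R S) = (algebraMap H W).comp (algebraMap R H))
    (hq : q = (maximalIdeal W).comap j) :
    ∃ (T : Type u) (_ : CommRing T) (_ : HenselianLocalRing T) (_ : Algebra H T)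
      (_ : Module.Finite H T) (φ : T →ₐ[H] W) (_ : IsLocalHom φ.toRingHom) (j' : S →+* T),
      j'.comp (algebraMap R S) = (algebraMap H T).comp (algebraMap R H) ∧
      φ.toRingHom.comp j' = j := by
  classical
  let _ : Algebra R W := ((algebraMap H W).comp (algebraMap R H)).toAlgebra
  have : IsScalarTower R H W := .of_algebraMap_eq fun _ => rfl
  let jₐ : S →ₐ[R] W := { j with commutes' := fun r => RingHom.congr_fun hj r }
  let ψ : H ⊗[R] S →ₐ[H] W := Algebra.TensorProduct.lift (Algebra.ofId H W) jₐ fun _ _ => .all _ _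
  let Q : Ideal (H ⊗[R] S) := (maximalIdeal W).comap ψ.toRingHom
  have hψj : ∀ s, ψ ((1 : H) ⊗ₜ[R] s) = j s := fun s => by simp [ψ, jₐ]
  have : Q.IsPrime := Ideal.IsPrime.comap _
  have hqQ : q = Q.comap Algebra.TensorProduct.includeRight.toRingHom := by
    rw [hq]
    ext s
    show j s ∈ maximalIdeal W ↔ ψ ((1 : H) ⊗ₜ[R] s) ∈ maximalIdeal W
    rw [hψj]
  have : Algebra.QuasiFiniteAt H Q := Algebra.QuasiFiniteAt.baseChange q Q hqQ
  have h4 : (maximalIdeal W).comap (algebraMap H W) = maximalIdeal H :=
    ((IsLocalRing.local_hom_TFAE (algebraMap H W)).out 0 4).mp ‹IsLocalHom (algebraMap H W)›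
  have : Q.LiesOver (maximalIdeal H) := ⟨by
    rw [Ideal.under_def, Ideal.comap_comap, show ψ.toRingHom.comp (algebraMap H (H ⊗[R] S)) =
      algebraMap H W from ψ.comp_algebraMap]
    exact h4.symm⟩
  obtain ⟨f, hfQ, hf, hloc⟩ := exists_idempotent_of_quasiFiniteAt (R := H) Q
  have := hf.finite
  let T := (H ⊗[R] S) ⧸ Ideal.span {1 - f}
  have : HenselianLocalRing T := henselianLocalRing_of_finite H T
  have hψf : ψ f = 1 := by
    have hidem : ψ f * ψ f = ψ f := by rw [← map_mul, hf.1.eq]
    have hu : IsUnit (ψ f) := IsLocalRing.notMem_maximalIdeal.mp hfQ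
    exact hu.mul_left_cancel (by rw [hidem, mul_one])
  have hker : ∀ a ∈ Ideal.span {1 - f}, ψ a = 0 := fun a ha => by
    obtain ⟨c, rfl⟩ := Ideal.mem_span_singleton.mp ha
    rw [map_mul, map_sub, map_one, hψf, sub_self, zero_mul]
  let φ : T →ₐ[H] W := Ideal.Quotient.liftₐ _ ψ hker
  have hφloc : IsLocalHom φ.toRingHom := by
    refine ((IsLocalRing.local_hom_TFAE φ.toRingHom).out 0 4).mpr ?_
    have : Algebra.IsIntegral H T := Algebra.IsIntegral.of_finite H T
    refine IsLocalRing.eq_maximalIdeal
      (Ideal.isMaximal_of_isIntegral_of_isMaximal_comap (R := H) _ ?_)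
    rw [Ideal.comap_comap, show φ.toRingHom.comp (algebraMap H T) = algebraMap H W from
      φ.comp_algebraMap, h4]
    exact maximalIdeal.isMaximal H
  refine ⟨T, inferInstance, inferInstance, inferInstance, inferInstance, φ, hφloc,
    (Ideal.Quotient.mk _).comp Algebra.TensorProduct.includeRight.toRingHom, ?_, ?_⟩
  · ext r
    show Ideal.Quotient.mk _ ((1 : H) ⊗ₜ[R] algebraMap R S r) =
      Ideal.Quotient.mk _ (algebraMap H (H ⊗[R] S) (algebraMap R H r))
    rw [Algebra.TensorProduct.algebraMap_apply, Algebra.algebraMap_self, RingHom.id_apply,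
      Algebra.algebraMap_eq_smul_one, Algebra.algebraMap_eq_smul_one, TensorProduct.tmul_smul,
      TensorProduct.smul_tmul']
  · ext s
    exact hψj s

end Groth.Hensel1
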