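import Groth.Prelude.Def_Hensel
import Groth.Agent.Hensel1.FiniteMap
import Mathlib.FieldTheory.PurelyInseparable.Basic
import Mathlib.RingTheory.Localization.AtPrime.Basic

/-!
# Strict henselizations and integral base change
-/

set_option autoImplicit false

namespace Groth.Hensel1

open IsLocalRing
open scoped TensorProduct

universe u

/-- A finite algebra over a henselian local ring without nontrivial idempotents is local. -/
theorem isLocalRing_of_finite_of_idempotent (H : Type u) [CommRing H] [HenselianLocalRing H]
    (U : Type u) [CommRing U] [Nontrivial U] [Algebra H U] [Module.Finite H U]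
    (h : ∀ e : U, IsIdempotentElem e → e = 0 ∨ e = 1) : IsLocalRing U := by
  obtain ⟨ι, _, e, he, hloc⟩ := exists_completeOrthogonalIdempotents_local H U
  have : ∃ i, e i = 1 := by
    by_contra! hne
    have h0 : ∀ i, e i = 0 := fun i => (h _ (he.idem i)).resolve_right (hne i)
    exact zero_ne_one (α := U) (by rw [← he.complete]; simp [h0])
  obtain ⟨i, hi⟩ := this
  have := hloc i
  have hbij : Function.Bijective (Ideal.Quotient.mk (Ideal.span {1 - e i})) := by
    refine ⟨(injective_iff_map_eq_zero _).mpr fun x hx => ?_, Ideal.Quotient.mk_surjective⟩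
    rw [Ideal.Quotient.eq_zero_iff_mem, hi, sub_self, Ideal.span_singleton_eq_bot.mpr rfl] at hx
    exact hx
  exact (RingEquiv.ofBijective _ hbij).symm.isLocalRing

/-- An integral subalgebra of a local ring over a henselian local ring is local and henselian, and
its inclusion is local. -/
theorem henselian_of_isIntegral_subalgebra (H W : Type u) [CommRing H] [HenselianLocalRing H]
    [CommRing W] [IsLocalRing W] [Algebra H W] [IsLocalHom (algebraMap H W)]
    (U : Subalgebra H W) [Algebra.IsIntegral H U] :
    HenselianLocalRing U ∧ IsLocalHom U.val.toRingHom := by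
  have hid : ∀ (V : Subalgebra H W) (e : V), IsIdempotentElem e → e = 0 ∨ e = 1 := fun V e he => by
    rcases isUnit_or_isUnit_one_sub_self (e : W) with hu | hu
    · exact Or.inr (Subtype.ext (hu.mul_left_cancel (by
        rw [OneMemClass.coe_one, mul_one]; exact congr_arg Subtype.val he.eq)))
    · refine Or.inl (Subtype.ext (hu.mul_left_cancel ?_))
      rw [ZeroMemClass.coe_zero, mul_zero, sub_mul, one_mul, ← Subalgebra.coe_mul, he.eq, sub_self]
  have hu : ∀ x : U, IsUnit x ∨ IsUnit (1 - x) := fun x => by
    let V : Subalgebra H W := Algebra.adjoin H {(x : W)}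
    have hxi : IsIntegral H (x : W) := (Algebra.IsIntegral.isIntegral x).map U.val
    have : Module.Finite H V := Module.Finite.iff_fg.mpr hxi.fg_adjoin_singleton
    have := isLocalRing_of_finite_of_idempotent H V (hid V)
    have hVU : V ≤ U := Algebra.adjoin_le (Set.singleton_subset_iff.mpr x.2)
    let v : V := ⟨x, Algebra.self_mem_adjoin_singleton H _⟩
    rcases isUnit_or_isUnit_one_sub_self v with h | h
    · exact Or.inl (h.map (Subalgebra.inclusion hVU))
    · have h' := h.map (Subalgebra.inclusion hVU)
      rw [map_sub, map_one] at h'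
      exact Or.inr h'
  have : IsLocalRing U := IsLocalRing.of_isUnit_or_isUnit_one_sub_self hu
  have h4 : (maximalIdeal W).comap (algebraMap H W) = maximalIdeal H :=
    ((IsLocalRing.local_hom_TFAE (algebraMap H W)).out 0 4).mp ‹IsLocalHom (algebraMap H W)›
  refine ⟨?_, ((IsLocalRing.local_hom_TFAE U.val.toRingHom).out 0 4).mpr
    (IsLocalRing.eq_maximalIdeal (Ideal.isMaximal_of_isIntegral_of_isMaximal_comap (R := H) _ ?_))⟩
  · have := henselianRing_of_isIntegral (I := maximalIdeal H) U
    have : HenselianRing U (maximalIdeal U) := by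
      refine henselianRing_of_le_radical (I := (maximalIdeal H).map (algebraMap H U)) ?_
      rw [Ideal.radical_eq_sInf]
      refine le_sInf fun P ⟨hP, hprime⟩ => (IsLocalRing.eq_maximalIdeal
        (Ideal.isMaximal_of_isIntegral_of_isMaximal_comap (R := H) P ?_)).ge
      rw [← (maximalIdeal.isMaximal H).eq_of_le (Ideal.IsPrime.ne_top inferInstance)
        (Ideal.map_le_iff_le_comap.mp hP)]
      exact maximalIdeal.isMaximal H
    exact henselianLocalRing_of_henselianRing
  · rw [Ideal.comap_comap, show U.val.toRingHom.comp (algebraMap H U) = algebraMap H W from rfl, h4]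
    exact maximalIdeal.isMaximal H

section

variable (H : Type u) [CommRing H] [HenselianLocalRing H] [IsSepClosed (ResidueField H)]

/-- A strict henselization of `B_p`, over a strictly henselian ring `H`, is integral over `H` as
soon as `B` is. -/
theorem isIntegral_of_isStrictHenselization (B : Type u) [CommRing B] (p : Ideal B) [p.IsPrime]
    (W : Type u) [CommRing W] [IsLocalRing W] [Algebra (Localization.AtPrime p) W]
    [IsLocalHom (algebraMap (Localization.AtPrime p) W)]
    [Hensel.IsStrictHenselization (Localization.AtPrime p) W] [Algebra B W]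
    [IsScalarTower B (Localization.AtPrime p) W] [Algebra H W] [IsLocalHom (algebraMap H W)]
    (hint : ∀ b : B, IsIntegral H (algebraMap B W b)) : Algebra.IsIntegral H W := by
  classical
  have hW := (inferInstance : Hensel.IsStrictHenselization (Localization.AtPrime p) W)
  let U : Subalgebra H W := integralClosure H W
  obtain ⟨_, hι⟩ := henselian_of_isIntegral_subalgebra H W U
  let jU : B →+* U := (algebraMap B W).codRestrict U hint
  have hu : ∀ s : p.primeCompl, IsUnit (jU s) := fun s => by
    refine isUnit_of_map_unit U.val.toRingHom _ ?_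
    show IsUnit (algebraMap B W s)
    rw [IsScalarTower.algebraMap_apply B (Localization.AtPrime p) W]
    exact (IsLocalization.map_units (Localization.AtPrime p) s).map
      (algebraMap (Localization.AtPrime p) W)
  let f : Localization.AtPrime p →+* U := IsLocalization.lift hu
  have hιf : U.val.toRingHom.comp f = algebraMap (Localization.AtPrime p) W := by
    refine IsLocalization.ringHom_ext p.primeCompl ?_
    rw [RingHom.comp_assoc, IsLocalization.lift_comp]
    exact IsScalarTower.algebraMap_eq B _ W
  have hfloc : IsLocalHom f := ⟨fun z hz => by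
    refine isUnit_of_map_unit (algebraMap (Localization.AtPrime p) W) _ ?_
    rw [← hιf]
    exact hz.map U.val.toRingHom⟩
  have hUloc : IsLocalHom (algebraMap H U) := ⟨fun z hz =>
    isUnit_of_map_unit (algebraMap H W) _ (hz.map U.val)⟩
  let kι := ResidueField.map U.val.toRingHom
  let _ : Algebra (ResidueField U) (ResidueField W) := kι.toAlgebra
  let _ : Algebra (ResidueField (Localization.AtPrime p)) (ResidueField U) :=
    (ResidueField.map f).toAlgebra
  have : IsScalarTower (ResidueField (Localization.AtPrime p)) (ResidueField U) (ResidueField W) := by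
    refine IsScalarTower.of_algebraMap_eq fun z => ?_
    obtain ⟨z, rfl⟩ := residue_surjective z
    exact congrArg (residue W) (RingHom.congr_fun hιf z).symm
  have : IsScalarTower (ResidueField H) (ResidueField U) (ResidueField W) := by
    refine IsScalarTower.of_algebraMap_eq fun z => ?_
    obtain ⟨z, rfl⟩ := residue_surjective z
    rfl
  have := hW.isSepClosure.separable
  have : Algebra.IsSeparable (ResidueField U) (ResidueField W) :=
    Algebra.isSeparable_tower_top_of_isSeparable
      (ResidueField (Localization.AtPrime p)) (ResidueField U) (ResidueField W)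
  have : Algebra.IsAlgebraic (ResidueField H) (ResidueField U) := ⟨fun z => by
    obtain ⟨z, rfl⟩ := residue_surjective z
    have h : IsIntegral H (residue U z) :=
      (Algebra.IsIntegral.isIntegral z).map (IsScalarTower.toAlgHom H U (ResidueField U))
    exact (h.tower_top).isAlgebraic⟩
  have : Algebra.IsAlgebraic (ResidueField H) (ResidueField W) :=
    Algebra.IsAlgebraic.trans (ResidueField H) (ResidueField U) (ResidueField W)
  have : IsPurelyInseparable (ResidueField U) (ResidueField W) :=
    IsPurelyInseparable.tower_top (ResidueField H) (ResidueField U) (ResidueField W)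
  let eκ : ResidueField U ≃+* ResidueField W := RingEquiv.ofBijective kι
    ⟨kι.injective, IsPurelyInseparable.surjective_algebraMap_of_isSeparable
      (ResidueField U) (ResidueField W)⟩
  obtain ⟨g, ⟨hg, hgτ⟩, -⟩ := hW.universal U f eκ.symm.toRingHom (by
    refine (RingHom.cancel_right residue_surjective).mp (RingHom.ext fun z => ?_)
    show eκ.symm (residue W (algebraMap _ W z)) = residue U (f z)
    rw [RingEquiv.symm_apply_eq, ← hιf]
    rfl)
  have := hW.henselian
  obtain ⟨e, -, he⟩ := hW.universal W (algebraMap (Localization.AtPrime p) W) (RingHom.id _)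
    (RingHom.id_comp _)
  have hsec : U.val.toRingHom.comp g = RingHom.id W := by
    refine (he _ ⟨?_, fun x => ?_⟩).trans (he _ ⟨RingHom.id_comp _, fun _ => rfl⟩).symm
    · show RingHom.comp (RingHom.comp _ g) _ = _
      rw [RingHom.comp_assoc, hg, hιf]
    · show kι (residue U (g x)) = _
      rw [hgτ]
      exact eκ.apply_symm_apply _
  exact ⟨fun x => by
    show IsIntegral H (RingHom.id W x)
    rw [← hsec]
    exact (g x).2⟩

/-- Base change of strict henselizations along an integral map. -/
theorem bijective_lift_of_isIntegral (B C D : Type u) [CommRing B] [CommRing C] [CommRing D]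
    (pB : Ideal B) [pB.IsPrime] (pC : Ideal C) [pC.IsPrime] (pD : Ideal D) [pD.IsPrime]
    (iB : B →+* D) (iC : C →+* D)
    (B' : Type u) [CommRing B'] [IsLocalRing B'] [Algebra (Localization.AtPrime pB) B']
    [IsLocalHom (algebraMap (Localization.AtPrime pB) B')]
    [Hensel.IsStrictHenselization (Localization.AtPrime pB) B'] [Algebra B B']
    [IsScalarTower B (Localization.AtPrime pB) B']
    (C' : Type u) [CommRing C'] [IsLocalRing C'] [Algebra (Localization.AtPrime pC) C']
    [IsLocalHom (algebraMap (Localization.AtPrime pC) C')]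
    [Hensel.IsStrictHenselization (Localization.AtPrime pC) C'] [Algebra C C']
    [IsScalarTower C (Localization.AtPrime pC) C']
    (D' : Type u) [CommRing D'] [IsLocalRing D'] [Algebra (Localization.AtPrime pD) D']
    [IsLocalHom (algebraMap (Localization.AtPrime pD) D')]
    [Hensel.IsStrictHenselization (Localization.AtPrime pD) D'] [Algebra D D']
    [IsScalarTower D (Localization.AtPrime pD) D']
    [Algebra H B'] [IsLocalHom (algebraMap H B')] [Algebra.IsIntegral H B']
    [Algebra H C'] [IsLocalHom (algebraMap H C')]
    [Algebra B' D'] [IsLocalHom (algebraMap B' D')] [Algebra C' D'] [IsLocalHom (algebraMap C' D')]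
    [Algebra H D'] [IsScalarTower H B' D'] [IsScalarTower H C' D']
    (j : D →+* B' ⊗[H] C') (hjB : ∀ b, j (iB b) = algebraMap B B' b ⊗ₜ[H] (1 : C'))
    (hjC : ∀ c, j (iC c) = (1 : B') ⊗ₜ[H] algebraMap C C' c)
    (hj : ∀ d, Algebra.TensorProduct.lift (IsScalarTower.toAlgHom H B' D')
      (IsScalarTower.toAlgHom H C' D') (fun _ _ => Commute.all _ _) (j d) = algebraMap D D' d) :
    Function.Bijective (Algebra.TensorProduct.lift (IsScalarTower.toAlgHom H B' D')
      (IsScalarTower.toAlgHom H C' D') (fun _ _ => Commute.all _ _)) := by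
  classical
  set π := Algebra.TensorProduct.lift (IsScalarTower.toAlgHom H B' D')
    (IsScalarTower.toAlgHom H C' D') (fun _ _ => Commute.all _ _) with hπdef
  have hBS := (inferInstance : Hensel.IsStrictHenselization (Localization.AtPrime pB) B')
  have hCS := (inferInstance : Hensel.IsStrictHenselization (Localization.AtPrime pC) C')
  have hDS := (inferInstance : Hensel.IsStrictHenselization (Localization.AtPrime pD) D')
  have := hBS.henselian
  have := hCS.henselian
  have := hDS.henselian
  have := hCS.isSepClosure.sep_closed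
  let iL : B' →+* B' ⊗[H] C' := Algebra.TensorProduct.includeLeftRingHom
  let iR : C' →+* B' ⊗[H] C' := Algebra.TensorProduct.includeRight.toRingHom
  have hπL : ∀ b, π (iL b) = algebraMap B' D' b := fun b => by simp [π, iL]
  have hπR : ∀ c, π (iR c) = algebraMap C' D' c := fun c => by simp [π, iR]
  let _ : Algebra C' (B' ⊗[H] C') := Algebra.TensorProduct.rightAlgebra
  have : Algebra.IsIntegral C' (B' ⊗[H] C') :=
    Algebra.IsIntegral.of_surjective (Algebra.TensorProduct.commRight H C' B').toAlgHom
      (Algebra.TensorProduct.commRight H C' B').surjective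
  have : Algebra.IsAlgebraic (ResidueField H) (ResidueField B') := ⟨fun z => by
    obtain ⟨z, rfl⟩ := residue_surjective z
    have h : IsIntegral H (residue B' z) :=
      (Algebra.IsIntegral.isIntegral z).map (IsScalarTower.toAlgHom H B' (ResidueField B'))
    exact h.tower_top.isAlgebraic⟩
  obtain ⟨q, hq⟩ := ExpChar.exists (ResidueField H)
  -- maximal ideals of the tensor product
  have hmaxT : ∀ P : Ideal (B' ⊗[H] C'), P.IsMaximal →
      P.comap iR = maximalIdeal C' ∧ P.comap iL = maximalIdeal B' := by
    intro P hP
    have h1 : P.comap iR = maximalIdeal C' := IsLocalRing.eq_maximalIdeal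
      (Ideal.isMaximal_comap_of_isIntegral_of_isMaximal (R := C') P)
    refine ⟨h1, IsLocalRing.eq_maximalIdeal
      (Ideal.isMaximal_of_isIntegral_of_isMaximal_comap (R := H) _ ?_)⟩
    have h4 : (maximalIdeal C').comap (algebraMap H C') = maximalIdeal H :=
      ((IsLocalRing.local_hom_TFAE (algebraMap H C')).out 0 4).mp ‹IsLocalHom (algebraMap H C')›
    have h5 : iL.comp (algebraMap H B') = iR.comp (algebraMap H C') := RingHom.ext fun h => by
      show algebraMap H B' h ⊗ₜ[H] (1 : C') = (1 : B') ⊗ₜ[H] algebraMap H C' h
      rw [Algebra.algebraMap_eq_smul_one, Algebra.algebraMap_eq_smul_one, TensorProduct.smul_tmul]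
    rw [Ideal.comap_comap, h5, ← Ideal.comap_comap, h1, h4]
    exact maximalIdeal.isMaximal H
  have hkey : ∀ x : B' ⊗[H] C', ∃ (n : ℕ) (c : C'), ∀ P : Ideal (B' ⊗[H] C'), P.IsMaximal →
      x ^ q ^ n - iR c ∈ P := by
    intro x
    induction x with
    | zero => exact ⟨0, 0, fun P _ => by simp⟩
    | tmul b c =>
      obtain ⟨n, a, ha⟩ := IsPurelyInseparable.pow_mem (ResidueField H) q (residue B' b)
      obtain ⟨a, rfl⟩ := residue_surjective a
      refine ⟨n, algebraMap H C' a * c ^ q ^ n, fun P hP => ?_⟩
      have h0 : b ^ q ^ n - algebraMap H B' a ∈ maximalIdeal B' := by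
        rw [← residue_eq_zero_iff, map_sub, map_pow, ← ha, sub_eq_zero]
        rfl
      rw [← (hmaxT P hP).2] at h0
      have h6 := P.mul_mem_right (iR (c ^ q ^ n)) h0
      convert h6 using 1
      simp only [iL, iR, Algebra.TensorProduct.includeLeftRingHom_apply, AlgHom.toRingHom_eq_coe,
        RingHom.coe_coe, Algebra.TensorProduct.includeRight_apply, Algebra.TensorProduct.tmul_pow,
        TensorProduct.sub_tmul, sub_mul, Algebra.TensorProduct.tmul_mul_tmul, one_mul, mul_one]
      rw [Algebra.algebraMap_eq_smul_one, Algebra.algebraMap_eq_smul_one, smul_mul_assoc, one_mul,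
        TensorProduct.smul_tmul]
    | add x y hx hy =>
      obtain ⟨n, c, hc⟩ := hx
      obtain ⟨m, d, hd⟩ := hy
      refine ⟨n + m, c ^ q ^ m + d ^ q ^ n, fun P hP => ?_⟩
      let _ := Ideal.Quotient.field P
      let φ : ResidueField H →+* (B' ⊗[H] C') ⧸ P :=
        (Ideal.Quotient.lift (maximalIdeal B') ((Ideal.Quotient.mk P).comp iL)
          fun z hz => Ideal.Quotient.eq_zero_iff_mem.mpr (by rw [← (hmaxT P hP).2] at hz; exact hz)).comp
          (algebraMap (ResidueField H) (ResidueField B'))
      have := expChar_of_injective_ringHom φ.injective q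
      have e1 : Ideal.Quotient.mk P x ^ q ^ n = Ideal.Quotient.mk P (iR c) := by
        rw [← map_pow]; exact Ideal.Quotient.eq.mpr (hc P hP)
      have e2 : Ideal.Quotient.mk P y ^ q ^ m = Ideal.Quotient.mk P (iR d) := by
        rw [← map_pow]; exact Ideal.Quotient.eq.mpr (hd P hP)
      rw [← Ideal.Quotient.eq]
      simp only [map_pow, map_add, add_pow_expChar_pow]
      congr 1
      · rw [pow_add, pow_mul, e1]
      · rw [pow_add, mul_comm, pow_mul, e2]
  have : Nontrivial (B' ⊗[H] C') := π.toRingHom.domain_nontrivial
  have hTlocal : IsLocalRing (B' ⊗[H] C') := by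
    obtain ⟨P, hP⟩ := Ideal.exists_maximal (B' ⊗[H] C')
    refine IsLocalRing.of_unique_max_ideal ⟨P, hP, fun Q hQ => hQ.eq_of_le hP.ne_top fun x hx => ?_⟩
    obtain ⟨n, c, hc⟩ := hkey x
    have hqn : 0 < q ^ n := pow_pos (expChar_pos (ResidueField H) q) n
    have h7 : iR c ∈ Q := by
      have := Q.sub_mem (Q.pow_mem_of_mem hx _ hqn) (hc Q hQ)
      simpa using this
    have h8 : iR c ∈ P := by
      rw [← Ideal.mem_comap, (hmaxT P hP).1, ← (hmaxT Q hQ).1]
      exact h7
    exact hP.isPrime.mem_of_pow_mem _ (by simpa using P.add_mem (hc P hP) h8)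
  have hThens : HenselianLocalRing (B' ⊗[H] C') := by
    have := henselianRing_of_isIntegral (I := maximalIdeal C') (B' ⊗[H] C')
    have : HenselianRing (B' ⊗[H] C') (maximalIdeal (B' ⊗[H] C')) := by
      refine henselianRing_of_le_radical
        (I := (maximalIdeal C').map (algebraMap C' (B' ⊗[H] C'))) ?_
      rw [Ideal.radical_eq_sInf]
      refine le_sInf fun P ⟨hP, hprime⟩ => (IsLocalRing.eq_maximalIdeal
        (Ideal.isMaximal_of_isIntegral_of_isMaximal_comap (R := C') P ?_)).ge
      rw [← (maximalIdeal.isMaximal C').eq_of_le (Ideal.IsPrime.ne_top inferInstance)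
        (Ideal.map_le_iff_le_comap.mp hP)]
      exact maximalIdeal.isMaximal C'
    exact henselianLocalRing_of_henselianRing
  have hπloc : IsLocalHom π.toRingHom := by
    refine ((IsLocalRing.local_hom_TFAE π.toRingHom).out 0 4).mpr (IsLocalRing.eq_maximalIdeal
      (Ideal.isMaximal_of_isIntegral_of_isMaximal_comap (R := C') _ ?_))
    have h4 : (maximalIdeal D').comap (algebraMap C' D') = maximalIdeal C' :=
      ((IsLocalRing.local_hom_TFAE (algebraMap C' D')).out 0 4).mp ‹IsLocalHom (algebraMap C' D')›
    rw [Ideal.comap_comap,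
      show π.toRingHom.comp (algebraMap C' (B' ⊗[H] C')) = algebraMap C' D' from RingHom.ext hπR, h4]
    exact maximalIdeal.isMaximal C'
  have hiLloc : IsLocalHom iL := ⟨fun z hz =>
    isUnit_of_map_unit (algebraMap B' D') _ (by rw [← hπL]; exact hz.map π)⟩
  have hiRloc : IsLocalHom iR := ⟨fun z hz =>
    isUnit_of_map_unit (algebraMap C' D') _ (by rw [← hπR]; exact hz.map π)⟩
  have hu : ∀ s : pD.primeCompl, IsUnit (j s) := fun s => by
    refine isUnit_of_map_unit π.toRingHom _ ?_
    show IsUnit (π (j s))
    rw [hj, IsScalarTower.algebraMap_apply D (Localization.AtPrime pD) D']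
    exact (IsLocalization.map_units (Localization.AtPrime pD) s).map
      (algebraMap (Localization.AtPrime pD) D')
  let f : Localization.AtPrime pD →+* B' ⊗[H] C' := IsLocalization.lift hu
  have hπf : π.toRingHom.comp f = algebraMap (Localization.AtPrime pD) D' := by
    refine IsLocalization.ringHom_ext pD.primeCompl (RingHom.ext fun d => ?_)
    show π (f (algebraMap D _ d)) = algebraMap _ D' (algebraMap D _ d)
    rw [IsLocalization.lift_eq, hj, ← IsScalarTower.algebraMap_apply]
  have hfloc : IsLocalHom f := ⟨fun z hz => by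
    refine isUnit_of_map_unit (algebraMap (Localization.AtPrime pD) D') _ ?_
    rw [← hπf]
    exact hz.map π.toRingHom⟩
  -- the residue fields of the tensor product and of `D'` agree
  let kπ := ResidueField.map π.toRingHom
  let _ : Algebra (ResidueField (B' ⊗[H] C')) (ResidueField D') := kπ.toAlgebra
  let _ : Algebra (ResidueField (Localization.AtPrime pD)) (ResidueField (B' ⊗[H] C')) :=
    (ResidueField.map f).toAlgebra
  let _ : Algebra (ResidueField C') (ResidueField (B' ⊗[H] C')) :=
    (ResidueField.map iR).toAlgebra
  have : IsScalarTower (ResidueField (Localization.AtPrime pD)) (ResidueField (B' ⊗[H] C'))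
      (ResidueField D') := by
    refine IsScalarTower.of_algebraMap_eq fun z => ?_
    obtain ⟨z, rfl⟩ := residue_surjective z
    exact congrArg (residue D') (RingHom.congr_fun hπf z).symm
  have : IsScalarTower (ResidueField C') (ResidueField (B' ⊗[H] C')) (ResidueField D') := by
    refine IsScalarTower.of_algebraMap_eq fun z => ?_
    obtain ⟨z, rfl⟩ := residue_surjective z
    exact congrArg (residue D') (hπR z).symm
  have := hDS.isSepClosure.separable
  have : Algebra.IsSeparable (ResidueField (B' ⊗[H] C')) (ResidueField D') :=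
    Algebra.isSeparable_tower_top_of_isSeparable
      (ResidueField (Localization.AtPrime pD)) (ResidueField (B' ⊗[H] C')) (ResidueField D')
  have : Algebra.IsAlgebraic (ResidueField C') (ResidueField (B' ⊗[H] C')) := ⟨fun z => by
    obtain ⟨z, rfl⟩ := residue_surjective z
    obtain ⟨F, hFm, hF⟩ := Algebra.IsIntegral.isIntegral (R := C') z
    refine ⟨F.map (residue C'), (hFm.map _).ne_zero, ?_⟩
    have h9 := congrArg (residue (B' ⊗[H] C')) hF
    rw [map_zero, Polynomial.hom_eval₂] at h9
    rw [Polynomial.aeval_def, Polynomial.eval₂_map]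
    exact h9⟩
  have : Algebra.IsAlgebraic (ResidueField C') (ResidueField D') :=
    Algebra.IsAlgebraic.trans (ResidueField C') (ResidueField (B' ⊗[H] C')) (ResidueField D')
  have : IsPurelyInseparable (ResidueField (B' ⊗[H] C')) (ResidueField D') :=
    IsPurelyInseparable.tower_top (ResidueField C') (ResidueField (B' ⊗[H] C')) (ResidueField D')
  let eκ : ResidueField (B' ⊗[H] C') ≃+* ResidueField D' := RingEquiv.ofBijective kπ
    ⟨kπ.injective, IsPurelyInseparable.surjective_algebraMap_of_isSeparable
      (ResidueField (B' ⊗[H] C')) (ResidueField D')⟩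
  obtain ⟨g, ⟨hg, hgτ⟩, -⟩ := hDS.universal (B' ⊗[H] C') f eκ.symm.toRingHom (by
    refine (RingHom.cancel_right residue_surjective).mp (RingHom.ext fun z => ?_)
    show eκ.symm (residue D' (algebraMap _ D' z)) = residue _ (f z)
    rw [RingEquiv.symm_apply_eq, ← hπf]
    rfl)
  obtain ⟨e, -, he⟩ := hDS.universal D' (algebraMap (Localization.AtPrime pD) D') (RingHom.id _)
    (RingHom.id_comp _)
  have hsec : π.toRingHom.comp g = RingHom.id D' := by
    refine (he _ ⟨?_, fun x => ?_⟩).trans (he _ ⟨RingHom.id_comp _, fun _ => rfl⟩).symm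
    · show RingHom.comp (RingHom.comp _ g) _ = _
      rw [RingHom.comp_assoc, hg, hπf]
    · show kπ (residue _ (g x)) = _
      rw [hgτ]
      exact eκ.apply_symm_apply _
  have hres : ∀ x, residue (B' ⊗[H] C') (g (π x)) = residue _ x := fun x => by
    rw [hgτ]
    exact eκ.symm_apply_apply (residue _ x)
  have hgj : ∀ d, g (π (j d)) = j d := fun d => by
    rw [hj, IsScalarTower.algebraMap_apply D (Localization.AtPrime pD) D', ← RingHom.comp_apply, hg,
      IsLocalization.lift_eq]
  have hL : ∀ b, g (π (iL b)) = iL b := by
    let g₁ : B' →+* B' ⊗[H] C' := (g.comp π.toRingHom).comp iL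
    obtain ⟨e', -, he'⟩ := hBS.universal (B' ⊗[H] C')
      (iL.comp (algebraMap (Localization.AtPrime pB) B')) (ResidueField.map iL)
      ((RingHom.cancel_right residue_surjective).mp (RingHom.ext fun z => rfl))
    refine fun b => RingHom.congr_fun ((he' g₁ ⟨?_, fun y => hres (iL y)⟩).trans
      (he' iL ⟨rfl, fun y => rfl⟩).symm) b
    refine IsLocalization.ringHom_ext pB.primeCompl (RingHom.ext fun b => ?_)
    show g (π (iL (algebraMap _ B' (algebraMap B _ b)))) = iL (algebraMap _ B' (algebraMap B _ b))
    rw [← IsScalarTower.algebraMap_apply, show iL (algebraMap B B' b) = j (iB b) from (hjB b).symm,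
      hgj]
  have hR : ∀ c, g (π (iR c)) = iR c := by
    let g₁ : C' →+* B' ⊗[H] C' := (g.comp π.toRingHom).comp iR
    obtain ⟨e', -, he'⟩ := hCS.universal (B' ⊗[H] C')
      (iR.comp (algebraMap (Localization.AtPrime pC) C')) (ResidueField.map iR)
      ((RingHom.cancel_right residue_surjective).mp (RingHom.ext fun z => rfl))
    refine fun c => RingHom.congr_fun ((he' g₁ ⟨?_, fun y => hres (iR y)⟩).trans
      (he' iR ⟨rfl, fun y => rfl⟩).symm) c
    refine IsLocalization.ringHom_ext pC.primeCompl (RingHom.ext fun c => ?_)
    show g (π (iR (algebraMap _ C' (algebraMap C _ c)))) = iR (algebraMap _ C' (algebraMap C _ c))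
    rw [← IsScalarTower.algebraMap_apply, show iR (algebraMap C C' c) = j (iC c) from (hjC c).symm,
      hgj]
  refine ⟨Function.LeftInverse.injective (g := g) fun x => ?_,
    Function.RightInverse.surjective (g := g) fun x => RingHom.congr_fun hsec x⟩
  induction x with
  | zero => rw [map_zero, map_zero]
  | tmul b c =>
    have h3 : b ⊗ₜ[H] c = iL b * iR c := by simp [iL, iR]
    rw [h3, map_mul, map_mul, hL, hR]
  | add x y hx hy => rw [map_add, map_add, hx, hy]

omit [IsSepClosed (ResidueField H)] in
/-- The image of a quasi-finite finite type algebra in a local algebra over a henselian local ring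
consists of integral elements. -/
theorem isIntegral_of_quasiFiniteAt_centre (R : Type u) [CommRing R] [Algebra R H] (S : Type u)
    [CommRing S] [Algebra R S] [Algebra.FiniteType R S] (W : Type u) [CommRing W] [IsLocalRing W]
    [Algebra H W] [IsLocalHom (algebraMap H W)] (j : S →+* W)
    (hj : j.comp (algebraMap R S) = (algebraMap H W).comp (algebraMap R H))
    [Algebra.QuasiFiniteAt R ((maximalIdeal W).comap j)] (s : S) : IsIntegral H (j s) := by
  obtain ⟨T, _, _, _, _, φ, -, j', -, hφj⟩ :=
    exists_finite_local_factor R S ((maximalIdeal W).comap j) H W j hj rfl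
  rw [← hφj]
  exact (IsIntegral.of_finite H (j' s)).map φ

end

end Groth.Hensel1
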