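import Groth.Prelude.Def_CAlg2
import Groth.Agent.Hensel1.Normal
import Groth.Agent.Hensel1.StrictBaseChange
import Mathlib.RingTheory.Localization.BaseChange
import Groth.Agent.S2801

/-!
# Unibranch local rings and henselizations
-/

set_option autoImplicit false

namespace Groth.Hensel1

open IsLocalRing
open scoped TensorProduct

universe u

/-- A domain integral over a henselian local ring is local. -/
theorem isLocalRing_of_isIntegral_of_isDomain (H T : Type u) [CommRing H] [HenselianLocalRing H]
    [CommRing T] [IsDomain T] [Algebra H T] [Algebra.IsIntegral H T] : IsLocalRing T :=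
  IsLocalRing.of_isUnit_or_isUnit_one_sub_self fun x => by
    let V : Subalgebra H T := Algebra.adjoin H {x}
    have : Module.Finite H V := Module.Finite.iff_fg.mpr (Algebra.IsIntegral.isIntegral x).fg_adjoin_singleton
    have := isLocalRing_of_finite_of_idempotent H V fun e he =>
      IsIdempotentElem.iff_eq_zero_or_one.mp he
    rcases isUnit_or_isUnit_one_sub_self (⟨x, Algebra.self_mem_adjoin_singleton H x⟩ : V) with h | h
    · exact Or.inl (h.map V.val)
    · exact Or.inr (by simpa using h.map V.val)

/-- An algebraic extension of a separably closed field is separably closed. -/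
theorem isSepClosed_of_isAlgebraic (F E : Type u) [Field F] [Field E] [Algebra F E]
    [IsSepClosed F] [Algebra.IsAlgebraic F E] : IsSepClosed E := by
  refine IsSepClosed.of_exists_root _ fun p _ hpi hps => ?_
  let Ω := AlgebraicClosure E
  have : Algebra.IsAlgebraic F Ω := Algebra.IsAlgebraic.trans F E Ω
  have : IsPurelyInseparable E Ω := IsPurelyInseparable.tower_top F E Ω
  obtain ⟨z, hz⟩ := IsAlgClosed.exists_aeval_eq_zero Ω p (Polynomial.degree_pos_of_irreducible hpi).ne'
  obtain ⟨y, rfl⟩ := IsPurelyInseparable.inseparable E z (hps.of_dvd (minpoly.dvd E z hz))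
  refine ⟨y, ?_⟩
  rw [Polynomial.aeval_algebraMap_apply_eq_algebraMap_eval] at hz
  exact (algebraMap E Ω).injective (hz.trans (map_zero _).symm)

/-- The image of a separable extension is separable over an intermediate field. -/
theorem mem_separableClosure_algebraMap (k b s T : Type u) [Field k] [Field b] [Field s] [Field T]
    [Algebra k b] [Algebra k s] [Algebra k T] [Algebra b T] [Algebra s T] [IsScalarTower k b T]
    [IsScalarTower k s T] [Algebra.IsSeparable k s] (x : s) :
    algebraMap s T x ∈ separableClosure b T := by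
  have h : IsSeparable k (algebraMap s T x) :=
    (Algebra.IsSeparable.isSeparable k x).map (f := IsScalarTower.toAlgHom k s T) (RingHom.injective _)
  exact mem_separableClosure_iff.mpr (IsSeparable.tower_top b h)

section

variable (R : Type u) [CommRing R] (R' : Type u) [CommRing R'] [Algebra R R']
  (S : Type u) [CommRing S] [Algebra R S]

/-- An algebra inside the fraction field, tensored with a flat domain, is a domain. -/
theorem isDomain_tensor [IsDomain R] [Module.Flat R S] [IsDomain S] [FaithfulSMul R S]
    (K : Type u) [Field K] [Algebra R K] [IsFractionRing R K] (i : R' →ₐ[R] K)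
    (hi : Function.Injective i) : IsDomain (R' ⊗[R] S) := by
  have h1 : Function.Injective (Algebra.TensorProduct.map i (AlgHom.id R S)) :=
    Module.Flat.rTensor_preserves_injective_linearMap (M := S) i.toLinearMap hi
  let _ : Algebra S (K ⊗[R] S) := Algebra.TensorProduct.rightAlgebra
  have : IsLocalization (Algebra.algebraMapSubmonoid S (nonZeroDivisors R)) (K ⊗[R] S) :=
    IsLocalization.tensorRight (A := K) (nonZeroDivisors R)
  have hM : Algebra.algebraMapSubmonoid S (nonZeroDivisors R) ≤ nonZeroDivisors S := by
    rintro _ ⟨a, ha, rfl⟩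
    exact mem_nonZeroDivisors_of_ne_zero
      ((map_ne_zero_iff _ (FaithfulSMul.algebraMap_injective R S)).mpr (nonZeroDivisors.ne_zero ha))
  have : IsDomain (K ⊗[R] S) := IsLocalization.isDomain_of_le_nonZeroDivisors _ hM
  exact h1.isDomain

/-- If `S` is faithfully flat and `R' ⊗ S` is local, then so is `R'`. -/
theorem isLocalRing_of_tensor [Module.FaithfullyFlat R S] [IsLocalRing (R' ⊗[R] S)] : IsLocalRing R' := by
  have := RingHom.domain_nontrivial (algebraMap R' (R' ⊗[R] S))
  refine IsLocalRing.of_isUnit_or_isUnit_one_sub_self fun x => ?_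
  have key : ∀ y : R', IsUnit (algebraMap R' (R' ⊗[R] S) y) → IsUnit y := by
      intro y hy
      by_contra hn
      have hne : Ideal.span {y} ≠ ⊤ := Ideal.span_singleton_eq_top.not.mpr hn
      apply hne
      rw [← Ideal.comap_map_eq_self_of_faithfullyFlat (B := R' ⊗[R] S) (Ideal.span {y}),
        Ideal.map_span, Set.image_singleton, Ideal.span_singleton_eq_top.mpr hy, Ideal.comap_top]
  rcases isUnit_or_isUnit_one_sub_self (algebraMap R' (R' ⊗[R] S) x) with h | h
  · exact Or.inl (key x h)
  · exact Or.inr (key (1 - x) (by rwa [map_sub, map_one]))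

end

/-- The normalization of a domain in its fraction field is integrally closed. -/
theorem isIntegrallyClosed_normalization (R : Type u) [CommRing R] [IsDomain R] :
    IsIntegrallyClosed (integralClosure R (FractionRing R)) := by
  have : Algebra.IsAlgebraic R (FractionRing R) := IsLocalization.isAlgebraic _ (nonZeroDivisors R)
  have := integralClosure.isFractionRing_of_algebraic (A := R) (L := FractionRing R)
    fun x hx => (FaithfulSMul.algebraMap_eq_zero_iff R (FractionRing R)).mp hx
  exact (isIntegrallyClosed_iff_isIntegrallyClosedIn (FractionRing R)).mpr inferInstance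

theorem isLocalHom_of_isIntegral' (R R' : Type u) [CommRing R] [IsLocalRing R] [CommRing R']
    [IsLocalRing R'] [Algebra R R'] [Algebra.IsIntegral R R'] : IsLocalHom (algebraMap R R') :=
  ((IsLocalRing.local_hom_TFAE (algebraMap R R')).out 0 4).mpr
    (IsLocalRing.eq_maximalIdeal (Ideal.isMaximal_comap_of_isIntegral_of_isMaximal (maximalIdeal R')))

/-- A local domain is unibranch iff its henselization is a domain. -/
theorem isDomain_henselization_iff (R S : Type u) [CommRing R] [IsDomain R] [IsLocalRing R] [CommRing S]
    [IsLocalRing S] [Algebra R S] [IsLocalHom (algebraMap R S)] [Hensel.IsHenselization R S] :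
    IsDomain S ↔ IsLocalRing (integralClosure R (FractionRing R)) := by
  obtain ⟨M⟩ := hensModel_of_isHenselization (R := R) (S := S)
  have := M.flat
  have := M.faithfullyFlat
  have := (inferInstance : Hensel.IsHenselization R S).henselian
  let R' := integralClosure R (FractionRing R)
  constructor
  · intro _
    have : FaithfulSMul R S := (faithfulSMul_iff_algebraMap_injective R S).mpr
      (FaithfulSMul.algebraMap_injective R S)
    have := isDomain_tensor R R' S (FractionRing R) R'.val Subtype.val_injective
    let _ : Algebra S (R' ⊗[R] S) := Algebra.TensorProduct.rightAlgebra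
    have : Algebra.IsIntegral S (R' ⊗[R] S) :=
      Algebra.IsIntegral.of_surjective (Algebra.TensorProduct.commRight R S R').toAlgHom
        (Algebra.TensorProduct.commRight R S R').surjective
    have := isLocalRing_of_isIntegral_of_isDomain S (R' ⊗[R] S)
    exact isLocalRing_of_tensor R R' S
  · intro hloc
    have := isLocalHom_of_isIntegral' R R'
    obtain ⟨_, _, hT⟩ := Groth.Agent.S2801.result R R' S
    obtain ⟨M'⟩ := hensModel_of_isHenselization (R := R') (S := R' ⊗[R] S)
    have h := M'.normal_iff.mp ⟨inferInstance, isIntegrallyClosed_normalization R⟩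
    have := h.1
    have hinj : Function.Injective (Algebra.TensorProduct.includeRight : S →ₐ[R] R' ⊗[R] S) := by
      have h1 : Function.Injective
          (Algebra.TensorProduct.map (Algebra.ofId R R') (AlgHom.id R S)) :=
        Module.Flat.rTensor_preserves_injective_linearMap (M := S) (Algebra.ofId R R').toLinearMap
          (FaithfulSMul.algebraMap_injective R R')
      intro a b hab
      have h2 := h1 (a₁ := (1 : R) ⊗ₜ[R] a) (a₂ := (1 : R) ⊗ₜ[R] b) (by simpa using hab)
      exact (Algebra.TensorProduct.lid R S).symm.injective h2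
    exact hinj.isDomain

section Strict

variable (R B S : Type u) [CommRing R] [IsLocalRing R] [CommRing B] [IsLocalRing B] [Algebra R B]
  [IsLocalHom (algebraMap R B)] [Algebra.IsIntegral R B]
  [CommRing S] [IsLocalRing S] [Algebra R S] [IsLocalHom (algebraMap R S)]
  [Hensel.IsStrictHenselization R S]

set_option maxHeartbeats 1000000 in
/-- Base change of a strict henselization along an integral local map with purely inseparable residue
extension. -/
theorem isStrictHenselization_tensor [IsPurelyInseparable (ResidueField R) (ResidueField B)] :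
    ∃ (_ : IsLocalRing (B ⊗[R] S)) (_ : IsLocalHom (algebraMap B (B ⊗[R] S))),
      Hensel.IsStrictHenselization B (B ⊗[R] S) := by
  classical
  obtain ⟨M⟩ := hensModel_of_isStrictHenselization (R := R) (S := S)
  have := M.faithfullyFlat
  have hS := (inferInstance : Hensel.IsStrictHenselization R S)
  have := hS.henselian
  have := hS.isSepClosure.sep_closed
  have := hS.isSepClosure.separable
  let iL : B →+* B ⊗[R] S := Algebra.TensorProduct.includeLeftRingHom
  let iR : S →+* B ⊗[R] S := Algebra.TensorProduct.includeRight.toRingHom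
  let _ : Algebra S (B ⊗[R] S) := Algebra.TensorProduct.rightAlgebra
  have : Algebra.IsIntegral S (B ⊗[R] S) :=
    Algebra.IsIntegral.of_surjective (Algebra.TensorProduct.commRight R S B).toAlgHom
      (Algebra.TensorProduct.commRight R S B).surjective
  have hRB : ∀ a, iL (algebraMap R B a) = iR (algebraMap R S a) := fun a => by
    show algebraMap R B a ⊗ₜ[R] (1 : S) = (1 : B) ⊗ₜ[R] algebraMap R S a
    rw [Algebra.algebraMap_eq_smul_one, Algebra.algebraMap_eq_smul_one, TensorProduct.smul_tmul]
  obtain ⟨q, hq⟩ := ExpChar.exists (ResidueField R)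
  have hmaxT : ∀ P : Ideal (B ⊗[R] S), P.IsMaximal →
      P.comap iR = maximalIdeal S ∧ P.comap iL = maximalIdeal B := by
    intro P hP
    have h1 : P.comap iR = maximalIdeal S := IsLocalRing.eq_maximalIdeal
      (Ideal.isMaximal_comap_of_isIntegral_of_isMaximal (R := S) P)
    refine ⟨h1, IsLocalRing.eq_maximalIdeal
      (Ideal.isMaximal_of_isIntegral_of_isMaximal_comap (R := R) _ ?_)⟩
    have h4 : (maximalIdeal S).comap (algebraMap R S) = maximalIdeal R :=
      ((IsLocalRing.local_hom_TFAE (algebraMap R S)).out 0 4).mp ‹IsLocalHom (algebraMap R S)›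
    rw [Ideal.comap_comap, show iL.comp (algebraMap R B) = iR.comp (algebraMap R S) from
      RingHom.ext hRB, ← Ideal.comap_comap, h1, h4]
    exact maximalIdeal.isMaximal R
  have hkey : ∀ x : B ⊗[R] S, ∃ (n : ℕ) (c : S), ∀ P : Ideal (B ⊗[R] S), P.IsMaximal →
      x ^ q ^ n - iR c ∈ P := by
    intro x
    induction x with
    | zero => exact ⟨0, 0, fun P _ => by simp⟩
    | tmul b c =>
      obtain ⟨n, a, ha⟩ := IsPurelyInseparable.pow_mem (ResidueField R) q (residue B b)
      obtain ⟨a, rfl⟩ := residue_surjective a
      refine ⟨n, algebraMap R S a * c ^ q ^ n, fun P hP => ?_⟩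
      have h0 : b ^ q ^ n - algebraMap R B a ∈ maximalIdeal B := by
        rw [← residue_eq_zero_iff, map_sub, map_pow, ← ha, sub_eq_zero]
        rfl
      rw [← (hmaxT P hP).2] at h0
      have h6 := P.mul_mem_right (iR (c ^ q ^ n)) h0
      have h7 : (b ⊗ₜ[R] c) = iL b * iR c := by simp [iL, iR]
      rw [map_sub, sub_mul, hRB, map_pow, map_pow, ← mul_pow, ← h7, ← map_pow iR, ← map_mul] at h6
      exact h6
    | add x y hx hy =>
      obtain ⟨n, c, hc⟩ := hx
      obtain ⟨m, d, hd⟩ := hy
      refine ⟨n + m, c ^ q ^ m + d ^ q ^ n, fun P hP => ?_⟩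
      let _ := Ideal.Quotient.field P
      let φ : ResidueField R →+* (B ⊗[R] S) ⧸ P :=
        Ideal.Quotient.lift (maximalIdeal R) ((Ideal.Quotient.mk P).comp (iR.comp (algebraMap R S)))
          fun z hz => Ideal.Quotient.eq_zero_iff_mem.mpr (by
            show algebraMap R S z ∈ P.comap iR
            rw [(hmaxT P hP).1]
            exact map_nonunit (algebraMap R S) z hz)
      have := expChar_of_injective_ringHom φ.injective q
      have e1 : Ideal.Quotient.mk P x ^ q ^ n = Ideal.Quotient.mk P (iR c) := by
        rw [← map_pow]; exact Ideal.Quotient.eq.mpr (hc P hP)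
      have e2 : Ideal.Quotient.mk P y ^ q ^ m = Ideal.Quotient.mk P (iR d) := by
        rw [← map_pow]; exact Ideal.Quotient.eq.mpr (hd P hP)
      rw [← Ideal.Quotient.eq]
      simp only [map_pow, map_add, add_pow_expChar_pow]
      congr 1
      · rw [pow_add, pow_mul, e1]
      · rw [pow_add, mul_comm, pow_mul, e2]
  have : Nontrivial (B ⊗[R] S) := inferInstance
  have hloc : IsLocalRing (B ⊗[R] S) := by
    obtain ⟨P, hP⟩ := Ideal.exists_maximal (B ⊗[R] S)
    refine IsLocalRing.of_unique_max_ideal ⟨P, hP, fun Q hQ => hQ.eq_of_le hP.ne_top fun x hx => ?_⟩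
    obtain ⟨n, c, hc⟩ := hkey x
    have hqn : 0 < q ^ n := pow_pos (expChar_pos (ResidueField R) q) n
    have h7 : iR c ∈ Q := by
      have := Q.sub_mem (Q.pow_mem_of_mem hx _ hqn) (hc Q hQ)
      simpa using this
    have h8 : iR c ∈ P := by
      rw [← Ideal.mem_comap, (hmaxT P hP).1, ← (hmaxT Q hQ).1]
      exact h7
    exact hP.isPrime.mem_of_pow_mem _ (by simpa using P.add_mem (hc P hP) h8)
  have hiL : IsLocalHom iL :=
    ((IsLocalRing.local_hom_TFAE iL).out 0 4).mpr (hmaxT _ (maximalIdeal.isMaximal _)).2
  have hiR : IsLocalHom iR :=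
    ((IsLocalRing.local_hom_TFAE iR).out 0 4).mpr (hmaxT _ (maximalIdeal.isMaximal _)).1
  have hBloc : IsLocalHom (algebraMap B (B ⊗[R] S)) := hiL
  refine ⟨hloc, hBloc, ?_, ?_, ?_⟩
  · have := henselianRing_of_isIntegral (I := maximalIdeal S) (B ⊗[R] S)
    have : HenselianRing (B ⊗[R] S) (maximalIdeal (B ⊗[R] S)) := by
      refine henselianRing_of_le_radical
        (I := (maximalIdeal S).map (algebraMap S (B ⊗[R] S))) ?_
      rw [Ideal.radical_eq_sInf]
      refine le_sInf fun P ⟨hP, hprime⟩ => (IsLocalRing.eq_maximalIdeal
        (Ideal.isMaximal_of_isIntegral_of_isMaximal_comap (R := S) P ?_)).ge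
      rw [← (maximalIdeal.isMaximal S).eq_of_le (Ideal.IsPrime.ne_top inferInstance)
        (Ideal.map_le_iff_le_comap.mp hP)]
      exact maximalIdeal.isMaximal S
    exact henselianLocalRing_of_henselianRing
  · let _ : Algebra (ResidueField S) (ResidueField (B ⊗[R] S)) := (ResidueField.map iR).toAlgebra
    let _ : Algebra (ResidueField R) (ResidueField (B ⊗[R] S)) :=
      ((ResidueField.map iR).comp (algebraMap (ResidueField R) (ResidueField S))).toAlgebra
    have : IsScalarTower (ResidueField R) (ResidueField S) (ResidueField (B ⊗[R] S)) :=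
      .of_algebraMap_eq fun _ => rfl
    have : IsScalarTower (ResidueField R) (ResidueField B) (ResidueField (B ⊗[R] S)) := by
      refine IsScalarTower.of_algebraMap_eq fun z => ?_
      obtain ⟨z, rfl⟩ := residue_surjective z
      exact congrArg (residue (B ⊗[R] S)) (hRB z).symm
    have hmem : ∀ x, residue (B ⊗[R] S) x ∈ separableClosure (ResidueField B) (ResidueField (B ⊗[R] S)) := by
      intro x
      induction x with
      | zero => rw [map_zero]; exact zero_mem _
      | tmul b c =>
        have h7 : (b ⊗ₜ[R] c) = iL b * iR c := by simp [iL, iR]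
        rw [h7, map_mul]
        refine mul_mem ?_ ?_
        · exact (separableClosure (ResidueField B) _).algebraMap_mem (residue B b)
        · exact mem_separableClosure_algebraMap (ResidueField R) (ResidueField B) (ResidueField S) _
            (residue S c)
      | add x y hx hy => rw [map_add]; exact add_mem hx hy
    refine ⟨?_, ⟨fun z => ?_⟩⟩
    · have : Algebra.IsAlgebraic (ResidueField S) (ResidueField (B ⊗[R] S)) := ⟨fun z => by
        obtain ⟨z, rfl⟩ := residue_surjective z
        obtain ⟨F, hFm, hF⟩ := Algebra.IsIntegral.isIntegral (R := S) z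
        refine ⟨F.map (residue S), (hFm.map _).ne_zero, ?_⟩
        have h9 := congrArg (residue (B ⊗[R] S)) hF
        rw [map_zero, Polynomial.hom_eval₂] at h9
        rw [Polynomial.aeval_def, Polynomial.eval₂_map]
        exact h9⟩
      exact isSepClosed_of_isAlgebraic (ResidueField S) _
    · obtain ⟨z, rfl⟩ := residue_surjective z
      exact mem_separableClosure_iff.mp (hmem z)
  · intro T _ _ f _ τ hτ
    let _ : Algebra R T := (f.comp (algebraMap R B)).toAlgebra
    obtain ⟨g, ⟨hg, hgτ⟩, hgu⟩ := hS.universal T (f.comp (algebraMap R B))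
      (τ.comp (ResidueField.map iR)) (by
        refine (RingHom.cancel_right residue_surjective).mp (RingHom.ext fun z => ?_)
        show τ (residue _ (iR (algebraMap R S z))) = residue T (f (algebraMap R B z))
        rw [← hRB]
        exact RingHom.congr_fun hτ (residue B (algebraMap R B z)))
    let fₐ : B →ₐ[R] T := { f with commutes' := fun _ => rfl }
    let gₐ : S →ₐ[R] T := { g with commutes' := fun a => RingHom.congr_fun hg a }
    let G := Algebra.TensorProduct.lift fₐ gₐ fun _ _ => Commute.all _ _
    have hGL : ∀ b, G (iL b) = f b := fun b => by simp [G, iL, fₐ, gₐ]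
    have hGR : ∀ c, G (iR c) = g c := fun c => by simp [G, iR, fₐ, gₐ]
    refine ⟨G.toRingHom, ⟨RingHom.ext hGL, fun x => ?_⟩, fun h ⟨hh, hhτ⟩ => ?_⟩
    · induction x with
      | zero => simp
      | tmul b c =>
        have h7 : (b ⊗ₜ[R] c) = iL b * iR c := by simp [iL, iR]
        show residue T (G (b ⊗ₜ[R] c)) = _
        rw [h7, map_mul, map_mul, map_mul, map_mul, hGL, hGR, hgτ]
        congr 1
        exact (RingHom.congr_fun hτ (residue B b)).symm
      | add x y hx hy => simp only [map_add, hx, hy]
    · have h2 : h.comp iR = g := by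
        refine hgu _ ⟨RingHom.ext fun a => ?_, fun c => hhτ (iR c)⟩
        show h (iR (algebraMap R S a)) = f (algebraMap R B a)
        rw [← hRB]
        exact RingHom.congr_fun hh _
      refine RingHom.ext fun x => ?_
      induction x with
      | zero => simp
      | tmul b c =>
        have h7 : (b ⊗ₜ[R] c) = iL b * iR c := by simp [iL, iR]
        rw [h7, map_mul, map_mul]
        congr 1
        · exact (RingHom.congr_fun hh b).trans (hGL b).symm
        · exact (RingHom.congr_fun h2 c).trans (hGR c).symm
      | add x y hx hy => rw [map_add, map_add, hx, hy]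

/-- If `B ⊗ S` is local then `B` has purely inseparable residue field extension over `R`. -/
theorem isPurelyInseparable_residueField_of_tensor [IsLocalRing (B ⊗[R] S)] :
    IsPurelyInseparable (ResidueField R) (ResidueField B) := by
  classical
  have hS := (inferInstance : Hensel.IsStrictHenselization R S)
  have := hS.isSepClosure.sep_closed
  let Ω := AlgebraicClosure (ResidueField S)
  let iR : S →+* B ⊗[R] S := Algebra.TensorProduct.includeRight.toRingHom
  let iL : B →+* B ⊗[R] S := Algebra.TensorProduct.includeLeftRingHom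
  let _ : Algebra S (B ⊗[R] S) := Algebra.TensorProduct.rightAlgebra
  have : Algebra.IsIntegral S (B ⊗[R] S) :=
    Algebra.IsIntegral.of_surjective (Algebra.TensorProduct.commRight R S B).toAlgHom
      (Algebra.TensorProduct.commRight R S B).surjective
  have hiR : IsLocalHom iR := isLocalHom_of_isIntegral' S (B ⊗[R] S)
  let _ : Algebra (ResidueField S) (ResidueField (B ⊗[R] S)) := (ResidueField.map iR).toAlgebra
  have : Algebra.IsAlgebraic (ResidueField S) (ResidueField (B ⊗[R] S)) := ⟨fun z => by
    obtain ⟨z, rfl⟩ := residue_surjective z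
    obtain ⟨F, hFm, hF⟩ := Algebra.IsIntegral.isIntegral (R := S) z
    refine ⟨F.map (residue S), (hFm.map _).ne_zero, ?_⟩
    have h9 := congrArg (residue (B ⊗[R] S)) hF
    rw [map_zero, Polynomial.hom_eval₂] at h9
    rw [Polynomial.aeval_def, Polynomial.eval₂_map]
    exact h9⟩
  have : Algebra.IsAlgebraic (ResidueField R) (ResidueField B) := ⟨fun z => by
    obtain ⟨z, rfl⟩ := residue_surjective z
    have h : IsIntegral R (residue B z) :=
      (Algebra.IsIntegral.isIntegral z).map (IsScalarTower.toAlgHom R B (ResidueField B))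
    exact h.tower_top.isAlgebraic⟩
  let sΩ : S →ₐ[R] Ω := { (algebraMap (ResidueField S) Ω).comp (residue S) with commutes' := fun _ => rfl }
  have key : ∀ σ : ResidueField B →ₐ[ResidueField R] Ω,
      ∃ ψ : ResidueField (B ⊗[R] S) →ₐ[ResidueField S] Ω,
        ∀ b, σ (residue B b) = ψ (residue _ (iL b)) := by
    intro σ
    let bΩ : B →ₐ[R] Ω :=
      { σ.toRingHom.comp (residue B) with
        commutes' := fun a => (σ.commutes (residue R a)) }
    let χ := Algebra.TensorProduct.lift bΩ sΩ fun _ _ => Commute.all _ _
    have hχR : χ.toRingHom.comp iR = (algebraMap (ResidueField S) Ω).comp (residue S) :=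
      RingHom.ext fun c => by
        show χ ((1 : B) ⊗ₜ[R] c) = _
        simp [χ]
        rfl
    have hker : maximalIdeal (B ⊗[R] S) ≤ RingHom.ker χ.toRingHom := by
      have : (RingHom.ker χ.toRingHom).IsPrime := RingHom.ker_isPrime _
      refine (IsLocalRing.eq_maximalIdeal
        (Ideal.isMaximal_of_isIntegral_of_isMaximal_comap (R := S) (RingHom.ker χ.toRingHom) ?_)).ge
      rw [RingHom.comap_ker, show χ.toRingHom.comp (algebraMap S (B ⊗[R] S)) = _ from hχR,
        RingHom.ker_comp_of_injective _ (algebraMap (ResidueField S) Ω).injective, ker_residue]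
      exact maximalIdeal.isMaximal S
    refine ⟨{ Ideal.Quotient.lift (maximalIdeal (B ⊗[R] S)) χ.toRingHom fun a ha => hker ha with
      commutes' := fun z => ?_ }, fun b => ?_⟩
    · obtain ⟨z, rfl⟩ := residue_surjective z
      exact RingHom.congr_fun hχR z
    · show σ (residue B b) = χ (iL b)
      simp [χ, iL, bΩ, sΩ]
  have hsub : Subsingleton (ResidueField B →ₐ[ResidueField R] Ω) := ⟨fun σ σ' => by
    obtain ⟨ψ, hψ⟩ := key σ
    obtain ⟨ψ', hψ'⟩ := key σ'
    ext z
    obtain ⟨z, rfl⟩ := residue_surjective z
    rw [hψ, hψ', Subsingleton.elim ψ ψ']⟩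
  rw [isPurelyInseparable_iff_finSepDegree_eq_one,
    Field.finSepDegree_eq_of_isAlgClosed (ResidueField R) (ResidueField B) Ω]
  exact Nat.card_eq_one_iff_unique.mpr ⟨hsub, ⟨IsAlgClosed.lift⟩⟩

end Strict

end Groth.Hensel1
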