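import Groth.Agent.Hensel1.Construction
import Groth.Prelude.Def_Hensel
import Mathlib.FieldTheory.IsSepClosed
import Mathlib.FieldTheory.Separable

/-!
# `Hens R Ω` is a (strict) henselization
-/

set_option autoImplicit false

namespace Groth.Hensel1

open IsLocalRing TensorProduct Polynomial

universe u v

noncomputable section

namespace HensIdx

variable {R : Type u} [CommRing R] [IsLocalRing R] {Ω : Type u} [Field Ω] [Algebra R Ω]
  [Algebra (ResidueField R) Ω] [IsScalarTower R (ResidueField R) Ω]

lemma ker_algebraMap_Ω : RingHom.ker (algebraMap R Ω) = maximalIdeal R := by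
  rw [IsScalarTower.algebraMap_eq R (ResidueField R) Ω, RingHom.ker_comp_of_injective _
    (RingHom.injective _), ResidueField.algebraMap_eq, ker_residue]

lemma comap_q (i : HensIdx R Ω) : i.q.comap (algebraMap R i.P.Ring) = maximalIdeal R := by
  rw [HensIdx.q, RingHom.comap_ker]
  show RingHom.ker (i.pt.toRingHom.comp (algebraMap R i.P.Ring)) = _
  rw [show i.pt.toRingHom.comp (algebraMap R i.P.Ring) = algebraMap R Ω from
    RingHom.ext i.pt.commutes, ker_algebraMap_Ω]

instance (i : HensIdx R Ω) : IsLocalHom (algebraMap R i.Obj) :=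
  isLocalHom_atPrime R _ _ i.comap_q

lemma map_maximalIdeal (i : HensIdx R Ω) :
    (maximalIdeal R).map (algebraMap R i.Obj) = maximalIdeal i.Obj :=
  map_maximalIdeal_atPrime R _ _ i.comap_q

end HensIdx

namespace Hens

open HensIdx

variable {R : Type u} [CommRing R] {Ω : Type u} [Field Ω] [Algebra R Ω]

theorem henselianLocalRing : HenselianLocalRing (Hens R Ω) where
  is_henselian F hF a₀ h₁ h₂ := by
    classical
    obtain ⟨i, y, hy⟩ := exists_of_ring_fintype (fun k : Fin F.natDegree => F.coeff k)
    let ρ : i.P.Ring →ₐ[R] Hens R Ω := (of i).comp (IsScalarTower.toAlgHom R _ _)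
    set g : i.P.Ring[X] := X ^ F.natDegree + ∑ k : Fin F.natDegree, C (y k) * X ^ (k : ℕ) with hg
    have : Nontrivial i.P.Ring := i.pt.toRingHom.domain_nontrivial
    have hgm : g.Monic :=
      (monic_X_pow _).add_of_left (lt_of_lt_of_le (degree_sum_fin_lt _)
        (degree_X_pow _).ge)
    have hgF : g.map ρ.toRingHom = F := by
      have hyk : ∀ k, ρ.toRingHom (y k) = F.coeff (k : ℕ) := hy
      rw [hg, Polynomial.map_add, Polynomial.map_pow, map_X, Polynomial.map_sum]
      simp only [Polynomial.map_mul, Polynomial.map_pow, map_C, map_X, hyk]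
      conv_rhs => rw [hF.as_sum, ← Fin.sum_univ_eq_sum_range (fun k => C (F.coeff k) * X ^ k)]
    set a := Hens.pt a₀ with ha
    let : Algebra i.P.Ring Ω := i.pt.toRingHom.toAlgebra
    have : IsScalarTower R i.P.Ring Ω := IsScalarTower.of_algebraMap_eq' i.pt.comp_algebraMap.symm
    have hev : ∀ p : i.P.Ring[X], aeval a p = pt ((p.map ρ.toRingHom).eval a₀) := fun p => by
      rw [aeval_def, eval_map, ← AlgHom.coe_toRingHom, hom_eval₂, ha]
      congr 1
      refine RingHom.ext fun c => ?_
      show i.pt c = pt (of i (algebraMap _ _ c))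
      rw [pt_of, ptL_algebraMap]
    let Q : StandardEtalePair i.P.Ring := ⟨g, hgm, g.derivative, 1, 0, 1, by simp⟩
    have hQ : Q.HasMap a := by
      refine ⟨?_, ?_⟩
      · show aeval a g = 0
        rw [hev, hgF]
        exact mem_maximalIdeal_iff.mp h₁
      · show IsUnit (aeval a g.derivative)
        rw [hev, ← derivative_map, hgF]
        exact h₂.map pt
    let : Algebra R Q.Ring := ((algebraMap i.P.Ring Q.Ring).comp (algebraMap R i.P.Ring)).toAlgebra
    have : IsScalarTower R i.P.Ring Q.Ring := IsScalarTower.of_algebraMap_eq' rfl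
    have : Algebra.Etale R Q.Ring := Algebra.Etale.comp R i.P.Ring Q.Ring
    obtain ⟨j, ψ, hψ, -⟩ := exists_dominating Q.Ring ((Q.lift a hQ).restrictScalars R)
    let θ : Q.Ring →ₐ[R] j.Obj := (IsScalarTower.toAlgHom R _ _).comp ψ
    have hθ : ∀ z, j.ptL (θ z) = Q.lift a hQ z := fun z => by
      show j.ptL (algebraMap _ _ (ψ z)) = _
      rw [ptL_algebraMap, ← AlgHom.comp_apply, hψ]
      rfl
    let ψi : i.P.Ring →ₐ[R] j.Obj := θ.comp (IsScalarTower.toAlgHom R i.P.Ring Q.Ring)
    have hi : j.ptL.comp ψi = i.pt := AlgHom.ext fun c => by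
      show j.ptL (θ (algebraMap i.P.Ring Q.Ring c)) = i.pt c
      rw [hθ, AlgHom.commutes]
      rfl
    refine ⟨of j (θ Q.X), ?_, ?_⟩
    · have hρ : ρ.toRingHom = ((of j).toRingHom.comp θ.toRingHom).comp
          (algebraMap i.P.Ring Q.Ring) := RingHom.ext fun c => by
        show of i (algebraMap _ _ c) = of j (θ (algebraMap _ _ c))
        rw [← of_tr (le_of_hom ψi hi), tr_algebraMap _ ψi hi]
        rfl
      rw [IsRoot, ← hgF, hρ, ← Polynomial.map_map]
      show eval (((of j).toRingHom.comp θ.toRingHom) Q.X)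
        (Polynomial.map ((of j).toRingHom.comp θ.toRingHom) (g.map (algebraMap _ Q.Ring))) = 0
      rw [eval_map_apply, eval_map, ← aeval_def]
      rw [show aeval Q.X g = 0 from StandardEtalePair.hasMap_X.1, map_zero]
    · rw [mem_maximalIdeal_iff, map_sub, pt_of, hθ, StandardEtalePair.lift_X, ha, sub_self]

instance : HenselianLocalRing (Hens R Ω) := henselianLocalRing


section Universal

variable {T : Type v} [CommRing T] [HenselianLocalRing T] [Algebra R T]

/-- The universal property of `Hens R Ω`. -/
theorem existsUnique_lift (τ : Ω →+* ResidueField T)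
    (hτ : ∀ r, τ (algebraMap R Ω r) = residue T (algebraMap R T r)) :
    ∃! g : Hens R Ω →ₐ[R] T, ∀ x, residue T (g x) = τ (pt x) := by
  classical
  have : IsScalarTower R T (ResidueField T) := IsScalarTower.of_algebraMap_eq fun _ => rfl
  let τ' : Ω →ₐ[R] ResidueField T := { τ with commutes' := hτ }
  choose f hf huniq using fun i : HensIdx R Ω =>
    existsUnique_algHom_lift_residue (T := T) (τ'.comp i.pt)
  have hu : ∀ (i : HensIdx R Ω) (c : i.q.primeCompl), IsUnit (f i (c : i.P.Ring)) := fun i c => by
    refine IsUnit.of_map (residue T) _ ?_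
    rw [hf]
    exact (isUnit_pt c).map τ'
  let fL : ∀ i : HensIdx R Ω, i.Obj →ₐ[R] T := fun i => IsLocalization.liftAlgHom (hu i)
  have hfL : ∀ i x, residue T (fL i x) = τ (i.ptL x) := fun i x => by
    obtain ⟨c, s, rfl⟩ := IsLocalization.exists_mk'_eq i.q.primeCompl x
    have h1 : residue T (fL i (IsLocalization.mk' i.Obj c s)) * τ (i.pt s) = τ (i.pt c) := by
      rw [← show residue T (f i s) = τ (i.pt s) from hf i s,
        ← show residue T (f i c) = τ (i.pt c) from hf i c,
        ← show fL i (algebraMap _ _ (s : i.P.Ring)) = f i s from IsLocalization.lift_eq _ _,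
        ← show fL i (algebraMap _ _ c) = f i c from IsLocalization.lift_eq _ _, ← map_mul,
        ← map_mul, IsLocalization.mk'_spec]
    have h2 : τ (i.ptL (IsLocalization.mk' i.Obj c s)) * τ (i.pt s) = τ (i.pt c) := by
      rw [← map_mul, ← ptL_algebraMap, ← map_mul, IsLocalization.mk'_spec, ptL_algebraMap]
    exact mul_right_cancel₀ ((isUnit_pt s).map τ).ne_zero (h1.trans h2.symm)
  have hcompat : ∀ i j (h : i ≤ j) (x : i.Obj), fL j (tr i j h x) = fL i x := fun i j h x => by
    have : (fL j).comp (tr i j h) = fL i := IsLocalization.algHom_ext i.q.primeCompl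
      (algHom_eq_of_residue_eq fun c => by
        show residue T (fL j (tr i j h (algebraMap _ _ c))) = residue T (fL i (algebraMap _ _ c))
        rw [hfL, hfL, ← AlgHom.comp_apply, ptL_comp_tr])
    exact DFunLike.congr_fun this x
  let g0 : Hens R Ω →+* T := DirectLimit.Ring.lift (fun i : HensIdx R Ω => i.Obj)
    (fun i j h => (tr i j h).toRingHom) T (fun i => (fL i).toRingHom) hcompat
  let g : Hens R Ω →ₐ[R] T :=
    { g0 with commutes' := fun r => (fL (Classical.arbitrary (HensIdx R Ω))).commutes r }
  have hg : ∀ x, residue T (g x) = τ (pt x) := fun x => by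
    obtain ⟨i, y, rfl⟩ := exists_of x
    exact hfL i y
  refine ⟨g, hg, fun g' hg' => AlgHom.ext fun x => ?_⟩
  obtain ⟨i, y, rfl⟩ := exists_of x
  have : g'.comp (of i) = g.comp (of i) := IsLocalization.algHom_ext i.q.primeCompl
    (algHom_eq_of_residue_eq fun c => (hg' _).trans (hg _).symm)
  exact DFunLike.congr_fun this y

end Universal

section Local

variable [IsLocalRing R] [Algebra (ResidueField R) Ω] [IsScalarTower R (ResidueField R) Ω]

instance isLocalHom_algebraMap : IsLocalHom (algebraMap R (Hens R Ω)) := ⟨fun r hr => by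
  rw [isUnit_iff, AlgHom.commutes] at hr
  rw [← not_not (a := IsUnit r), ← mem_nonunits_iff, ← mem_maximalIdeal,
    ← ker_algebraMap_Ω (Ω := Ω)]
  exact hr⟩

theorem map_maximalIdeal :
    (maximalIdeal R).map (algebraMap R (Hens R Ω)) = maximalIdeal (Hens R Ω) := by
  refine le_antisymm (((local_hom_TFAE _).out 0 2 rfl rfl).mp isLocalHom_algebraMap) fun x hx => ?_
  obtain ⟨i, y, rfl⟩ := exists_of x
  have hy : y ∈ maximalIdeal i.Obj := by
    rw [mem_maximalIdeal, mem_nonunits_iff, HensIdx.isUnit_iff, not_not]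
    simpa using mem_maximalIdeal_iff.mp hx
  rw [← i.map_maximalIdeal] at hy
  have := Ideal.mem_map_of_mem (of i).toRingHom hy
  rwa [Ideal.map_map, show (of i).toRingHom.comp (algebraMap R i.Obj) = algebraMap R (Hens R Ω)
    from RingHom.ext (of i).commutes] at this

theorem flat : Module.Flat R (Hens R Ω) := by
  classical
  refine Module.Flat.of_forall_isTrivialRelation fun {l a x} h => ?_
  obtain ⟨i, y, hy⟩ := exists_of_fintype x
  have h0 : of i (∑ k, a k • y k) = of i 0 := by simpa [hy] using h
  obtain ⟨j, hij, hj⟩ := exists_tr_eq h0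
  rw [map_sum, map_zero] at hj
  simp only [map_smul] at hj
  have : Module.Flat R j.P.Ring := inferInstance
  have : Module.Flat j.P.Ring j.Obj := IsLocalization.flat _ j.q.primeCompl
  have : Module.Flat R j.Obj := Module.Flat.trans R j.P.Ring j.Obj
  obtain ⟨k, b, z, hz, hb⟩ := Module.Flat.isTrivialRelation_of_sum_smul_eq_zero hj
  refine ⟨k, b, fun m => of j (z m), fun m => ?_, hb⟩
  rw [← hy m, ← of_tr hij, show tr i j hij (y m) = _ from hz m, map_sum]
  simp only [map_smul]

instance : Module.Flat R (Hens R Ω) := flat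

theorem faithfullyFlat : Module.FaithfullyFlat R (Hens R Ω) :=
  Module.FaithfullyFlat.of_flat_of_isLocalHom

theorem pt_surjective [Algebra.IsSeparable (ResidueField R) Ω] :
    Function.Surjective (pt (R := R) (Ω := Ω)) := fun a => by
  have hsep : (minpoly (ResidueField R) a).Separable := Algebra.IsSeparable.isSeparable _ a
  have hm : (minpoly (ResidueField R) a).Monic :=
    minpoly.monic (Algebra.IsSeparable.isIntegral _ a)
  obtain ⟨f, hf, -, hfm⟩ := lifts_and_natDegree_eq_and_monic
    ((mem_lifts _).mpr (Polynomial.map_surjective _ residue_surjective _)) hm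
  have hev : ∀ p : R[X], aeval a p = aeval a (p.map (residue R)) := fun p => by
    rw [← ResidueField.algebraMap_eq, aeval_map_algebraMap]
  let i : HensIdx R Ω := ⟨⟨f, hfm, f.derivative, 1, 0, 1, by simp⟩, a, by
    show aeval a f = 0
    rw [hev, hf, minpoly.aeval], by
    show IsUnit (aeval a f.derivative)
    rw [hev, ← derivative_map, hf]
    exact isUnit_iff_ne_zero.mpr (hsep.aeval_derivative_ne_zero (minpoly.aeval _ a))⟩
  exact ⟨of i (algebraMap _ _ i.P.X), by
    rw [pt_of, ptL_algebraMap]; exact StandardEtalePair.lift_X _ _ _⟩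

theorem residuePt_bijective [Algebra.IsSeparable (ResidueField R) Ω] :
    Function.Bijective (residuePt (R := R) (Ω := Ω)) :=
  ⟨RingHom.injective _, fun a => by
    obtain ⟨x, hx⟩ := pt_surjective (R := R) a
    exact ⟨residue _ x, hx⟩⟩

end Local

end Hens

end

end Groth.Hensel1
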