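import Groth.Agent.Hensel1.UnibranchCriterion
import Mathlib.RingTheory.Jacobson.Ring
import Mathlib.FieldTheory.PurelyInseparable.Basic

/-!
# Unibranch implies geometrically unibranch when the residue field is separably closed
-/

set_option autoImplicit false

namespace Groth.Hensel1

open IsLocalRing

universe u

theorem isAlgebraic_residueField (R B : Type u) [CommRing R] [IsLocalRing R] [CommRing B] [IsLocalRing B]
    [Algebra R B] [IsLocalHom (algebraMap R B)] [Algebra.IsIntegral R B] :
    Algebra.IsAlgebraic (ResidueField R) (ResidueField B) := ⟨fun z => by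
  obtain ⟨z, rfl⟩ := residue_surjective z
  obtain ⟨F, hFm, hF⟩ := Algebra.IsIntegral.isIntegral (R := R) z
  refine ⟨F.map (residue R), (hFm.map _).ne_zero, ?_⟩
  have h9 := congrArg (residue B) hF
  rw [map_zero, Polynomial.hom_eval₂] at h9
  rw [Polynomial.aeval_def, Polynomial.eval₂_map]
  exact h9⟩

theorem isGeomUnibranch_of_isUnibranch_of_isSepClosed {A : Type u} [CommRing A] [IsLocalRing A]
    [IsSepClosed (ResidueField A)] (h : CAlg2.IsUnibranch A) : CAlg2.IsGeomUnibranch A := by
  have := isLocalRing_red A
  obtain ⟨hd, hl⟩ := h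
  refine (isGeomUnibranch_iff A).mpr ⟨hd, this, hl, fun _ => ?_⟩
  have := isLocalHom_of_isIntegral' A (CAlg2.red A)
  have := isAlgebraic_residueField A (CAlg2.red A)
  have : IsSepClosed (ResidueField (CAlg2.red A)) := isSepClosed_of_isAlgebraic (ResidueField A) _
  have := isAlgebraic_residueField (CAlg2.red A) (CAlg2.normRed A)
  infer_instance

end Groth.Hensel1
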