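import Groth.Agent.Hensel1.SmoothBranches
import Groth.Agent.Hensel1.BranchNbhd
import Groth.Agent.EtaleAlgebra.PairLocal
import Groth.Agent.EtaleAlgebra.PairNoeth
import Groth.Agent.Calg6.BranchCount
import Mathlib.RingTheory.AdicCompletion.LocalRing

/-!
# Branches of completions
-/

set_option autoImplicit false

namespace Groth.Hensel1

open IsLocalRing
open scoped TensorProduct

universe u

set_option maxHeartbeats 1000000 in
attribute [local instance] Algebra.TensorProduct.rightAlgebra in
/-- A flat local map does not decrease the number of geometric branches. -/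
theorem numGeomBranches_le_of_flat (A B : Type u) [CommRing A] [IsLocalRing A] [CommRing B]
    [IsLocalRing B] [Algebra A B] [IsLocalHom (algebraMap A B)] [Module.Flat A B] :
    Brnch.numGeomBranches A ≤ Brnch.numGeomBranches B := by
  let Ω := SeparableClosure (ResidueField A)
  have hA := isStrictHenselization_hens A Ω
  refine ENat.forall_natCast_le_iff_le.mp fun n hn => ?_
  rw [← card_minimalPrimes_strictHenselization_eq_numGeomBranches A (Hens A Ω)] at hn
  obtain ⟨i, hi⟩ := Hens.exists_le_card_minimalPrimes n hn
  refine hi.trans ?_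
  let Ω' := AlgebraicClosure (ResidueField B)
  let _ : Algebra (ResidueField A) Ω' :=
    ((algebraMap (ResidueField B) Ω').comp (algebraMap (ResidueField A) (ResidueField B))).toAlgebra
  let σ : Ω →ₐ[ResidueField A] Ω' := IsAlgClosed.lift
  let D := B ⊗[A] i.P.Ring
  let g₁ : B →ₐ[A] Ω' := IsScalarTower.toAlgHom A B Ω'
  let g₂ : i.P.Ring →ₐ[A] Ω' :=
    { σ.toRingHom.comp i.pt.toRingHom with
      commutes' := fun a => by
        show σ (i.pt (algebraMap A i.P.Ring a)) = _
        rw [AlgHom.commutes, IsScalarTower.algebraMap_apply A (ResidueField A) Ω, AlgHom.commutes,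
          IsScalarTower.algebraMap_apply A B Ω', IsScalarTower.algebraMap_apply B (ResidueField B) Ω']
        rfl }
  let Ψ : D →ₐ[A] Ω' := Algebra.TensorProduct.lift g₁ g₂ fun _ _ => Commute.all _ _
  let q' : Ideal D := RingHom.ker Ψ.toRingHom
  have : q'.IsPrime := RingHom.ker_isPrime _
  let B' := Localization.AtPrime q'
  have hq'B : q'.comap (algebraMap B D) = maximalIdeal B := by
    ext b
    show Ψ (b ⊗ₜ[A] (1 : i.P.Ring)) = 0 ↔ _
    rw [Algebra.TensorProduct.lift_tmul, map_one, mul_one]
    show algebraMap B Ω' b = 0 ↔ _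
    rw [IsScalarTower.algebraMap_apply B (ResidueField B) Ω', map_eq_zero]
    exact residue_eq_zero_iff b
  have hq'P : i.q = q'.comap (algebraMap i.P.Ring D) := by
    ext c
    show i.pt c = 0 ↔ Ψ ((1 : B) ⊗ₜ[A] c) = 0
    rw [Algebra.TensorProduct.lift_tmul, map_one, one_mul]
    show _ ↔ σ (i.pt c) = 0
    rw [map_eq_zero σ]
  have : IsLocalHom (algebraMap B B') := by
    refine ((IsLocalRing.local_hom_TFAE _).out 0 4).mpr ?_
    rw [IsScalarTower.algebraMap_eq B D B', ← Ideal.comap_comap]
    exact (congrArg (Ideal.comap (algebraMap B D))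
      (IsLocalization.AtPrime.under_maximalIdeal B' q')).trans hq'B
  have : IsLocalization.AtPrime B (maximalIdeal B) :=
    IsLocalization.self fun r hr => IsLocalRing.notMem_maximalIdeal.mp hr
  rw [← numGeomBranches_eq_of_smooth (R := B) (S := D) (A := B) (B := B') (maximalIdeal B).primeCompl
    q'.primeCompl]
  refine le_trans ?_ (card_minimalPrimes_le_numGeomBranches B')
  let f : i.Obj →+* B' := Localization.localRingHom i.q q' (algebraMap i.P.Ring D) hq'P
  let _ : Algebra i.Obj B' := f.toAlgebra
  have : IsLocalHom (algebraMap i.Obj B') := Localization.isLocalHom_localRingHom _ _ _ hq'P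
  have : IsScalarTower i.P.Ring i.Obj B' := .of_algebraMap_eq fun c => by
    show _ = f (algebraMap i.P.Ring i.Obj c)
    rw [Localization.localRingHom_to_map, ← IsScalarTower.algebraMap_apply]
  have : Module.Flat i.P.Ring D :=
    Module.Flat.of_linearEquiv (Algebra.TensorProduct.commRight A i.P.Ring B).symm.toLinearEquiv
  have : Module.Flat D B' := IsLocalization.flat B' q'.primeCompl
  have : Module.Flat i.P.Ring B' := Module.Flat.trans i.P.Ring D B'
  have : Module.Flat i.Obj B' := (Module.flat_iff_of_isLocalization i.Obj i.q.primeCompl B').mpr this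
  have : Module.FaithfullyFlat i.Obj B' := Module.FaithfullyFlat.of_flat_of_isLocalHom
  exact card_minimalPrimes_le_of_faithfullyFlat i.Obj B'

variable {A S : Type u} [CommRing A] [IsLocalRing A] [IsNoetherianRing A] [CommRing S] [IsLocalRing S]
  [Algebra A S] [IsLocalHom (algebraMap A S)] [Hensel.IsHenselization A S]

/-- The comparison map from the henselization to the completion is faithfully flat. -/
theorem faithfullyFlat_henselization_completion (ψ : S →+* AdicCompletion (maximalIdeal A) A)
    (hψ : ψ.comp (algebraMap A S) = algebraMap A (AdicCompletion (maximalIdeal A) A)) :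
    ψ.FaithfullyFlat := by
  let Ahat := AdicCompletion (maximalIdeal A) A
  have hB := Groth.EtaleAlgebra.isPairHenselization_of_isHenselization
    (inferInstance : Hensel.IsHenselization A S)
  obtain ⟨c⟩ := Groth.EtaleAlgebra.exists_completion_algEquiv hB
  have hff := Groth.EtaleAlgebra.faithfullyFlat_completion hB
  let ψ' : S →+* Ahat := c.symm.toRingEquiv.toRingHom.comp
    (algebraMap S (AdicCompletion ((maximalIdeal A).map (algebraMap A S)) S))
  have hψ' : ψ'.comp (algebraMap A S) = algebraMap A Ahat := RingHom.ext fun a => by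
    show c.symm (algebraMap S (AdicCompletion ((maximalIdeal A).map (algebraMap A S)) S) (algebraMap A S a)) = _
    rw [← IsScalarTower.algebraMap_apply A S (AdicCompletion ((maximalIdeal A).map (algebraMap A S)) S) a]
    exact c.symm.commutes a
  have hloc : IsLocalHom (algebraMap A Ahat) := by
    refine ((IsLocalRing.local_hom_TFAE _).out 0 2).mpr ?_
    rw [AdicCompletion.maximalIdeal_eq_map]
  have : IsAdicComplete (maximalIdeal Ahat) Ahat := by
    rw [AdicCompletion.maximalIdeal_eq_map]
    exact AdicCompletion.isAdicComplete_self _ (maximalIdeal A).fg_of_isNoetherianRing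
  have := Groth.Calg6.Branch.henselianLocalRing_of_isAdicComplete Ahat
  obtain ⟨g, -, hu⟩ := (inferInstance : Hensel.IsHenselization A S).universal Ahat (algebraMap A Ahat) hloc
  rw [(hu ψ hψ).trans (hu ψ' hψ').symm]
  exact RingHom.FaithfullyFlat.stableUnderComposition _ _
    (RingHom.faithfullyFlat_algebraMap_iff.mpr hff) (RingHom.FaithfullyFlat.of_bijective c.symm.bijective)

/-- The completion has at least as many branches. -/
theorem numBranches_le_completion (A : Type u) [CommRing A] [IsLocalRing A] [IsNoetherianRing A] :
    Brnch.numBranches A ≤ Brnch.numBranches (AdicCompletion (maximalIdeal A) A) := by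
  obtain ⟨T, _, _, _, _, hT⟩ := Groth.Agent.S0506.result A
  let Ahat := AdicCompletion (maximalIdeal A) A
  have hloc : IsLocalHom (algebraMap A Ahat) := by
    refine ((IsLocalRing.local_hom_TFAE _).out 0 2).mpr ?_
    rw [AdicCompletion.maximalIdeal_eq_map]
  have : IsAdicComplete (maximalIdeal Ahat) Ahat := by
    rw [AdicCompletion.maximalIdeal_eq_map]
    exact AdicCompletion.isAdicComplete_self _ (maximalIdeal A).fg_of_isNoetherianRing
  have := Groth.Calg6.Branch.henselianLocalRing_of_isAdicComplete Ahat
  obtain ⟨ψ, hψ, -⟩ := hT.universal Ahat (algebraMap A Ahat) hloc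
  let _ := ψ.toAlgebra
  have : Module.FaithfullyFlat T Ahat := faithfullyFlat_henselization_completion ψ hψ
  rw [← card_minimalPrimes_henselization_eq_numBranches A T]
  exact (card_minimalPrimes_le_of_faithfullyFlat T Ahat).trans (card_minimalPrimes_le_numBranches Ahat)

end Groth.Hensel1
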