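import Groth.Agent.Hensel1.NormalBranches
import Groth.Agent.Calg4.SmoothReduced
import Mathlib.RingTheory.Flat.Localization
import Mathlib.RingTheory.Smooth.Flat

/-!
# Branches of smooth algebras
-/

set_option autoImplicit false

namespace Groth.Hensel1

open IsLocalRing
open scoped TensorProduct

universe u

/-- A localization of a smooth algebra, tensored with a normal domain over a localization of the base,
is normal. -/
theorem isNormalRing_tensor_of_smooth_localization {R S A B : Type u} [CommRing R] [CommRing S]
    [Algebra R S] [Algebra.Smooth R S] (M : Submonoid R) [CommRing A] [Algebra R A] [IsLocalization M A]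
    (N : Submonoid S) [CommRing B] [Algebra S B] [IsLocalization N B] [Algebra R B] [IsScalarTower R S B]
    [Algebra A B] [IsScalarTower R A B]
    (C : Type u) [CommRing C] [IsDomain C] [IsIntegrallyClosed C] [Algebra A C] :
    EGA4.IsNormalRing (B ⊗[A] C) := by
  let _ : Algebra R C := ((algebraMap A C).comp (algebraMap R A)).toAlgebra
  have : IsScalarTower R A C := .of_algebraMap_eq fun _ => rfl
  have h0 := Groth.Ega4b.isNormalRing_of_smooth_domain C (C ⊗[R] S)
  let _ : Algebra (C ⊗[R] S) (C ⊗[R] B) :=
    (Algebra.TensorProduct.map (AlgHom.id R C) (IsScalarTower.toAlgHom R S B)).toAlgebra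
  have : IsScalarTower C (C ⊗[R] S) (C ⊗[R] B) :=
    .of_algebraMap_eq <| by intro; simp [RingHom.algebraMap_toAlgebra]
  have := IsLocalization.tensorProduct_tensorProduct_right R C N B
    (by ext; simp [RingHom.algebraMap_toAlgebra])
  have h1 : EGA4.IsNormalRing (C ⊗[R] B) := Groth.Ega4b.isNormalRing_of_isLocalization
    (N.map (Algebra.TensorProduct.includeRight (R := R) (A := C))) _ h0
  have := IsLocalization.tensorProduct_compatibleSMul M A C B
  exact Groth.Ega4b.isNormalRing_of_ringEquiv
    ((Algebra.TensorProduct.equivOfCompatibleSMul A R C C B).toRingEquiv.trans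
      (Algebra.TensorProduct.comm A C B).toRingEquiv) h1

variable {R S A B : Type u} [CommRing R] [CommRing S] [Algebra R S] [Algebra.Smooth R S]
  (M : Submonoid R) [CommRing A] [IsLocalRing A] [Algebra R A] [IsLocalization M A]
  (N : Submonoid S) [CommRing B] [IsLocalRing B] [Algebra S B] [IsLocalization N B]
  [Algebra R B] [IsScalarTower R S B] [Algebra A B] [IsScalarTower R A B]

omit [IsLocalRing A] [IsLocalRing B] in
include M N in
theorem flat_of_smooth_localization : Module.Flat A B := by
  have := IsLocalization.flat B N
  have : Module.Flat R B := Module.Flat.trans R S B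
  exact (Module.flat_iff_of_isLocalization A M B).mpr this

variable [IsLocalHom (algebraMap A B)]

include M N in
/-- A smooth morphism preserves the number of geometric branches. -/
theorem numGeomBranches_eq_of_smooth : Brnch.numGeomBranches B = Brnch.numGeomBranches A :=
  have := flat_of_smooth_localization (A := A) (B := B) M N
  numGeomBranches_eq_of_normal fun C _ _ _ _ => isNormalRing_tensor_of_smooth_localization M N C

include M N in
/-- A smooth morphism preserves geometric unibranchness. -/
theorem isGeomUnibranch_iff_of_smooth : CAlg2.IsGeomUnibranch B ↔ CAlg2.IsGeomUnibranch A := by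
  rw [← numGeomBranches_eq_one_iff, ← numGeomBranches_eq_one_iff, numGeomBranches_eq_of_smooth (A := A) (B := B) M N]

include M N in
/-- Over a geometrically unibranch local domain a smooth algebra has geometrically unibranch local
domains as local rings. -/
theorem isDomain_and_isGeomUnibranch_of_smooth [IsDomain A] (hA : CAlg2.IsGeomUnibranch A) :
    IsDomain B ∧ CAlg2.IsGeomUnibranch B := by
  have hB := (isGeomUnibranch_iff_of_smooth (A := A) (B := B) M N).mpr hA
  refine ⟨?_, hB⟩
  have hred : IsReduced B := by
    let _ : Algebra A (A ⊗[R] S) := Algebra.TensorProduct.leftAlgebra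
    have := Groth.Calg4.isReduced_of_smooth A (A ⊗[R] S)
    let f : A ⊗[R] S →ₐ[R] B := Algebra.TensorProduct.lift (IsScalarTower.toAlgHom R A B)
      (IsScalarTower.toAlgHom R S B) fun _ _ => Commute.all _ _
    refine ⟨fun x ⟨n, hn⟩ => ?_⟩
    obtain ⟨⟨s, t⟩, hst⟩ := IsLocalization.surj N x
    have h1 : f ((1 : A) ⊗ₜ s) = algebraMap S B s := by simp [f]
    have h2 : algebraMap S B s ^ n = 0 := by rw [← hst, mul_pow, hn, zero_mul]
    rw [← map_pow] at h2
    obtain ⟨c, hc⟩ := (IsLocalization.map_eq_zero_iff N B _).mp h2
    have h3 : (((1 : A) ⊗ₜ[R] s) * (1 ⊗ₜ (c : S))) ^ (n + 1) = 0 := by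
      rw [Algebra.TensorProduct.tmul_mul_tmul, one_mul, Algebra.TensorProduct.tmul_pow, one_pow,
        mul_pow, pow_succ (c : S), pow_succ s, show s ^ n * s * ((c : S) ^ n * c) =
          s * (c : S) ^ n * ((c : S) * s ^ n) by ring, hc, mul_zero, TensorProduct.tmul_zero]
    have h4 := congrArg f (IsReduced.eq_zero _ ⟨n + 1, h3⟩)
    rw [map_zero, map_mul, h1] at h4
    have h5 : f ((1 : A) ⊗ₜ (c : S)) = algebraMap S B c := by simp [f]
    rw [h5, (IsLocalization.map_units B c).mul_left_eq_zero, ← hst,
      (IsLocalization.map_units B t).mul_left_eq_zero] at h4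
    exact h4
  have := (Ideal.Quotient.isDomain_iff_prime _).mp hB.1.1
  rw [nilradical_eq_zero] at this
  exact IsDomain.of_bot_isPrime B

end Groth.Hensel1
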