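import Groth.Agent.Hensel1.NormalBranches
import Groth.Agent.Hensel1.SmoothBranches
import Groth.Agent.Hensel1.CompletionBranches
import Groth.Agent.Ega4Algebra2.NormalBaseChange

/-!
# Branches along normal homomorphisms
-/

set_option autoImplicit false

namespace Groth.Hensel1

open IsLocalRing
open scoped TensorProduct

universe u

/-- A local ring of a base change of a normal homomorphism, tensored with a normal domain, is normal. -/
theorem isNormalRing_tensor_of_normalHom {A A' : Type u} [CommRing A] [CommRing A'] [IsNoetherianRing A]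
    [IsNoetherianRing A'] [Algebra A A'] [Module.Flat A A']
    (hA' : ∀ (p : Ideal A) [p.IsPrime], EGA4.IsGeomNormal p.ResidueField (p.Fiber A'))
    {B : Type u} [CommRing B] [Algebra A B] (N : Submonoid (B ⊗[A] A')) (E : Type u) [CommRing E]
    [Algebra (B ⊗[A] A') E] [IsLocalization N E] [Algebra B E] [IsScalarTower B (B ⊗[A] A') E]
    (C : Type u) [CommRing C] [IsDomain C] [IsIntegrallyClosed C] [Algebra B C] :
    EGA4.IsNormalRing (E ⊗[B] C) := by
  let _ : Algebra A C := ((algebraMap B C).comp (algebraMap A B)).toAlgebra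
  have : IsScalarTower A B C := .of_algebraMap_eq fun _ => rfl
  have h0 : EGA4.IsNormalRing (C ⊗[B] (B ⊗[A] A')) := Groth.Ega4b.isNormalRing_of_ringEquiv
    (Algebra.TensorProduct.cancelBaseChange A B C C A').symm.toRingEquiv
    (Groth.Ega4b.isNormalRing_of_ringEquiv (Algebra.TensorProduct.comm A A' C).toRingEquiv
      (Groth.Ega4b.ICBC.isNormalRing_baseChange_domain A' hA' C))
  let _ : Algebra (C ⊗[B] (B ⊗[A] A')) (C ⊗[B] E) :=
    (Algebra.TensorProduct.map (AlgHom.id B C) (IsScalarTower.toAlgHom B (B ⊗[A] A') E)).toAlgebra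
  have : IsScalarTower C (C ⊗[B] (B ⊗[A] A')) (C ⊗[B] E) :=
    IsScalarTower.of_algebraMap_eq (R := C) (S := C ⊗[B] (B ⊗[A] A')) (A := C ⊗[B] E) fun c =>
      (show c ⊗ₜ[B] (1 : E) = Algebra.TensorProduct.map (AlgHom.id B C) (IsScalarTower.toAlgHom B (B ⊗[A] A') E)
        (c ⊗ₜ[B] (1 : B ⊗[A] A')) by rw [Algebra.TensorProduct.map_tmul, map_one]; rfl)
  have := IsLocalization.tensorProduct_tensorProduct_right B C N E (RingHom.ext fun x => rfl)
  exact Groth.Ega4b.isNormalRing_of_ringEquiv (Algebra.TensorProduct.comm B C E).toRingEquiv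
    (Groth.Ega4b.isNormalRing_of_isLocalization
      (N.map (Algebra.TensorProduct.includeRight (R := B) (A := C))) _ h0)

/-- Base change of a normal homomorphism preserves geometric branches. -/
theorem numGeomBranches_eq_of_normalHom {A A' : Type u} [CommRing A] [CommRing A'] [IsNoetherianRing A]
    [IsNoetherianRing A'] [Algebra A A'] (h : EGA4.IsNormalHom A A') {B : Type u} [CommRing B]
    [IsLocalRing B] [Algebra A B] (q : Ideal (B ⊗[A] A')) [q.IsPrime]
    (hq : q.comap (algebraMap B (B ⊗[A] A')) = maximalIdeal B) :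
    Brnch.numGeomBranches (Localization.AtPrime q) = Brnch.numGeomBranches B := by
  have := h.1
  have : IsLocalHom (algebraMap B (Localization.AtPrime q)) := by
    refine ((IsLocalRing.local_hom_TFAE _).out 0 4).mpr ?_
    rw [IsScalarTower.algebraMap_eq B (B ⊗[A] A') (Localization.AtPrime q), ← Ideal.comap_comap]
    exact (congrArg (Ideal.comap (algebraMap B (B ⊗[A] A')))
      (IsLocalization.AtPrime.under_maximalIdeal (Localization.AtPrime q) q)).trans hq
  have : Module.Flat (B ⊗[A] A') (Localization.AtPrime q) := IsLocalization.flat _ q.primeCompl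
  have : Module.Flat B (Localization.AtPrime q) := Module.Flat.trans B (B ⊗[A] A') _
  exact numGeomBranches_eq_of_normal fun C _ _ _ _ =>
    isNormalRing_tensor_of_normalHom h.2 q.primeCompl (Localization.AtPrime q) C

variable (A : Type u) [CommRing A] [IsLocalRing A] [IsNoetherianRing A]

set_option maxHeartbeats 1000000 in
/-- With geometrically normal formal fibres the completion has the same branches. -/
theorem branches_completion_eq (hA : EGA4.HasGeomNormalFormalFibres A) :
    Brnch.numBranches (AdicCompletion (maximalIdeal A) A) = Brnch.numBranches A ∧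
      Brnch.numGeomBranches (AdicCompletion (maximalIdeal A) A) = Brnch.numGeomBranches A := by
  let Ahat := AdicCompletion (maximalIdeal A) A
  have : IsLocalHom (algebraMap A Ahat) := by
    refine ((IsLocalRing.local_hom_TFAE _).out 0 2).mpr ?_
    rw [AdicCompletion.maximalIdeal_eq_map]
  have : IsNoetherianRing (A ⧸ maximalIdeal A) := inferInstance
  have : IsNoetherianRing Ahat :=
    Calg1.isNoetherianRing_adicCompletion (maximalIdeal A) (maximalIdeal A).fg_of_isNoetherianRing
  have : Module.Flat A Ahat := AdicCompletion.flat_of_isNoetherian (maximalIdeal A)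
  have hN : ∀ (C : Type u) [CommRing C] [IsDomain C] [IsIntegrallyClosed C] [Algebra A C],
      EGA4.IsNormalRing (Ahat ⊗[A] C) := fun C _ _ _ _ =>
    Groth.Ega4b.ICBC.isNormalRing_baseChange_domain Ahat hA C
  refine ⟨?_, numGeomBranches_eq_of_normal hN⟩
  have : IsPurelyInseparable (ResidueField A) (ResidueField Ahat) := by
    obtain ⟨q, hq⟩ := ExpChar.exists (ResidueField A)
    refine (isPurelyInseparable_iff_pow_mem _ q).mpr fun x => ⟨0, ?_⟩
    obtain ⟨x, rfl⟩ := residue_surjective x
    obtain ⟨a, ha⟩ := Ideal.Quotient.mk_surjective (AdicCompletion.evalOneₐ (maximalIdeal A) x)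
    refine ⟨residue A a, ?_⟩
    rw [pow_zero, pow_one, ← sub_eq_zero]
    show residue Ahat (algebraMap A Ahat a) - residue Ahat x = 0
    rw [← map_sub, residue_eq_zero_iff, AdicCompletion.maximalIdeal_eq_map,
      ← AdicCompletion.ker_evalOneₐ_eq_map _ (maximalIdeal A).fg_of_isNoetherianRing, RingHom.mem_ker]
    show AdicCompletion.evalOneₐ (maximalIdeal A) (algebraMap A Ahat a - x) = 0
    rw [map_sub, AlgHom.commutes, sub_eq_zero]
    exact ha
  obtain ⟨T, _, _, _, _, _⟩ := Groth.Agent.S0506.result Ahat
  rw [← card_minimalPrimes_henselization_eq_numBranches Ahat T,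
    card_minimalPrimes_henselization_eq_numBranches_of_normal hN T]

end Groth.Hensel1

namespace Groth.Hensel1

open IsLocalRing

universe u

/-- A henselian local ring is its own henselization. -/
theorem isHenselization_self (H : Type u) [CommRing H] [HenselianLocalRing H] :
    ∃ _ : IsLocalHom (algebraMap H H), Hensel.IsHenselization H H :=
  ⟨⟨fun _ h => h⟩, @Hensel.IsHenselization.mk H H _ _ _ _ _ ⟨fun _ h => h⟩ inferInstance
    fun T _ _ f _ => ⟨f, RingHom.comp_id f, fun g hg => (RingHom.comp_id g).symm.trans hg⟩⟩

/-- Branches of a henselian local ring are its minimal primes. -/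
theorem numBranches_eq_card_minimalPrimes_of_henselian (H : Type u) [CommRing H] [HenselianLocalRing H] :
    Brnch.numBranches H = ENat.card (minimalPrimes H) := by
  obtain ⟨_, _⟩ := isHenselization_self H
  exact (card_minimalPrimes_henselization_eq_numBranches H H).symm

end Groth.Hensel1
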