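import Groth.Agent.Hensel1.MinimalPrimesHens
import Mathlib.RingTheory.TensorProduct.Pi

/-!
# Minimal primes of `A' ⊗ A^h` for the normalization `A'` of `A_red`
-/

set_option autoImplicit false

namespace Groth.Hensel1

open IsLocalRing
open scoped TensorProduct nonZeroDivisors

universe u

/-- If the base change map is birational, contraction is a bijection on minimal primes. -/
theorem bijOn_minimalPrimes_includeRight {R S : Type u} [CommRing R] [CommRing S] [Algebra R S]
    [Module.Flat R S] (B : Type u) [CommRing B] [Algebra R B] (M : Submonoid R)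
    (hM : ∀ r ∈ M, algebraMap R B r ∈ B⁰) (hker : RingHom.ker (algebraMap R B) ≤ nilradical R)
    (hden : ∀ b : B, ∃ r ∈ M, ∃ a : R, r • b = algebraMap R B a) :
    Set.BijOn (fun P : Ideal (B ⊗[R] S) =>
        P.comap (Algebra.TensorProduct.includeRight.toRingHom : S →+* B ⊗[R] S))
      (minimalPrimes (B ⊗[R] S)) (minimalPrimes S) := by
  let iR : S →+* B ⊗[R] S := Algebra.TensorProduct.includeRight.toRingHom
  have hkerS : RingHom.ker iR ≤ nilradical S := by
    intro s hs
    let K := RingHom.ker (algebraMap R B)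
    let φ : R ⧸ K →ₐ[R] B := Ideal.Quotient.liftₐ K (Algebra.ofId R B) fun a ha => ha
    have hφ : Function.Injective φ := RingHom.lift_injective_of_ker_le_ideal _ _ le_rfl
    have h1 : Function.Injective (Algebra.TensorProduct.map φ (AlgHom.id R S)) :=
      Module.Flat.rTensor_preserves_injective_linearMap (M := S) φ.toLinearMap hφ
    have h2 : (1 : R ⧸ K) ⊗ₜ[R] s = 0 := h1 (by
      rw [Algebra.TensorProduct.map_tmul, map_one, map_zero]; exact hs)
    have h3 := congrArg (Algebra.TensorProduct.quotIdealMapEquivTensorQuot S K).symm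
      (congrArg (Algebra.TensorProduct.comm R (R ⧸ K) S) h2)
    rw [map_zero, map_zero, Algebra.TensorProduct.comm_tmul,
      ← Algebra.TensorProduct.quotIdealMapEquivTensorQuot_mk, AlgEquiv.symm_apply_apply,
      Ideal.Quotient.eq_zero_iff_mem] at h3
    refine (Ideal.map_le_iff_le_comap.mpr fun a ha => ?_ : K.map (algebraMap R S) ≤ nilradical S) h3
    exact mem_nilradical.mpr ((mem_nilradical.mp (hker ha)).map (algebraMap R S))
  have hden' : ∀ x : B ⊗[R] S, ∃ r ∈ M, ∃ s : S, iR s = iR (algebraMap R S r) * x := by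
    intro x
    induction x with
    | zero => exact ⟨1, M.one_mem, 0, by simp⟩
    | tmul b c =>
      obtain ⟨r, hr, a, hb⟩ := hden b
      refine ⟨r, hr, algebraMap R S a * c, ?_⟩
      show (1 : B) ⊗ₜ[R] (algebraMap R S a * c) = (1 ⊗ₜ algebraMap R S r) * (b ⊗ₜ c)
      rw [Algebra.TensorProduct.tmul_mul_tmul, one_mul, ← Algebra.smul_def, ← Algebra.smul_def,
        TensorProduct.tmul_smul, TensorProduct.tmul_smul, TensorProduct.smul_tmul',
        TensorProduct.smul_tmul', hb, Algebra.algebraMap_eq_smul_one]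
    | add x y hx hy =>
      obtain ⟨r, hr, s, hs⟩ := hx
      obtain ⟨r', hr', s', hs'⟩ := hy
      refine ⟨r * r', M.mul_mem hr hr', algebraMap R S r' * s + algebraMap R S r * s', ?_⟩
      rw [map_add, map_mul, map_mul, hs, hs', map_mul (algebraMap R S), map_mul]
      ring
  have hdisj : ∀ P ∈ minimalPrimes (B ⊗[R] S), ∀ r ∈ M, iR (algebraMap R S r) ∉ P := by
    intro P hP r hr hmem
    have : P.IsPrime := hP.1.1
    have h0 : algebraMap B (B ⊗[R] S) (algebraMap R B r) ∈ P := by
      convert hmem using 1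
      show (algebraMap R B r) ⊗ₜ[R] (1 : S) = (1 : B) ⊗ₜ[R] algebraMap R S r
      rw [Algebra.algebraMap_eq_smul_one, Algebra.algebraMap_eq_smul_one, TensorProduct.smul_tmul]
    obtain ⟨p, hp, hple⟩ := Ideal.exists_minimalPrimes_le (I := (⊥ : Ideal B)) (J := P.under B) bot_le
    have : p.IsPrime := hp.1.1
    have hlo : P.LiesOver (P.under B) := ⟨rfl⟩
    obtain ⟨Q, hQle, hQp, hQo⟩ := Ideal.exists_ideal_le_liesOver_of_le (p := p) (q := P.under B) P hple
    have hQP : Q = P := le_antisymm hQle (hP.2 ⟨hQp, bot_le⟩ hQle)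
    have hpP : algebraMap R B r ∈ p := by rw [hQo.over, hQP]; exact h0
    exact Set.disjoint_left.mp (Ideal.disjoint_nonZeroDivisors_of_mem_minimalPrimes hp) hpP (hM r hr)
  have hle : ∀ P Q : Ideal (B ⊗[R] S), P.IsPrime → (∀ r ∈ M, iR (algebraMap R S r) ∉ P) →
      Q.comap iR ≤ P.comap iR → Q ≤ P := by
    intro P Q hP hPd hle x hx
    obtain ⟨r, hr, s, hs⟩ := hden' x
    have h1 : iR s ∈ P := hle (show iR s ∈ Q by rw [hs]; exact Q.mul_mem_left _ hx)
    rw [hs] at h1
    exact (hP.mem_or_mem h1).resolve_left (hPd r hr)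
  have hsurj : ∀ q ∈ minimalPrimes S, ∃ P ∈ minimalPrimes (B ⊗[R] S), P.comap iR = q := by
    intro q hq
    obtain ⟨P', hP', -, hP'q⟩ := Ideal.exists_comap_eq_of_mem_minimalPrimes (I := (⊥ : Ideal (B ⊗[R] S))) iR q
      ⟨⟨hq.1.1, hkerS.trans (@nilradical_le_prime _ _ q hq.1.1)⟩, fun J hJ hJq => hq.2 ⟨hJ.1, bot_le⟩ hJq⟩
    obtain ⟨P, hP, hPP'⟩ := Ideal.exists_minimalPrimes_le (I := (⊥ : Ideal (B ⊗[R] S))) (J := P') bot_le
    have : P.IsPrime := hP.1.1
    exact ⟨P, hP, le_antisymm ((Ideal.comap_mono hPP').trans hP'q.le)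
      (hq.2 ⟨Ideal.IsPrime.comap _, bot_le⟩ ((Ideal.comap_mono hPP').trans hP'q.le))⟩
  refine ⟨fun P hP => ?_, fun P hP Q hQ h => ?_, fun q hq => ?_⟩
  · have : P.IsPrime := hP.1.1
    obtain ⟨q, hq, hqP⟩ := Ideal.exists_minimalPrimes_le (I := (⊥ : Ideal S)) (J := P.comap iR) bot_le
    obtain ⟨Q, hQ, rfl⟩ := hsurj q hq
    have h := hle P Q inferInstance (hdisj P hP) hqP
    show P.comap iR ∈ minimalPrimes S
    rwa [← le_antisymm h (hP.2 ⟨hQ.1.1, bot_le⟩ h)]
  · exact le_antisymm (hle Q P hQ.1.1 (hdisj Q hQ) (le_of_eq h))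
      (hle P Q hP.1.1 (hdisj P hP) (le_of_eq h.symm))
  · obtain ⟨P, hP, hPq⟩ := hsurj q hq
    exact ⟨P, hP, hPq⟩

theorem LocallyDomain.of_ringEquiv {T U : Type u} [CommRing T] [CommRing U] (h : LocallyDomain T)
    (e : T ≃+* U) : LocallyDomain U := by
  intro n hn x y t ht h0
  obtain ⟨s, hs, hs'⟩ := h (n.comap e) (hn.comap _) (e.symm x) (e.symm y) (e.symm t)
    (fun hm => ht (by simpa using (show e (e.symm t) ∈ n from hm))) (by rw [← map_mul, ← map_mul, h0, map_zero])
  refine ⟨e s, hs, hs'.imp (fun h' => ?_) (fun h' => ?_)⟩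
  · simpa using congrArg e h'
  · simpa using congrArg e h'

theorem LocallyDomain.pi {ι : Type u} [Finite ι] {T : ι → Type u} [∀ i, CommRing (T i)]
    (h : ∀ i, LocallyDomain (T i)) : LocallyDomain (Π i, T i) := by
  classical
  intro n hn x y t ht h0
  obtain ⟨⟨i, P⟩, hP⟩ := (PrimeSpectrum.sigmaToPi_bijective T).2 ⟨n, hn⟩
  have hP' : P.asIdeal.comap (Pi.evalRingHom T i) = n := congrArg PrimeSpectrum.asIdeal hP
  subst hP'
  obtain ⟨s, hs, hs'⟩ := h i P.asIdeal P.isPrime (x i) (y i) (t i) ht (congrFun h0 i)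
  refine ⟨Pi.single i s, by simpa using hs, hs'.imp (fun h' => ?_) (fun h' => ?_)⟩ <;>
  · funext j
    by_cases hj : j = i
    · subst hj; simpa using h'
    · simp [Pi.single_eq_of_ne hj]

variable {A : Type u} [CommRing A]

/-- `A' ⊗ S` is locally a domain, for `A'` the normalization of `A_red`. -/
theorem HensModel.locallyDomain_normRed [IsLocalRing A] {S : Type u} [CommRing S] [IsLocalRing S]
    [Algebra A S] [IsLocalHom (algebraMap A S)] (M : HensModel A S) (hfin : (minimalPrimes A).Finite) :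
    LocallyDomain (CAlg2.normRed A ⊗[A] S) := by
  classical
  have := hfin.to_subtype
  have := Fintype.ofFinite (minimalPrimes A)
  have h1 : ∀ P : minimalPrimes A, LocallyDomain (S ⊗[A] normQuot A P) := fun P => by
    have := isIntegrallyClosed_normalization (A ⧸ P.1)
    exact (M.locallyDomain_tensor (normQuot A P)).of_ringEquiv
      (Algebra.TensorProduct.comm A _ S).toRingEquiv
  let e : S ⊗[A] CAlg2.normRed A ≃+* Π P, S ⊗[A] normQuot A P :=
    (Algebra.TensorProduct.congr (AlgEquiv.refl : S ≃ₐ[A] S) (normRedEquivPi A hfin)).toRingEquiv.trans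
      (Algebra.TensorProduct.piRight A A S (fun P => normQuot A P)).toRingEquiv
  exact ((LocallyDomain.pi h1).of_ringEquiv e.symm).of_ringEquiv
    (Algebra.TensorProduct.comm A S _).toRingEquiv

theorem bijOn_minimalPrimes_normRed [IsLocalRing A] {S : Type u} [CommRing S] [Algebra A S]
    [Module.Flat A S] :
    Set.BijOn (fun P : Ideal (CAlg2.normRed A ⊗[A] S) =>
        P.comap (Algebra.TensorProduct.includeRight.toRingHom : S →+* CAlg2.normRed A ⊗[A] S))
      (minimalPrimes (CAlg2.normRed A ⊗[A] S)) (minimalPrimes S) := by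
  let M : Submonoid A := (CAlg2.red A)⁰.comap (Ideal.Quotient.mk (nilradical A))
  refine bijOn_minimalPrimes_includeRight (CAlg2.normRed A) M (fun r hr => ?_) (fun a ha => ?_) fun b => ?_
  · rw [mem_nonZeroDivisors_iff_right]
    intro z hz
    refine Subtype.ext ?_
    have hu : IsUnit (algebraMap (CAlg2.red A) (FractionRing (CAlg2.red A)) (Ideal.Quotient.mk _ r)) :=
      IsLocalization.map_units _ (⟨_, hr⟩ : (CAlg2.red A)⁰)
    exact hu.mul_left_eq_zero.mp (congrArg Subtype.val hz :)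
  · have h : algebraMap (CAlg2.red A) (FractionRing (CAlg2.red A)) (Ideal.Quotient.mk (nilradical A) a) = 0 :=
      congrArg Subtype.val ha
    exact Ideal.Quotient.eq_zero_iff_mem.mp
      (IsFractionRing.injective (CAlg2.red A) (FractionRing (CAlg2.red A)) (h.trans (map_zero _).symm))
  · obtain ⟨⟨a, r⟩, h⟩ := IsLocalization.surj (CAlg2.red A)⁰ b.1
    obtain ⟨a', ha'⟩ := Ideal.Quotient.mk_surjective a
    obtain ⟨r', hr'⟩ := Ideal.Quotient.mk_surjective r.1
    refine ⟨r', show Ideal.Quotient.mk _ r' ∈ (CAlg2.red A)⁰ from hr' ▸ r.2, a', Subtype.ext ?_⟩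
    show r' • b.1 = algebraMap (CAlg2.red A) (FractionRing (CAlg2.red A)) (Ideal.Quotient.mk _ a')
    rw [ha', ← h, Algebra.smul_def, mul_comm, IsScalarTower.algebraMap_apply A (CAlg2.red A),
      Ideal.Quotient.algebraMap_eq, hr']

/-- Minimal and maximal primes correspond, for an integral locally-domain algebra over a henselian
local ring. -/
theorem LocallyDomain.minimal_maximal_unique {T : Type u} [CommRing T] (hT : LocallyDomain T)
    (H : Type u) [CommRing H] [HenselianLocalRing H] [Algebra H T] [Algebra.IsIntegral H T] :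
    (∀ q ∈ minimalPrimes T, ∃! m : Ideal T, m.IsMaximal ∧ q ≤ m) ∧
      (∀ m : Ideal T, m.IsMaximal → ∃! q : Ideal T, q ∈ minimalPrimes T ∧ q ≤ m) := by
  refine ⟨fun q hq => ?_, fun m hm => ?_⟩
  · have : q.IsPrime := hq.1.1
    have := isLocalRing_of_isIntegral_of_isDomain H (T ⧸ q)
    obtain ⟨m, hm, hle⟩ := Ideal.exists_le_maximal q hq.1.1.ne_top
    have key : ∀ n : Ideal T, n.IsMaximal → q ≤ n →
        n = (maximalIdeal (T ⧸ q)).comap (Ideal.Quotient.mk q) := by
      intro n hn hqn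
      have h1 : n = (n.map (Ideal.Quotient.mk q)).comap (Ideal.Quotient.mk q) := by
        rw [Ideal.comap_map_of_surjective' _ Ideal.Quotient.mk_surjective, Ideal.mk_ker,
          sup_eq_left.mpr hqn]
      have h2 : (n.map (Ideal.Quotient.mk q)).IsMaximal :=
        (Ideal.map_eq_top_or_isMaximal_of_surjective _ Ideal.Quotient.mk_surjective hn).resolve_left
          fun htop => hn.ne_top (by rw [h1, htop, Ideal.comap_top])
      rwa [IsLocalRing.eq_maximalIdeal h2] at h1
    exact ⟨m, ⟨hm, hle⟩, fun n ⟨hn, hqn⟩ => (key n hn hqn).trans (key m hm hle).symm⟩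
  · obtain ⟨q, hq, hle⟩ := Ideal.exists_minimalPrimes_le
      (I := (⊥ : Ideal T)) (J := m) bot_le
    exact ⟨q, ⟨hq, hle⟩, fun q' ⟨hq', hle'⟩ => hT.minimal_unique hm.isPrime hq' hq hle' hle⟩

/-- Minimal and maximal primes of `A' ⊗ S` correspond. -/
theorem minimal_maximal_unique_normRed [IsLocalRing A] {S : Type u} [CommRing S] [IsLocalRing S]
    [HenselianLocalRing S] [Algebra A S] [IsLocalHom (algebraMap A S)] (M : HensModel A S)
    (hfin : (minimalPrimes A).Finite) :
    (∀ q ∈ minimalPrimes (CAlg2.normRed A ⊗[A] S),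
        ∃! m : Ideal (CAlg2.normRed A ⊗[A] S), m.IsMaximal ∧ q ≤ m) ∧
      (∀ m : Ideal (CAlg2.normRed A ⊗[A] S), m.IsMaximal →
        ∃! q : Ideal (CAlg2.normRed A ⊗[A] S), q ∈ minimalPrimes (CAlg2.normRed A ⊗[A] S) ∧ q ≤ m) := by
  let _ : Algebra S (CAlg2.normRed A ⊗[A] S) := Algebra.TensorProduct.rightAlgebra
  have : Algebra.IsIntegral A (CAlg2.normRed A) := Algebra.IsIntegral.trans (CAlg2.red A)
  have : Algebra.IsIntegral S (CAlg2.normRed A ⊗[A] S) :=
    Algebra.IsIntegral.of_surjective (Algebra.TensorProduct.commRight A S (CAlg2.normRed A)).toAlgHom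
      (Algebra.TensorProduct.commRight A S (CAlg2.normRed A)).surjective
  exact (M.locallyDomain_normRed hfin).minimal_maximal_unique S

end Groth.Hensel1
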