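import Groth.Agent.Hensel1.BranchNbhd
import Groth.Agent.Flatmor4.EtaleFibreLift
import Groth.Agent.FlatMor2.FibCrit.Fibrewise

/-!
# Branches of fibres and étale neighbourhoods of the total space
-/

set_option autoImplicit false

open CategoryTheory Limits AlgebraicGeometry TopologicalSpace

namespace Groth.Hensel1

universe u

variable {X S : Scheme.{u}} (f : X ⟶ S) (x : X)

theorem components_fiber_eq {U : Scheme.{u}} (g : U ⟶ X) (u : U)
    (u' : ↑((g ≫ f).fiber (f x))) (hu' : (g ≫ f).fiberι (f x) u' = u) :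
    {Z : Set ↑((g ≫ f).fiber (f x)) | Z ∈ irreducibleComponents ↑((g ≫ f).fiber (f x)) ∧
      ∃ w ∈ Z, (g ≫ f).fiberι (f x) w = u} =
    {Z : Set ↑((g ≫ f).fiber (f x)) | Z ∈ irreducibleComponents ↑((g ≫ f).fiber (f x)) ∧ u' ∈ Z} := by
  ext Z
  refine ⟨fun ⟨hZ, w, hw, hwu⟩ => ⟨hZ, ?_⟩, fun ⟨hZ, h⟩ => ⟨hZ, u', h, hu'⟩⟩
  rwa [← ((g ≫ f).fiberι (f x)).isEmbedding.injective (hwu.trans hu'.symm)]

theorem exists_fiber_point {U : Scheme.{u}} (g : U ⟶ X) (u : U) (hu : g u = x) :
    ∃ u' : ↑((g ≫ f).fiber (f x)), (g ≫ f).fiberι (f x) u' = u ∧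
      MoreMor.fiberMap g f (f x) u' = f.asFiber x := by
  obtain ⟨u', hu'⟩ : u ∈ Set.range ((g ≫ f).fiberι (f x)) := by
    rw [Scheme.Hom.range_fiberι]
    show f (g u) = f x
    rw [hu]
  refine ⟨u', hu', (f.fiberι (f x)).isEmbedding.injective ?_⟩
  rw [Scheme.Hom.fiberι_asFiber]
  show (MoreMor.fiberMap g f (f x) ≫ f.fiberι (f x)) u' = x
  rw [← (Groth.FlatMor2.FibCrit.isPullback_fiberMap g f (f x)).w]
  show g ((g ≫ f).fiberι (f x) u') = x
  rw [hu', hu]

theorem etale_fiberMap' {U : Scheme.{u}} (g : U ⟶ X) [Etale g] :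
    Etale (MoreMor.fiberMap g f (f x)) :=
  MorphismProperty.of_isPullback (Groth.FlatMor2.FibCrit.isPullback_fiberMap g f (f x)) inferInstance

theorem residueFieldMap_comp_coe {A B C : Scheme.{u}} (a : A ⟶ B) (b : B ⟶ C) (z : A) :
    ⇑((a ≫ b).residueFieldMap z).hom = ⇑(a.residueFieldMap z).hom ∘ ⇑(b.residueFieldMap (a z)).hom := by
  funext w
  rw [Scheme.residueFieldMap_comp]
  rfl

theorem residueFieldMap_fiberMap_bijective_iff {U : Scheme.{u}} (g : U ⟶ X)
    (u' : ↑((g ≫ f).fiber (f x))) :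
    Function.Bijective ((MoreMor.fiberMap g f (f x)).residueFieldMap u') ↔
      Function.Bijective (g.residueFieldMap ((g ≫ f).fiberι (f x) u')) := by
  have : IsIso (((g ≫ f).fiberι (f x)).residueFieldMap u') :=
    Groth.FlatMor2.isIso_residueFieldMap_of_surjectiveOnStalks _ _
  have : IsIso ((f.fiberι (f x)).residueFieldMap (MoreMor.fiberMap g f (f x) u')) :=
    Groth.FlatMor2.isIso_residueFieldMap_of_surjectiveOnStalks _ _
  have hι := ConcreteCategory.bijective_of_isIso (((g ≫ f).fiberι (f x)).residueFieldMap u')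
  have hf := ConcreteCategory.bijective_of_isIso
    ((f.fiberι (f x)).residueFieldMap (MoreMor.fiberMap g f (f x) u'))
  have key : ∀ (a : (g ≫ f).fiber (f x) ⟶ X), a = (g ≫ f).fiberι (f x) ≫ g →
      (Function.Bijective (a.residueFieldMap u') ↔
        Function.Bijective (g.residueFieldMap ((g ≫ f).fiberι (f x) u'))) := by
    intro a ha
    subst ha
    show Function.Bijective ⇑(((g ≫ f).fiberι (f x) ≫ g).residueFieldMap u').hom ↔ _
    rw [residueFieldMap_comp_coe]
    exact Function.Bijective.of_comp_iff' hι _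
  rw [← key _ (Groth.FlatMor2.FibCrit.isPullback_fiberMap g f (f x)).w.symm]
  show _ ↔ Function.Bijective ⇑((MoreMor.fiberMap g f (f x) ≫ f.fiberι (f x)).residueFieldMap u').hom
  rw [residueFieldMap_comp_coe]
  exact (Function.Bijective.of_comp_iff _ hf).symm

theorem encard_components_eq_of_isOpenImmersion {A B : Scheme.{u}} (m : A ⟶ B) [IsOpenImmersion m] (a : A) :
    {Z : Set ↑B | Z ∈ irreducibleComponents ↑B ∧ m a ∈ Z}.encard =
      {Z : Set ↑A | Z ∈ irreducibleComponents ↑A ∧ a ∈ Z}.encard := by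
  rw [encard_components_eq_card_minimalPrimes, encard_components_eq_card_minimalPrimes]
  exact card_minimalPrimes_congr (asIso (m.stalkMap a)).commRingCatIsoToRingEquiv

theorem numGeomBranchesAt_fibre_eq_iSup :
    Brnch.numGeomBranchesAt (f.fiber (f x)) (f.asFiber x) =
      ⨆ (U : Scheme.{u}) (g : U ⟶ X) (u : U) (_ : Etale g ∧ g u = x),
      {Z : Set ↑((g ≫ f).fiber (f x)) | Z ∈ irreducibleComponents ↑((g ≫ f).fiber (f x)) ∧
        ∃ u' ∈ Z, (g ≫ f).fiberι (f x) u' = u}.encard := by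
  rw [numGeomBranchesAt_eq_iSup]
  refine le_antisymm (iSup_le fun V => iSup_le fun g => iSup_le fun v => iSup_le fun h => ?_)
    (iSup_le fun U => iSup_le fun g => iSup_le fun u => iSup_le fun h => ?_)
  · have := h.1
    obtain ⟨U, p, u, m, u', hp, hpu, hm, hmg, hι, hmv⟩ :=
      Groth.Flatmor4.exists_etale_lift_fibre_nbhd f x g v h.2
    refine le_iSup_of_le U (le_iSup_of_le p (le_iSup_of_le u (le_iSup_of_le ⟨hp, hpu⟩ ?_)))
    rw [components_fiber_eq f x p u u' hι, ← hmv, encard_components_eq_of_isOpenImmersion]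
  · have := h.1
    obtain ⟨u', hu', hu''⟩ := exists_fiber_point f x g u h.2
    rw [components_fiber_eq f x g u u' hu']
    exact le_iSup_of_le _ (le_iSup_of_le (MoreMor.fiberMap g f (f x))
      (le_iSup_of_le u' (le_iSup_of_le ⟨etale_fiberMap' f x g, hu''⟩ le_rfl)))

theorem numBranchesAt_fibre_eq_iSup :
    Brnch.numBranchesAt (f.fiber (f x)) (f.asFiber x) =
      ⨆ (U : Scheme.{u}) (g : U ⟶ X) (u : U) (_ : Hens2.IsEtaleNbhd g u x),
      {Z : Set ↑((g ≫ f).fiber (f x)) | Z ∈ irreducibleComponents ↑((g ≫ f).fiber (f x)) ∧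
        ∃ u' ∈ Z, (g ≫ f).fiberι (f x) u' = u}.encard := by
  rw [numBranchesAt_eq_iSup]
  refine le_antisymm (iSup_le fun V => iSup_le fun g => iSup_le fun v => iSup_le fun h => ?_)
    (iSup_le fun U => iSup_le fun g => iSup_le fun u => iSup_le fun h => ?_)
  · have := h.etale
    obtain ⟨U, p, u, m, u', hp, hpu, hm, hmg, hι, hmv⟩ :=
      Groth.Flatmor4.exists_etale_lift_fibre_nbhd f x g v h.base_eq
    have hres : Function.Bijective (p.residueFieldMap u) := by
      rw [← hι]
      refine (residueFieldMap_fiberMap_bijective_iff f x p u').mp ?_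
      have key : ∀ a, a = m ≫ g → Function.Bijective (Scheme.Hom.residueFieldMap a u') := by
        intro a ha
        subst ha
        show Function.Bijective ⇑((m ≫ g).residueFieldMap u').hom
        rw [residueFieldMap_comp_coe]
        have h1 : Function.Bijective (g.residueFieldMap (m u')) := by rw [hmv]; exact h.residue_bijective
        have : IsIso (m.residueFieldMap u') :=
          Groth.FlatMor2.isIso_residueFieldMap_of_surjectiveOnStalks _ _
        exact (ConcreteCategory.bijective_of_isIso (m.residueFieldMap u')).comp h1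
      exact key _ hmg.symm
    refine le_iSup_of_le U (le_iSup_of_le p (le_iSup_of_le u (le_iSup_of_le ⟨hp, hpu, hres⟩ ?_)))
    rw [components_fiber_eq f x p u u' hι, ← hmv, encard_components_eq_of_isOpenImmersion]
  · have := h.etale
    obtain ⟨u', hu', hu''⟩ := exists_fiber_point f x g u h.base_eq
    rw [components_fiber_eq f x g u u' hu']
    exact le_iSup_of_le _ (le_iSup_of_le (MoreMor.fiberMap g f (f x))
      (le_iSup_of_le u' (le_iSup_of_le ⟨etale_fiberMap' f x g, hu'',
        (residueFieldMap_fiberMap_bijective_iff f x g u').mpr (hu' ▸ h.residue_bijective)⟩ le_rfl)))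

end Groth.Hensel1
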