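import Groth.Agent.Reductive.HomScheme.Global
import Groth.Agent.FlatmorThree.FormalLift
import Mathlib.AlgebraicGeometry.Morphisms.Etale

/-!
# The scheme of open and closed subsets of a finite locally free scheme
-/

set_option autoImplicit false
universe u

open CategoryTheory MonoidalCategory CartesianMonoidalCategory AlgebraicGeometry

noncomputable section

namespace Groth.Hensel1

variable {S : Scheme.{u}}

/-- The object representing open and closed subsets. -/
abbrev twoPoints (S : Scheme.{u}) : Over S := Over.mk (Limits.coprod.desc (𝟙 S) (𝟙 S))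

theorem lfp_twoPoints (S : Scheme.{u}) : LocallyOfFinitePresentation (twoPoints S).hom := by
  refine (IsZariskiLocalAtSource.iff_of_openCover (P := @LocallyOfFinitePresentation)
    (coprodOpenCover.{u, u} S S)).mpr ?_
  rintro (_ | _)
  · show LocallyOfFinitePresentation ((Limits.coprod.inl : S ⟶ S ⨿ S) ≫ Limits.coprod.desc (𝟙 S) (𝟙 S))
    rw [Limits.coprod.inl_desc]; infer_instance
  · show LocallyOfFinitePresentation ((Limits.coprod.inr : S ⟶ S ⨿ S) ≫ Limits.coprod.desc (𝟙 S) (𝟙 S))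
    rw [Limits.coprod.inr_desc]; infer_instance

theorem existsUnique_hom_twoPoints {Z : Over S} (U : Set Z.left) (hU : IsClopen U) :
    ∃! φ : Z ⟶ twoPoints S,
      φ.left ⁻¹' Set.range (Limits.coprod.inl : S ⟶ S ⨿ S) = U := by
  let A : Z.left.Opens := ⟨U, hU.2⟩
  let B : Z.left.Opens := ⟨Uᶜ, hU.1.isOpen_compl⟩
  have hAB : IsCompl A.ι.opensRange B.ι.opensRange := by
    rw [Scheme.Opens.opensRange_ι, Scheme.Opens.opensRange_ι]
    refine ⟨?_, ?_⟩
    · rw [disjoint_iff]; ext x; simp [A, B]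
    · rw [codisjoint_iff]; ext x; simp [A, B]
  obtain ⟨hc⟩ := nonempty_isColimit_binaryCofanMk_of_isCompl A.ι B.ι hAB
  obtain ⟨φ, hφA, hφB⟩ : ∃ φ : Z.left ⟶ S ⨿ S,
      A.ι ≫ φ = A.ι ≫ Z.hom ≫ (Limits.coprod.inl : S ⟶ S ⨿ S) ∧
      B.ι ≫ φ = B.ι ≫ Z.hom ≫ (Limits.coprod.inr : S ⟶ S ⨿ S) := by
    obtain ⟨φ, h1, h2⟩ := Limits.BinaryCofan.IsColimit.desc' hc
      (A.ι ≫ Z.hom ≫ (Limits.coprod.inl : S ⟶ S ⨿ S)) (B.ι ≫ Z.hom ≫ (Limits.coprod.inr : S ⟶ S ⨿ S))
    exact ⟨φ, h1, h2⟩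
  have hw : φ ≫ Limits.coprod.desc (𝟙 S) (𝟙 S) = Z.hom := by
    apply Limits.BinaryCofan.IsColimit.hom_ext hc
    · show A.ι ≫ _ = A.ι ≫ _
      rw [reassoc_of% hφA, Limits.coprod.inl_desc, Category.comp_id]
    · show B.ι ≫ _ = B.ι ≫ _
      rw [reassoc_of% hφB, Limits.coprod.inr_desc, Category.comp_id]
  have hpre : φ ⁻¹' Set.range (Limits.coprod.inl : S ⟶ S ⨿ S) = U := by
    ext x
    by_cases hx : x ∈ U
    · refine iff_of_true ⟨Z.hom x, ?_⟩ hx
      have := congrArg (fun m : A.toScheme ⟶ S ⨿ S => m ⟨x, hx⟩) hφA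
      exact this.symm
    · refine iff_of_false (fun ⟨y, hy⟩ => ?_) hx
      have := congrArg (fun m : B.toScheme ⟶ S ⨿ S => m ⟨x, hx⟩) hφB
      exact Set.disjoint_iff_forall_ne.mp (isCompl_range_inl_inr S S).disjoint
        ⟨y, rfl⟩ ⟨Z.hom x, rfl⟩ (hy.trans this)
  refine ⟨Over.homMk φ hw, hpre, fun ψ hψ => Over.OverMorphism.ext ?_⟩
  have hmem : ∀ x, ψ.left x ∈ Set.range (Limits.coprod.inl : S ⟶ S ⨿ S) ↔ x ∈ U := fun x =>
    Set.ext_iff.mp hψ x
  apply Limits.BinaryCofan.IsColimit.hom_ext hc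
  · show A.ι ≫ ψ.left = A.ι ≫ φ
    have hr : Set.range (A.ι ≫ ψ.left) ⊆ Set.range (Limits.coprod.inl : S ⟶ S ⨿ S) := by
      rintro _ ⟨x, rfl⟩; exact (hmem _).mpr x.2
    have hl := IsOpenImmersion.lift_fac (Limits.coprod.inl : S ⟶ S ⨿ S) (A.ι ≫ ψ.left) hr
    have h' := congrArg (· ≫ Limits.coprod.desc (𝟙 S) (𝟙 S)) hl
    simp only [Category.assoc, Limits.coprod.inl_desc, Category.comp_id] at h'
    rw [hφA, ← hl, h']
    exact congrArg (fun m => (A.ι ≫ m) ≫ Limits.coprod.inl) (Over.w ψ) |>.trans (Category.assoc _ _ _)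
  · show B.ι ≫ ψ.left = B.ι ≫ φ
    have hr : Set.range (B.ι ≫ ψ.left) ⊆ Set.range (Limits.coprod.inr : S ⟶ S ⨿ S) := by
      rintro _ ⟨x, rfl⟩
      have hx : ψ.left x.1 ∉ Set.range (Limits.coprod.inl : S ⟶ S ⨿ S) := fun h => x.2 ((hmem _).mp h)
      have hc' := (isCompl_range_inl_inr S S).codisjoint
      rw [codisjoint_iff] at hc'
      exact (hc'.ge (Set.mem_univ (ψ.left x.1))).resolve_left hx
    have hl := IsOpenImmersion.lift_fac (Limits.coprod.inr : S ⟶ S ⨿ S) (B.ι ≫ ψ.left) hr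
    have h' := congrArg (· ≫ Limits.coprod.desc (𝟙 S) (𝟙 S)) hl
    simp only [Category.assoc, Limits.coprod.inr_desc, Category.comp_id] at h'
    rw [hφB, ← hl, h']
    exact congrArg (fun m => (B.ι ≫ m) ≫ Limits.coprod.inr) (Over.w ψ) |>.trans (Category.assoc _ _ _)

theorem isPullback_whiskerLeft (X : Over S) {T T' : Over S} (w : T ⟶ T') :
    IsPullback (X ◁ w).left (snd X T).left (snd X T').left w.left := by
  refine IsPullback.of_right ?_ ?_ (IsPullback.of_hasPullback X.hom T'.hom)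
  · rw [Over.whiskerLeft_left_fst, Over.w]
    exact IsPullback.of_hasPullback X.hom T.hom
  · exact Over.whiskerLeft_left_snd w

/-- Open and closed subsets of a finite locally free scheme are represented by an étale affine scheme. -/
theorem exists_clopenScheme (X : Over S) [IsFinite X.hom] [Flat X.hom]
    [LocallyOfFinitePresentation X.hom] :
    ∃ (M : Over S) (C : ∀ T : Over S, (T ⟶ M) → Set (X ⊗ T).left),
      IsAffineHom M.hom ∧ Etale M.hom ∧
      (∀ T v, IsClopen (C T v)) ∧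
      (∀ T (U : Set (X ⊗ T).left), IsClopen U → ∃! v, C T v = U) ∧
      (∀ (T T' : Over S) (w : T ⟶ T') v, C T (w ≫ v) = (X ◁ w).left ⁻¹' C T' v) := by
  have := lfp_twoPoints S
  have : IsAffineHom (twoPoints S).hom :=
    inferInstanceAs (IsAffineHom (Limits.coprod.desc (𝟙 S) (𝟙 S)))
  obtain ⟨M, ev, hMaff, hrep, -, hlfp⟩ := Groth.Reductive.HomScheme.exists_homScheme X (twoPoints S)
  have := hlfp inferInstance
  let C : ∀ T : Over S, (T ⟶ M) → Set (X ⊗ T).left := fun T v =>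
    ((X ◁ v) ≫ ev).left ⁻¹' Set.range (Limits.coprod.inl : S ⟶ S ⨿ S)
  have hclopen : IsClopen (Set.range (Limits.coprod.inl : S ⟶ S ⨿ S)) := by
    refine ⟨?_, (Limits.coprod.inl : S ⟶ S ⨿ S).isOpenEmbedding.isOpen_range⟩
    rw [← isOpen_compl_iff, (isCompl_range_inl_inr S S).compl_eq]
    exact (Limits.coprod.inr : S ⟶ S ⨿ S).isOpenEmbedding.isOpen_range
  have hC : ∀ T (U : Set (X ⊗ T).left), IsClopen U → ∃! v, C T v = U := by
    intro T U hU
    obtain ⟨φ, hφ, hφu⟩ := existsUnique_hom_twoPoints U hU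
    obtain ⟨v, hv, hvu⟩ := hrep T φ
    exact ⟨v, by show _ = U; simp only [C]; rw [hv]; exact hφ, fun v' hv' => hvu v' (hφu _ hv')⟩
  have hnat : ∀ (T T' : Over S) (w : T ⟶ T') v, C T (w ≫ v) = (X ◁ w).left ⁻¹' C T' v := by
    intro T T' w v
    show ((X ◁ (w ≫ v)) ≫ ev).left ⁻¹' _ = _
    rw [whiskerLeft_comp, Category.assoc, Over.comp_left]
    rfl
  have hcl : ∀ T v, IsClopen (C T v) := fun T v => hclopen.preimage (Scheme.Hom.continuous _)
  refine ⟨M, C, hMaff, ?_, hcl, hC, hnat⟩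
  have hfe : MoreMor.IsFormallyEtaleHom M.hom := by
    intro A _ I hI a b hab
    let t := Spec.map (CommRingCat.ofHom (Ideal.Quotient.mk I))
    obtain ⟨⟨htc, hts⟩, -⟩ := Groth.FlatmorThree.FormalLift.isFirstOrderThickening_specMap_mk I hI
    let T' : Over S := Over.mk b
    let T : Over S := Over.mk (t ≫ b)
    let w : T ⟶ T' := Over.homMk t rfl
    have hpb := (isPullback_whiskerLeft X w).flip
    have : IsClosedImmersion (X ◁ w).left :=
      MorphismProperty.of_isPullback (P := @IsClosedImmersion) hpb htc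
    have : Surjective (X ◁ w).left :=
      MorphismProperty.of_isPullback (P := @Surjective) hpb hts
    let a' : T ⟶ M := Over.homMk a hab.symm
    have hsurj : Function.Surjective (X ◁ w).left := (X ◁ w).left.surjective
    have himg : IsClopen ((X ◁ w).left '' C T a') := by
      refine ⟨(X ◁ w).left.isClosedEmbedding.isClosedMap _ (hcl T a').1, ?_⟩
      rw [← isClosed_compl_iff, ← Set.image_compl_eq
        ⟨(X ◁ w).left.isClosedEmbedding.injective, hsurj⟩]
      exact (X ◁ w).left.isClosedEmbedding.isClosedMap _ (hcl T a').compl.1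
    obtain ⟨v, hv, hvu⟩ := hC T' _ himg
    refine ⟨v.left, ⟨?_, Over.w v⟩, ?_⟩
    · have h : w ≫ v = a' := by
        refine (hC T _ (hcl T a')).unique ?_ rfl
        rw [hnat, hv, Set.preimage_image_eq _ (X ◁ w).left.isClosedEmbedding.injective]
      exact congrArg (fun m => m.left) h
    · rintro l ⟨hl, hlb⟩
      let l' : T' ⟶ M := Over.homMk l hlb
      have h : w ≫ l' = a' := Over.OverMorphism.ext hl
      refine congrArg (fun m => m.left) (hvu l' ?_)
      rw [← h, hnat, Set.image_preimage_eq _ hsurj]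
  refine ⟨fun {U} hU {V} hV e => ?_⟩
  have h₁ := Groth.FlatmorThree.FormalLift.formallyEtale_appLE hfe hV hU e
  have h₂ := LocallyOfFinitePresentation.finitePresentation_appLE M.hom hU hV e
  algebraize [(M.hom.appLE U V e).hom]
  exact ⟨h₁, h₂⟩

/-- Lifting of sections of étale separated schemes implies lifting of open and closed subsets of
finite locally free schemes. -/
theorem clopen_lift_of_sections_lift {S₀ : Scheme.{u}} (i : S₀ ⟶ S)
    (hb : ∀ (S' : Scheme.{u}) (g : S' ⟶ S), Etale g → IsSeparated g →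
      ∀ u₀ : S₀ ⟶ Limits.pullback g i, u₀ ≫ Limits.pullback.snd g i = 𝟙 S₀ →
        ∃! u : S ⟶ S', u ≫ g = 𝟙 S ∧ i ≫ u = u₀ ≫ Limits.pullback.fst g i)
    {S' : Scheme.{u}} (g : S' ⟶ S) [IsFinite g] [Flat g] [LocallyOfFinitePresentation g]
    (V : Set ↥(Limits.pullback g i)) (hV : IsClopen V) :
    ∃! U : Set ↥S', IsClopen U ∧ (Limits.pullback.fst g i).base ⁻¹' U = V := by
  have : IsFinite (Over.mk g).hom := ‹IsFinite g›
  have : Flat (Over.mk g).hom := ‹Flat g›
  have : LocallyOfFinitePresentation (Over.mk g).hom := ‹LocallyOfFinitePresentation g›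
  obtain ⟨M, C, hMaff, hMet, hcl, hC, hnat⟩ := exists_clopenScheme (Over.mk g)
  let T₀ : Over S := Over.mk i
  let T₁ : Over S := Over.mk (𝟙 S)
  let w : T₀ ⟶ T₁ := Over.homMk i (Category.comp_id i)
  let p : ((Over.mk g) ⊗ T₁).left ⟶ S' := (fst (Over.mk g) T₁).left
  have hw : ((Over.mk g) ◁ w).left ≫ p = Limits.pullback.fst g i := Over.whiskerLeft_left_fst w
  have : IsIso p := inferInstanceAs (IsIso (Limits.pullback.fst g (𝟙 S)))
  have hp : Function.Bijective p := p.homeomorph.bijective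
  obtain ⟨v₀, hv₀, hv₀u⟩ := hC T₀ V hV
  obtain ⟨u, ⟨hu, hu₀⟩, huu⟩ := hb M.left M.hom hMet inferInstance
    (Limits.pullback.lift v₀.left (𝟙 S₀) (by rw [Over.w v₀, Category.id_comp]; rfl))
    (Limits.pullback.lift_snd _ _ _)
  rw [Limits.pullback.lift_fst] at hu₀
  let v₁ : T₁ ⟶ M := Over.homMk u hu
  have hwv : w ≫ v₁ = v₀ := Over.OverMorphism.ext hu₀
  refine ⟨p '' C T₁ v₁, ⟨?_, ?_⟩, ?_⟩
  · exact ⟨p.homeomorph.isClosed_image.mpr (hcl T₁ v₁).1, p.homeomorph.isOpen_image.mpr (hcl T₁ v₁).2⟩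
  · rw [← hv₀, ← hwv, hnat, ← hw]
    show ((Over.mk g) ◁ w).left ⁻¹' (p ⁻¹' (p '' C T₁ v₁)) = _
    rw [Set.preimage_image_eq _ hp.1]
  · rintro U ⟨hU, hUV⟩
    obtain ⟨v, hv, -⟩ := hC T₁ (p ⁻¹' U) (hU.preimage p.continuous)
    have h : w ≫ v = v₀ := by
      refine hv₀u _ ?_
      show C T₀ (w ≫ v) = V
      rw [hnat, hv, ← hUV, ← hw]
      rfl
    have h' : v = v₁ := Over.OverMorphism.ext (huu v.left ⟨Over.w v, by
      rw [Limits.pullback.lift_fst]; exact congrArg (fun m => m.left) h⟩)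
    rw [← h', hv, Set.image_preimage_eq _ hp.2]

end Groth.Hensel1
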