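import Groth.Agent.Hensel1.EssEt
import Mathlib.Algebra.Colimit.DirectLimit
import Mathlib.RingTheory.Flat.EquationalCriterion
import Mathlib.RingTheory.Flat.FaithfullyFlat.Algebra
import Mathlib.RingTheory.RingHom.Flat

/-!
# The henselization of a local ring relative to a separable algebraic extension of the residue field

For a local ring `R` and a field `Ω` over its residue field, `Hens R Ω` is the directed colimit of
the local rings of standard étale `R`-algebras at points with values in `Ω`.  For `Ω` the residue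
field this is the henselization, for `Ω` a separable closure the strict henselization.
-/

set_option autoImplicit false

namespace Groth.Hensel1

open IsLocalRing TensorProduct Polynomial

universe u v

noncomputable section

/-- An index of `Hens R Ω`: a standard étale pair with a point in `Ω`. -/
structure HensIdx (R : Type u) [CommRing R] (Ω : Type u) [Field Ω] [Algebra R Ω] where
  /-- the standard étale pair -/
  P : StandardEtalePair R
  /-- the point -/
  x : Ω
  hx : P.HasMap x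

namespace HensIdx

variable {R : Type u} [CommRing R] {Ω : Type u} [Field Ω] [Algebra R Ω]

/-- The point as a homomorphism. -/
def pt (i : HensIdx R Ω) : i.P.Ring →ₐ[R] Ω := i.P.lift i.x i.hx

/-- The prime of the point. -/
def q (i : HensIdx R Ω) : Ideal i.P.Ring := RingHom.ker i.pt.toRingHom

instance (i : HensIdx R Ω) : i.q.IsPrime := RingHom.ker_isPrime _

/-- The local ring of an index. -/
abbrev Obj (i : HensIdx R Ω) : Type u := Localization.AtPrime i.q

lemma isUnit_pt {i : HensIdx R Ω} (c : i.q.primeCompl) : IsUnit (i.pt (c : i.P.Ring)) :=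
  isUnit_iff_ne_zero.mpr fun h => c.2 h

/-- The point of the local ring of an index. -/
def ptL (i : HensIdx R Ω) : i.Obj →ₐ[R] Ω :=
  IsLocalization.liftAlgHom (M := i.q.primeCompl) (f := i.pt) isUnit_pt

@[simp]
lemma ptL_algebraMap (i : HensIdx R Ω) (c : i.P.Ring) :
    i.ptL (algebraMap i.P.Ring i.Obj c) = i.pt c :=
  IsLocalization.lift_eq _ c

lemma isUnit_iff (i : HensIdx R Ω) {x : i.Obj} : IsUnit x ↔ i.ptL x ≠ 0 := by
  refine ⟨fun h => (h.map i.ptL).ne_zero, fun h => ?_⟩
  obtain ⟨c, s, rfl⟩ := IsLocalization.exists_mk'_eq i.q.primeCompl x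
  refine IsLocalization.AtPrime.isUnit_mk'_iff i.Obj i.q c s |>.mpr fun hc => h ?_
  have h1 := congr_arg i.ptL (IsLocalization.mk'_spec i.Obj c s)
  rw [map_mul, ptL_algebraMap, ptL_algebraMap, show i.pt c = 0 from hc] at h1
  exact (mul_eq_zero.mp h1).resolve_right (isUnit_pt s).ne_zero

lemma residue_eq {i : HensIdx R Ω} {x y : i.Obj} (h : i.ptL x = i.ptL y) :
    residue i.Obj x = residue i.Obj y := by
  rw [← sub_eq_zero, ← map_sub, residue_eq_zero_iff, mem_maximalIdeal, mem_nonunits_iff,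
    isUnit_iff, not_not, map_sub, h, sub_self]

/-- Algebra maps into the local ring of an index are determined by their points. -/
lemma hom_ext_of_etale {i : HensIdx R Ω} {C : Type v} [CommRing C] [Algebra R C]
    [Algebra.Etale R C] {f g : C →ₐ[R] i.Obj} (h : i.ptL.comp f = i.ptL.comp g) : f = g :=
  algHom_eq_of_residue_eq fun c => residue_eq (DFunLike.congr_fun h c)

lemma hom_ext {i j : HensIdx R Ω} {f g : i.Obj →ₐ[R] j.Obj} (hf : j.ptL.comp f = i.ptL)
    (hg : j.ptL.comp g = i.ptL) : f = g :=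
  IsLocalization.algHom_ext i.q.primeCompl (hom_ext_of_etale (AlgHom.ext fun c => by
    simp only [AlgHom.comp_apply]
    exact (DFunLike.congr_fun hf _).trans (DFunLike.congr_fun hg _).symm))

instance : Preorder (HensIdx R Ω) where
  le i j := Nonempty { f : i.Obj →ₐ[R] j.Obj // j.ptL.comp f = i.ptL }
  le_refl i := ⟨⟨AlgHom.id R _, i.ptL.comp_id⟩⟩
  le_trans i j k := fun ⟨⟨f, hf⟩⟩ ⟨⟨g, hg⟩⟩ => ⟨⟨g.comp f, by rw [← AlgHom.comp_assoc, hg, hf]⟩⟩

/-- The transition map. -/
def tr (i j : HensIdx R Ω) (h : i ≤ j) : i.Obj →ₐ[R] j.Obj := h.some.1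

lemma ptL_comp_tr {i j : HensIdx R Ω} (h : i ≤ j) : j.ptL.comp (tr i j h) = i.ptL := h.some.2

lemma tr_eq {i j : HensIdx R Ω} (h : i ≤ j) {f : i.Obj →ₐ[R] j.Obj} (hf : j.ptL.comp f = i.ptL) :
    tr i j h = f :=
  hom_ext (ptL_comp_tr h) hf

instance : DirectedSystem (fun i : HensIdx R Ω => i.Obj) (fun i j h => ⇑(tr i j h).toRingHom) where
  map_self i x := DFunLike.congr_fun (tr_eq (le_refl i) (f := AlgHom.id R _) i.ptL.comp_id) x
  map_map k j i hij hjk x :=
    (DFunLike.congr_fun (tr_eq (hij.trans hjk) (f := (tr j k hjk).comp (tr i j hij))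
      (by rw [← AlgHom.comp_assoc, ptL_comp_tr, ptL_comp_tr])) x).symm

/-- A map from the ring of `i` with the right point gives `i ≤ j`. -/
lemma le_of_hom {i j : HensIdx R Ω} (ψ : i.P.Ring →ₐ[R] j.Obj) (h : j.ptL.comp ψ = i.pt) :
    i ≤ j := by
  have hu : ∀ c : i.q.primeCompl, IsUnit (ψ (c : i.P.Ring)) := fun c => by
    rw [isUnit_iff, ← AlgHom.comp_apply, h]
    exact (isUnit_pt c).ne_zero
  refine ⟨⟨IsLocalization.liftAlgHom (M := i.q.primeCompl) (f := ψ) hu, ?_⟩⟩
  refine IsLocalization.algHom_ext i.q.primeCompl (AlgHom.ext fun c => ?_)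
  have e : IsLocalization.liftAlgHom (M := i.q.primeCompl) (f := ψ) hu
      (algebraMap i.P.Ring i.Obj c) = ψ c := IsLocalization.lift_eq _ c
  show j.ptL (IsLocalization.liftAlgHom (M := i.q.primeCompl) (f := ψ) hu
      (algebraMap i.P.Ring i.Obj c)) = i.ptL (algebraMap i.P.Ring i.Obj c)
  rw [e, ptL_algebraMap, ← h]
  rfl

lemma tr_algebraMap {i j : HensIdx R Ω} (h : i ≤ j) (ψ : i.P.Ring →ₐ[R] j.Obj)
    (hψ : j.ptL.comp ψ = i.pt) (c : i.P.Ring) : tr i j h (algebraMap _ _ c) = ψ c :=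
  DFunLike.congr_fun (hom_ext_of_etale (f := (tr i j h).comp (IsScalarTower.toAlgHom R _ _))
    (g := ψ) (by
      rw [← AlgHom.comp_assoc, ptL_comp_tr, hψ]
      exact AlgHom.ext fun c => ptL_algebraMap i c)) c

/-- Every pointed étale algebra maps to an index, by a flat map. -/
theorem exists_dominating (C : Type u) [CommRing C] [Algebra R C] [Algebra.Etale R C]
    (φ : C →ₐ[R] Ω) : ∃ (j : HensIdx R Ω) (ψ : C →ₐ[R] j.P.Ring),
      j.pt.comp ψ = φ ∧ ψ.toRingHom.Flat := by
  have : (RingHom.ker φ.toRingHom).IsPrime := RingHom.ker_isPrime _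
  obtain ⟨f, hf, hstd⟩ := Algebra.IsEtaleAt.exists_isStandardEtale (R := R) (RingHom.ker φ.toRingHom)
  obtain ⟨Pr⟩ := hstd.nonempty_standardEtalePresentation
  have hu : IsUnit (φ f) := isUnit_iff_ne_zero.mpr fun h => hf h
  let φ' : Localization.Away f →ₐ[R] Ω := IsLocalization.Away.liftAlgHom (f := φ) f hu
  let e := Pr.equivRing
  refine ⟨⟨Pr.P, φ' (e.symm Pr.P.X),
      StandardEtalePair.hasMap_X.map (φ'.comp e.symm.toAlgHom)⟩,
    e.toAlgHom.comp (IsScalarTower.toAlgHom R C (Localization.Away f)), ?_, ?_⟩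
  · have h1 : (Pr.P.lift (φ' (e.symm Pr.P.X))
        (StandardEtalePair.hasMap_X.map (φ'.comp e.symm.toAlgHom)) : Pr.P.Ring →ₐ[R] Ω) =
        φ'.comp e.symm.toAlgHom := Pr.P.hom_ext (StandardEtalePair.lift_X _ _ _)
    refine AlgHom.ext fun c => (DFunLike.congr_fun h1 (e (algebraMap C (Localization.Away f) c))).trans ?_
    show φ' (e.symm (e (algebraMap C (Localization.Away f) c))) = φ c
    rw [AlgEquiv.symm_apply_apply]
    exact IsLocalization.Away.lift_eq f hu c
  · show (e.toRingEquiv.toRingHom.comp (algebraMap C (Localization.Away f))).Flat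
    exact (RingHom.flat_algebraMap_iff.mpr (IsLocalization.flat _ (Submonoid.powers f))).comp
      (RingHom.Flat.of_bijective e.bijective)

theorem exists_ge₂_flat (i j : HensIdx R Ω) : ∃ (k : HensIdx R Ω) (h : i ≤ k), j ≤ k ∧
    ((tr i k h).toRingHom.comp (algebraMap i.P.Ring i.Obj)).Flat := by
  have : Algebra.Etale R (i.P.Ring ⊗[R] j.P.Ring) := Algebra.Etale.comp R i.P.Ring _
  obtain ⟨k, ψ, hψ, hflat⟩ := exists_dominating (i.P.Ring ⊗[R] j.P.Ring)
    (Algebra.TensorProduct.lift i.pt j.pt fun _ _ => Commute.all _ _)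
  let ψ' : i.P.Ring ⊗[R] j.P.Ring →ₐ[R] k.Obj := (IsScalarTower.toAlgHom R _ _).comp ψ
  have hψ' : ∀ z, k.ptL (ψ' z) = Algebra.TensorProduct.lift (S := R) i.pt j.pt
      (fun _ _ => Commute.all _ _) z := fun z => by
    rw [← hψ]; exact ptL_algebraMap k (ψ z)
  let ψi := ψ'.comp Algebra.TensorProduct.includeLeft
  have hi : k.ptL.comp ψi = i.pt := AlgHom.ext fun c => by
    rw [AlgHom.comp_apply, AlgHom.comp_apply, hψ']; simp
  have hj : k.ptL.comp (ψ'.comp Algebra.TensorProduct.includeRight) = j.pt :=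
    AlgHom.ext fun c => by rw [AlgHom.comp_apply, AlgHom.comp_apply, hψ']; simp
  refine ⟨k, le_of_hom ψi hi, le_of_hom _ hj, ?_⟩
  have e : (tr i k (le_of_hom ψi hi)).toRingHom.comp (algebraMap i.P.Ring i.Obj) =
      ((algebraMap k.P.Ring k.Obj).comp ψ.toRingHom).comp
        (algebraMap i.P.Ring (i.P.Ring ⊗[R] j.P.Ring)) :=
    RingHom.ext fun c => tr_algebraMap _ ψi hi c
  rw [e]
  exact (RingHom.flat_algebraMap_iff.mpr inferInstance).comp
    (hflat.comp (RingHom.flat_algebraMap_iff.mpr (IsLocalization.flat _ k.q.primeCompl)))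

instance : IsDirectedOrder (HensIdx R Ω) :=
  ⟨fun i j => let ⟨k, h, h', _⟩ := exists_ge₂_flat i j; ⟨k, h, h'⟩⟩

instance : Nonempty (HensIdx R Ω) := ⟨⟨⟨X, monic_X, 1, 1, 0, 0, by simp⟩, 0, by simp [StandardEtalePair.HasMap]⟩⟩

end HensIdx

open HensIdx

/-- The henselization of `R` relative to `Ω`. -/
def Hens (R : Type u) [CommRing R] (Ω : Type u) [Field Ω] [Algebra R Ω] : Type u :=
  DirectLimit (fun i : HensIdx R Ω => i.Obj) (fun i j h => (tr i j h).toRingHom)

variable {R : Type u} [CommRing R] {Ω : Type u} [Field Ω] [Algebra R Ω]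

instance : CommRing (Hens R Ω) :=
  inferInstanceAs (CommRing (DirectLimit (fun i : HensIdx R Ω => i.Obj)
    (fun i j h => (tr i j h).toRingHom)))

namespace Hens

/-- The map from a component. -/
def ofRing (i : HensIdx R Ω) : i.Obj →+* Hens R Ω :=
  DirectLimit.Ring.of (fun i : HensIdx R Ω => i.Obj) (fun i j h => (tr i j h).toRingHom) i

lemma ofRing_tr {i j : HensIdx R Ω} (h : i ≤ j) (x : i.Obj) :
    ofRing j (tr i j h x) = ofRing i x :=
  DirectLimit.Ring.of_f (G := fun i : HensIdx R Ω => i.Obj)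
    (f := fun i j h => (tr i j h).toRingHom) h x

lemma ofRing_algebraMap (i j : HensIdx R Ω) (r : R) :
    ofRing i (algebraMap R i.Obj r) = ofRing j (algebraMap R j.Obj r) := by
  obtain ⟨k, hi, hj⟩ := exists_ge_ge i j
  rw [← ofRing_tr hi, ← ofRing_tr hj, AlgHom.commutes, AlgHom.commutes]

instance : Algebra R (Hens R Ω) :=
  ((ofRing (Classical.arbitrary (HensIdx R Ω))).comp (algebraMap R _)).toAlgebra

/-- The map from a component, as an algebra map. -/
def of (i : HensIdx R Ω) : i.Obj →ₐ[R] Hens R Ω :=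
  { ofRing i with commutes' := fun r => ofRing_algebraMap i _ r }

lemma of_tr {i j : HensIdx R Ω} (h : i ≤ j) (x : i.Obj) : of j (tr i j h x) = of i x :=
  ofRing_tr h x

lemma exists_of (x : Hens R Ω) : ∃ (i : HensIdx R Ω) (y : i.Obj), of i y = x :=
  let ⟨i, y, h⟩ := DirectLimit.exists_eq_mk _ x
  ⟨i, y, h.symm⟩

lemma exists_tr_eq {i : HensIdx R Ω} {x y : i.Obj} (h : of i x = of i y) :
    ∃ (j : HensIdx R Ω) (hj : i ≤ j), tr i j hj x = tr i j hj y :=
  let ⟨j, hj, _, e⟩ := Quotient.exact h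
  ⟨j, hj, e⟩

lemma exists_of_fintype {ι : Type*} [Finite ι] (x : ι → Hens R Ω) :
    ∃ (i : HensIdx R Ω) (y : ι → i.Obj), ∀ k, of i (y k) = x k := by
  classical
  choose i y hy using fun k => exists_of (x k)
  obtain ⟨j, hj⟩ := Finite.exists_le i
  exact ⟨j, fun k => tr _ _ (hj k) (y k), fun k => by rw [of_tr, hy]⟩

/-- The point of the colimit. -/
def pt : Hens R Ω →ₐ[R] Ω :=
  { (DirectLimit.Ring.lift (fun i : HensIdx R Ω => i.Obj) (fun i j h => (tr i j h).toRingHom) Ω
      (fun i => i.ptL.toRingHom) fun i j h x => DFunLike.congr_fun (ptL_comp_tr h) x :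
        Hens R Ω →+* Ω) with
    commutes' := fun r => AlgHom.commutes (Classical.arbitrary (HensIdx R Ω)).ptL r }

@[simp]
lemma pt_of (i : HensIdx R Ω) (x : i.Obj) : pt (of i x) = i.ptL x := rfl

lemma isUnit_iff {x : Hens R Ω} : IsUnit x ↔ pt x ≠ 0 := by
  refine ⟨fun h => (h.map pt).ne_zero, fun h => ?_⟩
  obtain ⟨i, y, rfl⟩ := exists_of x
  exact (i.isUnit_iff.mpr (by simpa using h)).map (of i)

instance : Nontrivial (Hens R Ω) := pt.toRingHom.domain_nontrivial

instance : IsLocalRing (Hens R Ω) := IsLocalRing.of_nonunits_add fun x y hx hy => by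
  simp only [mem_nonunits_iff, isUnit_iff, not_not] at *
  rw [map_add, hx, hy, add_zero]

lemma mem_maximalIdeal_iff {x : Hens R Ω} : x ∈ maximalIdeal (Hens R Ω) ↔ pt x = 0 := by
  rw [mem_maximalIdeal, mem_nonunits_iff, isUnit_iff, not_not]

lemma residue_eq_iff {x y : Hens R Ω} :
    residue (Hens R Ω) x = residue (Hens R Ω) y ↔ pt x = pt y := by
  rw [← sub_eq_zero, ← map_sub, residue_eq_zero_iff, mem_maximalIdeal_iff, map_sub, sub_eq_zero]

/-- The residue field of `Hens R Ω` maps into `Ω`. -/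
def residuePt : ResidueField (Hens R Ω) →+* Ω :=
  Ideal.Quotient.lift _ pt.toRingHom fun _ hx => mem_maximalIdeal_iff.mp hx

@[simp]
lemma residuePt_residue (x : Hens R Ω) : residuePt (residue (Hens R Ω) x) = pt x := rfl

lemma exists_of_ring_fintype {ι : Type*} [Finite ι] (x : ι → Hens R Ω) :
    ∃ (i : HensIdx R Ω) (y : ι → i.P.Ring), ∀ k, of i (algebraMap _ _ (y k)) = x k := by
  classical
  obtain ⟨i, y, hy⟩ := exists_of_fintype x
  obtain ⟨⟨b, hb⟩, hbint⟩ := IsLocalization.exist_integer_multiples_of_finite i.q.primeCompl y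
  choose c hc using hbint
  let C := Localization.Away b
  have hu : IsUnit (i.pt b) := isUnit_pt ⟨b, hb⟩
  obtain ⟨j, ψ, hψ, -⟩ := exists_dominating C (IsLocalization.Away.liftAlgHom (f := i.pt) b hu)
  let ψi : i.P.Ring →ₐ[R] j.Obj :=
    (IsScalarTower.toAlgHom R _ _).comp (ψ.comp (IsScalarTower.toAlgHom R i.P.Ring C))
  have hi : j.ptL.comp ψi = i.pt := AlgHom.ext fun z => by
    show j.ptL (algebraMap _ _ (ψ (algebraMap i.P.Ring C z))) = i.pt z
    rw [ptL_algebraMap, ← AlgHom.comp_apply, hψ]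
    exact IsLocalization.Away.lift_eq b hu z
  refine ⟨j, fun k => ψ (IsLocalization.mk' C (c k) ⟨b, Submonoid.mem_powers b⟩), fun k => ?_⟩
  rw [← hy k, ← of_tr (le_of_hom ψi hi) (y k)]
  congr 1
  have hbu : IsUnit (ψi b) := by
    rw [HensIdx.isUnit_iff, ← AlgHom.comp_apply, hi]
    exact hu.ne_zero
  refine hbu.mul_right_cancel ?_
  have h1 : tr i j (le_of_hom ψi hi) (y k) * ψi b = ψi (c k) := by
    rw [← tr_algebraMap (le_of_hom ψi hi) ψi hi b, ← map_mul,
      ← tr_algebraMap (le_of_hom ψi hi) ψi hi (c k), hc k, Algebra.smul_def]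
    rw [mul_comm]
  rw [h1]
  show algebraMap _ _ (ψ _) * algebraMap j.P.Ring j.Obj (ψ (algebraMap _ C b)) =
    algebraMap j.P.Ring j.Obj (ψ (algebraMap _ C (c k)))
  rw [← map_mul, ← map_mul, IsLocalization.mk'_spec]

end Hens

end

end Groth.Hensel1
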