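import Mathlib.FieldTheory.Galois.Infinite
import Mathlib.FieldTheory.IsSepClosed
import Mathlib.RingTheory.Henselian
import Mathlib.RingTheory.Polynomial.GaussLemma
import Mathlib.RingTheory.Polynomial.ScaleRoots
import Mathlib.RingTheory.Localization.Integral

/-!
# The local ring of the fixed field of a decomposition group is henselian
-/

set_option autoImplicit false

namespace Groth.Hensel1

open Polynomial

universe u

variable {L Ks OL O : Type u} [Field L] [Field Ks] [Algebra L Ks] [IsSepClosure L Ks]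
  [CommRing OL] [IsDomain OL] [IsIntegrallyClosed OL] [Algebra OL L] [IsFractionRing OL L]
  [Algebra OL Ks] [IsScalarTower OL L Ks] [CommRing O] (ι : O →+* Ks) (φ : OL →+* O)

/-- A monic polynomial with integral coefficients, whose constant coefficient is in `Q` and whose
linear coefficient is not, has a root in `Q` (`Q` is the trace of a Galois stable prime). -/
theorem exists_root_mem_of_galois_stable (hι : Function.Injective ι)
    (hcomp : ∀ a, ι (φ a) = algebraMap OL Ks a) (hint : ∀ x : Ks, IsIntegral OL x → ∃ y, ι y = x)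
    (P : Ideal O) [P.IsPrime]
    (hσ : ∀ (σ : Ks ≃ₐ[L] Ks) (x : O), x ∈ P → ∀ y : O, ι y = σ (ι x) → y ∈ P) :
    ∀ h : OL[X], h.Monic → h.coeff 0 ∈ P.comap φ → h.coeff 1 ∉ P.comap φ →
      ∃ b ∈ P.comap φ, h.IsRoot b := by
  intro h
  induction hn : h.natDegree using Nat.strong_induction_on generalizing h with
  | _ n ih =>
  intro hm h0 h1
  have hQ : (P.comap φ).IsPrime := Ideal.IsPrime.comap φ
  have hne1 : h ≠ 1 := by
    rintro rfl
    exact hQ.one_notMem (by simpa using h0)
  by_cases hirr : Irreducible h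
  · by_cases hn1 : h.natDegree = 1
    · refine ⟨-h.coeff 0, neg_mem h0, ?_⟩
      conv => arg 1; rw [hm.eq_X_add_C hn1]
      simp [IsRoot]
    exfalso
    let hL := h.map (algebraMap OL L)
    have hmL : hL.Monic := hm.map _
    have hirrL : Irreducible hL := (hm.irreducible_iff_irreducible_map_fraction_map (K := L)).mp hirr
    have hsep : hL.Separable := (separable_iff_derivative_ne_zero hirrL).mpr fun h' => by
      have := congrArg (fun q => coeff q 0) h'
      rw [coeff_derivative, coeff_map] at this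
      simp only [Nat.cast_zero, zero_add, mul_one, coeff_zero] at this
      exact h1 ((IsFractionRing.injective OL L (this.trans (map_zero _).symm)) ▸ zero_mem _)
    have : IsSepClosed Ks := IsSepClosure.sep_closed L
    have hspl : (hL.map (algebraMap L Ks)).Splits := IsSepClosed.splits_codomain hL hsep
    have hroot : ∀ r ∈ (hL.map (algebraMap L Ks)).roots, ∃ y, ι y = r := fun r hr => by
      refine hint r ⟨h, hm, ?_⟩
      have h' := isRoot_of_mem_roots hr
      rwa [map_map, IsRoot.def, eval_map, ← IsScalarTower.algebraMap_eq] at h'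
    obtain ⟨rO, hrO⟩ : ∃ rO : Multiset O, rO.map ι = (hL.map (algebraMap L Ks)).roots := by
      revert hroot
      induction (hL.map (algebraMap L Ks)).roots using Multiset.induction_on with
      | empty => exact fun _ => ⟨0, rfl⟩
      | cons a s ih' =>
        intro hroot
        obtain ⟨y, hy⟩ := hroot a (Multiset.mem_cons_self a s)
        obtain ⟨t, ht⟩ := ih' fun r hr => hroot r (Multiset.mem_cons_of_mem hr)
        exact ⟨y ::ₘ t, by rw [Multiset.map_cons, hy, ht]⟩
    have hfac : h.map φ = (rO.map fun r => X - C r).prod := by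
      apply map_injective ι hι
      rw [map_map, Polynomial.map_multiset_prod, Multiset.map_map,
        show ι.comp φ = algebraMap OL Ks from RingHom.ext hcomp,
        IsScalarTower.algebraMap_eq OL L Ks, ← map_map]
      conv_lhs => rw [hspl.eq_prod_roots_of_monic (hmL.map _), ← hrO, Multiset.map_map]
      simp
    have h0' : φ (h.coeff 0) ∈ P := h0
    have hprod : (rO.map fun r => -r).prod ∈ P := by
      rw [← coeff_map, hfac, coeff_zero_eq_eval_zero, eval_multiset_prod, Multiset.map_map] at h0'
      simpa [Function.comp_def] using h0'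
    obtain ⟨x₀, hx₀, hx₀P⟩ : ∃ x ∈ rO, x ∈ P := by
      obtain ⟨y, hy, hyP⟩ := (Ideal.IsPrime.multiset_prod_mem_iff_exists_mem inferInstance _).mp hprod
      obtain ⟨x, hx, rfl⟩ := Multiset.mem_map.mp hy
      exact ⟨x, hx, neg_mem_iff.mp hyP⟩
    have hall : ∀ x ∈ rO, x ∈ P := by
      intro x hx
      have hmp : ∀ z ∈ rO, hL = minpoly L (ι z) := fun z hz => by
        refine minpoly.eq_of_irreducible_of_monic hirrL ?_ hmL
        have h' : ι z ∈ (hL.map (algebraMap L Ks)).roots := hrO ▸ Multiset.mem_map_of_mem _ hz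
        rw [aeval_def, ← eval_map]
        exact isRoot_of_mem_roots h'
      obtain ⟨σ, hσx⟩ := (Normal.minpoly_eq_iff_mem_orbit (E := Ks)).mp ((hmp x hx).symm.trans (hmp x₀ hx₀))
      exact hσ σ x₀ hx₀P x hσx.symm
    have hmod : h.map ((Ideal.Quotient.mk P).comp φ) = X ^ rO.card := by
      rw [← map_map, hfac, Polynomial.map_multiset_prod, Multiset.map_map]
      refine (congrArg Multiset.prod (Multiset.map_congr rfl fun r hr => ?_)).trans
        (by rw [Multiset.map_const', Multiset.prod_replicate])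
      simp [Ideal.Quotient.eq_zero_iff_mem.mpr (hall r hr)]
    have hcard : rO.card = h.natDegree := by
      rw [← hm.natDegree_map ((Ideal.Quotient.mk P).comp φ), hmod, natDegree_X_pow]
    apply h1
    have := congrArg (fun q => coeff q 1) hmod
    simp only [coeff_map, coeff_X_pow, RingHom.coe_comp, Function.comp_apply] at this
    rw [if_neg (fun h' => hn1 (by omega))] at this
    exact Ideal.mem_comap.mpr (Ideal.Quotient.eq_zero_iff_mem.mp this)
  · rw [hm.irreducible_iff_natDegree] at hirr
    push Not at hirr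
    obtain ⟨a, b, ha, hb, hab, han, hbn⟩ := hirr hne1
    have hadd : a.natDegree + b.natDegree = h.natDegree := by
      rw [← hab, ha.natDegree_mul hb]
    have hc0 : h.coeff 0 = a.coeff 0 * b.coeff 0 := by rw [← hab, mul_coeff_zero]
    have hc1 : h.coeff 1 = a.coeff 0 * b.coeff 1 + a.coeff 1 * b.coeff 0 := by
      rw [← hab, mul_coeff_one]
    rw [hc0] at h0
    rcases hQ.mem_or_mem h0 with h' | h'
    · obtain ⟨r, hr, hroot⟩ := ih a.natDegree (by omega) a rfl ha h' fun h'' =>
        h1 (hc1 ▸ add_mem (Ideal.mul_mem_right _ _ h') (Ideal.mul_mem_right _ _ h''))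
      exact ⟨r, hr, by rw [IsRoot.def, ← hab, eval_mul, hroot, zero_mul]⟩
    · obtain ⟨r, hr, hroot⟩ := ih b.natDegree (by omega) b rfl hb h' fun h'' =>
        h1 (hc1 ▸ add_mem (Ideal.mul_mem_left _ _ h'') (Ideal.mul_mem_left _ _ h'))
      exact ⟨r, hr, by rw [IsRoot.def, ← hab, eval_mul, hroot, mul_zero]⟩

/-- The local ring at the trace of a Galois stable prime is henselian. -/
theorem henselianLocalRing_of_galois_stable (hι : Function.Injective ι)
    (hcomp : ∀ a, ι (φ a) = algebraMap OL Ks a) (hint : ∀ x : Ks, IsIntegral OL x → ∃ y, ι y = x)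
    (P : Ideal O) [P.IsPrime]
    (hσ : ∀ (σ : Ks ≃ₐ[L] Ks) (x : O), x ∈ P → ∀ y : O, ι y = σ (ι x) → y ∈ P)
    (Q : Ideal OL) [Q.IsPrime] (hQ : Q = P.comap φ) :
    HenselianLocalRing (Localization.AtPrime Q) := by
  let A := Localization.AtPrime Q
  refine { is_henselian := fun f hf a₀ h₀ h₁ => ?_ }
  let g : A[X] := taylor a₀ f
  have hg : g.Monic := by
    rw [Monic, leadingCoeff, natDegree_taylor, coeff_taylor_natDegree]
    exact hf
  have hg0 : g.coeff 0 ∈ IsLocalRing.maximalIdeal A := by rwa [taylor_coeff_zero]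
  have hg1 : IsUnit (g.coeff 1) := by rwa [taylor_coeff_one]
  obtain ⟨t, ht⟩ := IsLocalization.exist_integer_multiples Q.primeCompl (Finset.range (g.natDegree + 1))
    g.coeff
  have htu : IsUnit (algebraMap OL A t) := IsLocalization.map_units A t
  have hlift : scaleRoots g (algebraMap OL A t) ∈ lifts (algebraMap OL A) := by
    rw [lifts_iff_coeff_lifts]
    intro i
    rw [coeff_scaleRoots]
    by_cases hi : i < g.natDegree
    · obtain ⟨c, hc⟩ := ht i (Finset.mem_range.mpr (by omega))
      rw [Algebra.smul_def] at hc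
      refine ⟨c * (t : OL) ^ (g.natDegree - i - 1), ?_⟩
      rw [map_mul, map_pow, hc, mul_right_comm, ← pow_succ', mul_comm,
        show g.natDegree - i - 1 + 1 = g.natDegree - i by omega]
    · rcases eq_or_ne i g.natDegree with rfl | hne
      · exact ⟨1, by simp [hg.coeff_natDegree]⟩
      · exact ⟨0, by simp [coeff_eq_zero_of_natDegree_lt (show g.natDegree < i by omega)]⟩
  obtain ⟨h, hh, hhd, hhm⟩ := lifts_and_natDegree_eq_and_monic hlift ((monic_scaleRoots_iff _).mpr hg)
  have hmem : ∀ c : OL, algebraMap OL A c ∈ IsLocalRing.maximalIdeal A ↔ c ∈ Q := fun c =>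
    IsLocalization.AtPrime.to_map_mem_maximal_iff A Q c
  have hcoeff : ∀ i, algebraMap OL A (h.coeff i) = g.coeff i * algebraMap OL A t ^ (g.natDegree - i) :=
    fun i => by rw [← coeff_map, hh, coeff_scaleRoots]
  obtain ⟨b, hb, hbroot⟩ := exists_root_mem_of_galois_stable ι φ hι hcomp hint P hσ h hhm
    (hQ ▸ (hmem _).mp (by rw [hcoeff]; exact Ideal.mul_mem_right _ _ hg0))
    (hQ ▸ fun h' => (IsLocalRing.mem_maximalIdeal _).mp ((hmem _).mpr h') (by
      rw [hcoeff]; exact hg1.mul (htu.pow _)))
  let r : A := algebraMap OL A b * ↑htu.unit⁻¹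
  have hr : algebraMap OL A t * r = algebraMap OL A b := by
    rw [mul_left_comm, IsUnit.mul_val_inv, mul_one]
  refine ⟨r + a₀, ?_, ?_⟩
  · have h' : eval (algebraMap OL A b) (scaleRoots g (algebraMap OL A t)) = 0 := by
      rw [← hh, eval_map, eval₂_at_apply, hbroot, map_zero]
    have h'' := scaleRoots_eval₂_mul (p := g) (RingHom.id A) r (algebraMap OL A t)
    rw [RingHom.id_apply, hr] at h''
    change eval (algebraMap OL A b) (scaleRoots g (algebraMap OL A t)) = _ * eval r g at h''
    rw [h', eq_comm, (htu.pow _).mul_right_eq_zero, taylor_eval] at h''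
    exact h''
  · rw [add_sub_cancel_right]
    exact Ideal.mul_mem_right _ _ ((hmem b).mpr (hQ ▸ hb))

open scoped Topology

theorem isOpen_setOf_apply_mem {K E : Type u} [Field K] [Field E] [Algebra K E] [Algebra.IsAlgebraic K E]
    (x : E) (T : Set E) : IsOpen {σ : E ≃ₐ[K] E | σ x ∈ T} := by
  have : FiniteDimensional K (IntermediateField.adjoin K {x}) :=
    IntermediateField.adjoin.finiteDimensional (Algebra.IsIntegral.isIntegral x)
  refine isOpen_iff_forall_mem_open.mpr fun σ hσ => ⟨(fun τ => σ * τ) ''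
    (IntermediateField.adjoin K {x}).fixingSubgroup, ?_,
    (Homeomorph.mulLeft σ).isOpenMap _ (IntermediateField.fixingSubgroup_isOpen _),
    ⟨1, one_mem _, mul_one σ⟩⟩
  rintro _ ⟨τ, hτ, rfl⟩
  show σ (τ x) ∈ T
  rwa [(IntermediateField.mem_fixingSubgroup_iff _ _).mp hτ x (IntermediateField.mem_adjoin_simple_self K x)]

/-- Automorphisms fixing the fixed field of a subgroup generated by automorphisms preserving a set
still preserve this set. -/
theorem apply_mem_of_fixes_fixedField {K E : Type u} [Field K] [Field E] [Algebra K E] [IsGalois K E]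
    (T : Set E) (S : Set (E ≃ₐ[K] E)) (hS : ∀ σ ∈ S, ∀ x, x ∈ T ↔ σ x ∈ T) (σ : E ≃ₐ[K] E)
    (hfix : ∀ y ∈ IntermediateField.fixedField (Subgroup.closure S), σ y = y) (x : E) :
    x ∈ T ↔ σ x ∈ T := by
  classical
  let H : Subgroup (E ≃ₐ[K] E) :=
    { carrier := {σ | ∀ x, x ∈ T ↔ σ x ∈ T}
      mul_mem' := fun {a b} ha hb x => (hb x).trans (ha (b x))
      one_mem' := fun x => Iff.rfl
      inv_mem' := fun {a} ha x => by
        have h := ha (a⁻¹ x)
        rw [← AlgEquiv.mul_apply, mul_inv_cancel] at h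
        exact h.symm }
  have hcl : IsClosed (H : Set (E ≃ₐ[K] E)) := by
    have : (H : Set (E ≃ₐ[K] E)) = ⋂ x : E, {σ : E ≃ₐ[K] E | σ x ∈ if x ∈ T then T else Tᶜ} := by
      ext τ
      show (∀ x, x ∈ T ↔ τ x ∈ T) ↔ _
      simp only [Set.mem_iInter, Set.mem_ofPred_eq]
      refine forall_congr' fun x => ?_
      split_ifs with hx <;> simp [hx]
    rw [this]
    refine isClosed_iInter fun x => isOpen_compl_iff.mp ?_
    exact isOpen_setOf_apply_mem x (if x ∈ T then T else Tᶜ)ᶜ
  have hle : Subgroup.closure S ≤ H := (Subgroup.closure_le H).mpr hS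
  have hmem : σ ∈ (IntermediateField.fixedField H).fixingSubgroup := by
    rw [IntermediateField.mem_fixingSubgroup_iff]
    intro y hy
    exact hfix y fun τ => hy ⟨τ.1, hle τ.2⟩
  rw [InfiniteGalois.fixingSubgroup_fixedField (⟨H, hcl⟩ : ClosedSubgroup _)] at hmem
  exact hmem x

/-- The integral closure of `R` in the fixed field of automorphisms preserving a maximal ideal of
the integral closure in the separable closure, localized below this ideal, is henselian. -/
theorem henselianLocalRing_fixedField (R K Ks : Type u) [CommRing R] [IsDomain R]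
    [Field K] [Algebra R K] [IsFractionRing R K]
    [Field Ks] [Algebra K Ks] [IsSepClosure K Ks] [Algebra R Ks] [IsScalarTower R K Ks]
    (Ps : Ideal (integralClosure R Ks)) [Ps.IsMaximal] (S : Set (Ks ≃ₐ[K] Ks))
    (hS : ∀ σ ∈ S, ∀ x : integralClosure R Ks, x ∈ Ps →
      ∃ h : σ (x : Ks) ∈ integralClosure R Ks, (⟨σ (x : Ks), h⟩ : integralClosure R Ks) ∈ Ps)
    (L : IntermediateField K Ks) (hL : L = IntermediateField.fixedField (Subgroup.closure S))
    (Q : Ideal (integralClosure R L)) [Q.IsPrime]
    (hQ : ∀ y : integralClosure R L, y ∈ Q ↔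
      ∃ x : integralClosure R Ks, x ∈ Ps ∧ (x : Ks) = ((y : L) : Ks)) :
    HenselianLocalRing (Localization.AtPrime Q) := by
  classical
  have : IsScalarTower R L Ks := .of_algebraMap_eq fun r => (IsScalarTower.algebraMap_apply R K Ks r).trans ((by simp [IsScalarTower.algebraMap_apply R K L]))
  have halg : Algebra.IsAlgebraic R L := (IsFractionRing.comap_isAlgebraic_iff (A := R) (K := K) (C := L)).mpr inferInstance
  have hinjRL : Function.Injective (algebraMap R L) := by
    rw [IsScalarTower.algebraMap_eq R K L]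
    exact (algebraMap K L).injective.comp (IsFractionRing.injective R K)
  have : IsFractionRing (integralClosure R L) L :=
    integralClosure.isFractionRing_of_algebraic (fun x hx => hinjRL (hx.trans (map_zero _).symm))
  have : IsIntegrallyClosed (integralClosure R L) := (isIntegrallyClosed_iff_isIntegrallyClosedIn L).mpr inferInstance
  let φ : integralClosure R L →+* integralClosure R Ks :=
    (AlgHom.mapIntegralClosure (IsScalarTower.toAlgHom R L Ks)).toRingHom
  have : IsSepClosure L Ks :=
    ⟨IsSepClosure.sep_closed K, Algebra.isSeparable_tower_top_of_isSeparable K L Ks⟩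
  let T : Set Ks := {x | ∃ h : x ∈ integralClosure R Ks, (⟨x, h⟩ : integralClosure R Ks) ∈ Ps}
  have hST : ∀ σ ∈ S, ∀ x, x ∈ T ↔ σ x ∈ T := by
    intro σ hσ x
    refine ⟨fun ⟨h, hx⟩ => hS σ hσ ⟨x, h⟩ hx, fun ⟨h, hx⟩ => ?_⟩
    let ψ : integralClosure R Ks →ₐ[R] integralClosure R Ks :=
      AlgHom.mapIntegralClosure ((σ.toAlgHom).restrictScalars R)
    have hx' : x ∈ integralClosure R Ks := by
      have := (h : IsIntegral R (σ x)).map ((σ.symm.toAlgHom).restrictScalars R)
      rw [mem_integralClosure_iff]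
      simpa using this
    have heq : Ps = Ps.comap ψ := (‹Ps.IsMaximal›).eq_of_le (Ideal.IsPrime.comap ψ).ne_top fun z hz => by
      obtain ⟨h', hz'⟩ := hS σ hσ z hz
      exact hz'
    refine ⟨hx', ?_⟩
    rw [heq]
    exact hx
  refine henselianLocalRing_of_galois_stable (L := L) (integralClosure R Ks).val.toRingHom φ
    Subtype.val_injective (fun a => rfl) (fun x hx => ?_) Ps ?_ Q ?_
  · exact ⟨⟨x, isIntegral_trans (R := R) x hx⟩, rfl⟩
  · intro σ x hx y hy
    have key := apply_mem_of_fixes_fixedField T S hST (σ.restrictScalars K)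
      (fun z hz => σ.commutes ⟨z, hL ▸ hz⟩) (x : Ks)
    obtain ⟨h, hmem⟩ := key.mp ⟨x.2, hx⟩
    rwa [show y = ⟨σ.restrictScalars K (x : Ks), h⟩ from Subtype.ext hy]
  · ext z
    rw [hQ, Ideal.mem_comap]
    refine ⟨fun ⟨x, hx, he⟩ => ?_, fun h => ⟨φ z, h, rfl⟩⟩
    rwa [show φ z = x from Subtype.ext he.symm]

end Groth.Hensel1
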