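import Groth.Agent.Hensel1.MinimalPrimesNorm
import Mathlib.FieldTheory.PurelyInseparable.Basic

/-!
# Minimal primes of the strict henselization extended from the henselization
-/

set_option autoImplicit false

namespace Groth.Hensel1

open IsLocalRing
open scoped TensorProduct

universe u

/-- A surjection onto a finite type is injective iff cardinalities agree. -/
theorem injective_iff_card_eq {α β : Type u} [Finite β] {f : α → β} (hf : Function.Surjective f) :
    Function.Injective f ↔ ENat.card α = ENat.card β := by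
  refine ⟨fun h => ENat.card_congr (Equiv.ofBijective f ⟨h, hf⟩), fun h => ?_⟩
  have : Finite α := ENat.card_lt_top.mp (h ▸ ENat.card_lt_top.mpr ‹Finite β›)
  refine ((Nat.bijective_iff_surjective_and_card f).mpr ⟨hf, ?_⟩).1
  exact_mod_cast (ENat.card_eq_coe_natCard α).symm.trans (h.trans (ENat.card_eq_coe_natCard β))

/-- A strict henselization is one of the henselization. -/
theorem isStrictHenselization_of_henselization (A H S : Type u) [CommRing A] [IsLocalRing A]
    [CommRing H] [IsLocalRing H] [Algebra A H] [IsLocalHom (algebraMap A H)] [Hensel.IsHenselization A H]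
    [CommRing S] [IsLocalRing S] [Algebra A S] [IsLocalHom (algebraMap A S)]
    [Hensel.IsStrictHenselization A S] [Algebra H S] [IsScalarTower A H S] :
    ∃ _ : IsLocalHom (algebraMap H S), Hensel.IsStrictHenselization H S := by
  obtain ⟨M⟩ := hensModel_of_isHenselization (R := A) (S := H)
  have hS := (inferInstance : Hensel.IsStrictHenselization A S)
  have hloc : IsLocalHom (algebraMap H S) := by
    refine ((IsLocalRing.local_hom_TFAE (algebraMap H S)).out 0 2).mpr ?_
    rw [← M.map_maximalIdeal, Ideal.map_map, ← IsScalarTower.algebraMap_eq]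
    exact ((IsLocalRing.local_hom_TFAE (algebraMap A S)).out 0 2).mp ‹_›
  have : IsScalarTower (ResidueField A) (ResidueField H) (ResidueField S) := by
    refine IsScalarTower.of_algebraMap_eq fun z => ?_
    obtain ⟨z, rfl⟩ := residue_surjective z
    exact congrArg (residue S) (IsScalarTower.algebraMap_apply A H S z)
  have := hS.isSepClosure.separable
  refine ⟨hloc, hS.henselian, ⟨hS.isSepClosure.sep_closed,
    Algebra.isSeparable_tower_top_of_isSeparable (ResidueField A) _ _⟩, fun T _ _ f _ τ hτ => ?_⟩
  have hf0 : IsLocalHom (f.comp (algebraMap A H)) := inferInstance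
  obtain ⟨g, ⟨hg, hgτ⟩, hgu⟩ := hS.universal T (f.comp (algebraMap A H)) τ (by
    refine (RingHom.cancel_right residue_surjective).mp (RingHom.ext fun a => ?_)
    have h1 := RingHom.congr_fun hτ (residue H (algebraMap A H a))
    refine Eq.trans ?_ h1
    show τ (residue S (algebraMap A S a)) = τ (residue S (algebraMap H S (algebraMap A H a)))
    rw [← IsScalarTower.algebraMap_apply])
  obtain ⟨g₀, -, hu⟩ := (inferInstance : Hensel.IsHenselization A H).universal T _ hf0
  refine ⟨g, ⟨?_, hgτ⟩, fun g' ⟨hg', hg'τ⟩ => hgu g' ⟨?_, hg'τ⟩⟩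
  · exact (hu _ (show (g.comp (algebraMap H S)).comp (algebraMap A H) = _ by
      rw [RingHom.comp_assoc, ← IsScalarTower.algebraMap_eq, hg])).trans (hu f rfl).symm
  · rw [IsScalarTower.algebraMap_eq A H S, ← RingHom.comp_assoc, hg']

/-- The normalization of a reduced ring. -/
theorem exists_normRedEquiv_of_isReduced (A : Type u) [CommRing A] [IsReduced A] :
    ∃ e : CAlg2.normRed A ≃+* integralClosure A (FractionRing A),
      ∀ a, e (algebraMap A (CAlg2.normRed A) a) = algebraMap A _ a := by
  let r : CAlg2.red A ≃+* A :=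
    (Ideal.quotEquivOfEq (nilradical_eq_zero A)).trans (RingEquiv.quotientBot A)
  have hr : ∀ a, r (Ideal.Quotient.mk _ a) = a := fun a => by simp [r]
  let E : FractionRing (CAlg2.red A) ≃+* FractionRing A := IsFractionRing.ringEquivOfRingEquiv r
  have hE : ∀ a : CAlg2.red A, E (algebraMap _ _ a) = algebraMap A _ (r a) :=
    IsFractionRing.ringEquivOfRingEquiv_algebraMap r
  have hc : (algebraMap A (FractionRing A)).comp r.toRingHom =
      E.toRingHom.comp (algebraMap (CAlg2.red A) _) := RingHom.ext fun a => (hE a).symm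
  have hc' : (algebraMap (CAlg2.red A) (FractionRing (CAlg2.red A))).comp r.symm.toRingHom =
      E.symm.toRingHom.comp (algebraMap A (FractionRing A)) := RingHom.ext fun a => by
    refine (E.eq_symm_apply).2 ?_
    show E (algebraMap _ _ (r.symm a)) = _
    rw [hE, r.apply_symm_apply]
  refine ⟨{ toFun := fun c => ⟨E c.1, c.2.map_of_comp_eq r.toRingHom E.toRingHom hc⟩
            invFun := fun c => ⟨E.symm c.1, c.2.map_of_comp_eq r.symm.toRingHom E.symm.toRingHom hc'⟩
            left_inv := fun c => Subtype.ext (E.symm_apply_apply _)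
            right_inv := fun c => Subtype.ext (E.apply_symm_apply _)
            map_mul' := fun a b => Subtype.ext (map_mul E _ _)
            map_add' := fun a b => Subtype.ext (map_add E _ _) }, fun a => Subtype.ext ?_⟩
  exact (hE _).trans (congrArg _ (hr a))

/-- Purely inseparable residue fields: one geometric point above each maximal ideal. -/
theorem forall_purelyInseparable_iff_card_eq {A B : Type u} [CommRing A] [IsLocalRing A] [CommRing B]
    [Algebra A B] [Algebra.IsIntegral A B] [Finite (MaximalSpectrum B)] :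
    (∀ (M : Ideal B) [M.IsMaximal], ∀ x : B ⧸ M, ∃ n : ℕ,
        x ^ (ringExpChar (B ⧸ M)) ^ n ∈ ((Ideal.Quotient.mk M).comp (algebraMap A B)).range) ↔
      ENat.card {g : B →+* AlgebraicClosure (ResidueField A) // g.comp (algebraMap A B) = Brnch.toClosure A} =
        ENat.card (MaximalSpectrum B) := by
  classical
  let Ω := AlgebraicClosure (ResidueField A)
  have hker : RingHom.ker (Brnch.toClosure A) = maximalIdeal A := ker_toClosure A
  let β : MaximalSpectrum B → Type u := fun m => {σ : B ⧸ m.asIdeal →+* Ω //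
    σ.comp ((Ideal.Quotient.mk m.asIdeal).comp (algebraMap A B)) = Brnch.toClosure A}
  have key : ∀ m : MaximalSpectrum B, Nonempty (β m) ∧ (Subsingleton (β m) ↔
      ∀ x : B ⧸ m.asIdeal, ∃ n : ℕ, x ^ (ringExpChar (B ⧸ m.asIdeal)) ^ n ∈
        ((Ideal.Quotient.mk m.asIdeal).comp (algebraMap A B)).range) := by
    intro m
    have := m.isMaximal
    let K := B ⧸ m.asIdeal
    let _ : Field K := Ideal.Quotient.field _
    have h0 : m.asIdeal.comap (algebraMap A B) = maximalIdeal A :=
      IsLocalRing.eq_maximalIdeal (Ideal.isMaximal_comap_of_isIntegral_of_isMaximal (R := A) m.asIdeal)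
    let _ : Algebra (ResidueField A) K :=
      (Ideal.Quotient.lift (maximalIdeal A) ((Ideal.Quotient.mk m.asIdeal).comp (algebraMap A B))
        fun a ha => Ideal.Quotient.eq_zero_iff_mem.mpr (by rw [← h0] at ha; exact ha)).toAlgebra
    have : Algebra.IsAlgebraic (ResidueField A) K := ⟨fun z => by
      obtain ⟨z, rfl⟩ := Ideal.Quotient.mk_surjective z
      obtain ⟨F, hFm, hF⟩ := Algebra.IsIntegral.isIntegral (R := A) z
      refine ⟨F.map (residue A), (hFm.map _).ne_zero, ?_⟩
      have h9 := congrArg (Ideal.Quotient.mk m.asIdeal) hF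
      rw [map_zero, Polynomial.hom_eval₂] at h9
      rw [Polynomial.aeval_def, Polynomial.eval₂_map]
      exact h9⟩
    let e : β m ≃ (K →ₐ[ResidueField A] Ω) :=
      { toFun := fun g => { g.1 with
          commutes' := fun c => by
            obtain ⟨a, rfl⟩ := residue_surjective c
            exact RingHom.congr_fun g.2 a }
        invFun := fun g => ⟨g.toRingHom, RingHom.ext fun a => g.commutes (residue A a)⟩
        left_inv := fun _ => rfl
        right_inv := fun _ => rfl }
    have hne : Nonempty (K →ₐ[ResidueField A] Ω) := ⟨IsAlgClosed.lift⟩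
    refine ⟨hne.map e.symm, ?_⟩
    obtain ⟨q, hq⟩ := ExpChar.exists (ResidueField A)
    have := expChar_of_injective_ringHom (algebraMap (ResidueField A) K).injective q
    rw [ringExpChar.eq K q]
    calc Subsingleton (β m) ↔ IsPurelyInseparable (ResidueField A) K := by
          rw [e.subsingleton_congr, isPurelyInseparable_iff_finSepDegree_eq_one,
            Field.finSepDegree_eq_of_isAlgClosed (ResidueField A) K Ω, Nat.card_eq_one_iff_unique]
          exact ⟨fun h => ⟨h, hne⟩, fun h => h.1⟩
      _ ↔ _ := by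
          rw [isPurelyInseparable_iff_pow_mem _ q]
          refine forall_congr' fun x => exists_congr fun n => ⟨?_, ?_⟩
          · rintro ⟨c, hc⟩
            obtain ⟨a, rfl⟩ := residue_surjective c
            exact ⟨a, hc⟩
          · rintro ⟨a, ha⟩
            exact ⟨residue A a, ha⟩
  have hsurj : Function.Surjective (Sigma.fst : (Σ m, β m) → MaximalSpectrum B) := fun m =>
    ⟨⟨m, (key m).1.some⟩, rfl⟩
  have hcard : ENat.card (Σ m, β m) =
      ENat.card {g : B →+* Ω // g.comp (algebraMap A B) = Brnch.toClosure A} :=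
    ENat.card_congr (sigmaEmb (A := A) (B := B) (Brnch.toClosure A)
      (hker.symm ▸ maximalIdeal.isMaximal A))
  rw [← hcard, ← injective_iff_card_eq hsurj]
  constructor
  · intro h
    have : ∀ m, Subsingleton (β m) := fun m => (key m).2.mpr (@h m.asIdeal m.isMaximal)
    rintro ⟨m, σ⟩ ⟨m', σ'⟩ (rfl : m = m')
    rw [Subsingleton.elim σ σ']
  · intro h M hM
    refine (key ⟨M, hM⟩).2.mp ⟨fun σ σ' => ?_⟩
    exact eq_of_heq (Sigma.mk.inj (h (a₁ := ⟨⟨M, hM⟩, σ⟩) (a₂ := ⟨⟨M, hM⟩, σ'⟩) rfl)).2

/-- Minimal primes of a strict henselization are extended from the henselization iff there are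
equally many. -/
theorem forall_extended_iff_card_eq {A H S : Type u} [CommRing A] [IsLocalRing A] [IsReduced A]
    [IsNoetherianRing A]
    [CommRing H] [IsLocalRing H] [Algebra A H] [IsLocalHom (algebraMap A H)] [Hensel.IsHenselization A H]
    [CommRing S] [IsLocalRing S] [Algebra A S] [IsLocalHom (algebraMap A S)]
    [Hensel.IsStrictHenselization A S] [Algebra H S] [IsScalarTower A H S] :
    (∀ Q ∈ minimalPrimes S, Q = Ideal.map (algebraMap H S) (Q.comap (algebraMap H S))) ↔
      ENat.card (minimalPrimes S) = ENat.card (minimalPrimes H) := by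
  classical
  obtain ⟨_, hHS⟩ := isStrictHenselization_of_henselization A H S
  obtain ⟨MS⟩ := hensModel_of_isStrictHenselization (R := H) (S := S)
  obtain ⟨MH⟩ := hensModel_of_isHenselization (R := A) (S := H)
  have := MH.isNoetherianRing_iff.mp inferInstance
  have := MS.flat
  have := MS.faithfullyFlat
  have hfinH : Finite (minimalPrimes H) := (minimalPrimes.finite_of_isNoetherianRing H).to_subtype
  have hdown : ∀ q ∈ minimalPrimes S, q.comap (algebraMap H S) ∈ minimalPrimes H := by
    intro q hq
    have : q.IsPrime := hq.1.1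
    obtain ⟨P, hP, hPle⟩ := Ideal.exists_minimalPrimes_le (I := (⊥ : Ideal H))
      (J := q.comap (algebraMap H S)) bot_le
    have : P.IsPrime := hP.1.1
    have hlo : q.LiesOver (q.comap (algebraMap H S)) := ⟨rfl⟩
    obtain ⟨Q, hQle, hQp, hQo⟩ := Ideal.exists_ideal_le_liesOver_of_le (p := P)
      (q := q.comap (algebraMap H S)) q hPle
    have hQq : Q = q := le_antisymm hQle (hq.2 ⟨hQp, bot_le⟩ hQle)
    have h2 : P = q.comap (algebraMap H S) := by rw [hQo.over, hQq]
    rwa [← h2]
  let π : minimalPrimes S → minimalPrimes H := fun Q => ⟨_, hdown Q.1 Q.2⟩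
  have hπ : Function.Surjective π := by
    intro q
    have hq1 : q.1.IsPrime := q.2.1.1
    obtain ⟨P, hP⟩ := PrimeSpectrum.comap_surjective_of_faithfullyFlat (A := H) (B := S) ⟨q.1, hq1⟩
    obtain ⟨Q, hQ, hle⟩ := Ideal.exists_minimalPrimes_le (I := (⊥ : Ideal S)) (J := P.asIdeal) bot_le
    have h1 : Q.comap (algebraMap H S) ≤ q.1 :=
      (congrArg PrimeSpectrum.asIdeal hP).le.trans' (Ideal.comap_mono hle)
    exact ⟨⟨Q, hQ⟩, Subtype.ext (le_antisymm h1 (q.2.2 ⟨(hdown Q hQ).1.1, bot_le⟩ h1))⟩
  rw [← injective_iff_card_eq hπ]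
  refine ⟨fun h Q Q' hQQ => Subtype.ext ?_, fun h Q hQ => ?_⟩
  · rw [h Q.1 Q.2, h Q'.1 Q'.2, show Q.1.comap (algebraMap H S) = Q'.1.comap (algebraMap H S) from
      congrArg Subtype.val hQQ]
  let q : minimalPrimes H := π ⟨Q, hQ⟩
  have := q.2.1.1
  have : IsLocalHom (algebraMap H (H ⧸ q.1)) := isLocalHom_of_isIntegral' H (H ⧸ q.1)
  have : IsPurelyInseparable (ResidueField H) (ResidueField (H ⧸ q.1)) := by
    obtain ⟨p, hp⟩ := ExpChar.exists (ResidueField H)
    refine (isPurelyInseparable_iff_pow_mem _ p).mpr fun x => ⟨0, ?_⟩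
    obtain ⟨x, rfl⟩ := residue_surjective x
    obtain ⟨x, rfl⟩ := Ideal.Quotient.mk_surjective x
    exact ⟨residue H x, by rw [pow_zero, pow_one]; rfl⟩
  obtain ⟨_, _, hT⟩ := isStrictHenselization_tensor H (H ⧸ q.1) S
  obtain ⟨MT⟩ := hensModel_of_isStrictHenselization (R := H ⧸ q.1) (S := (H ⧸ q.1) ⊗[H] S)
  have := MT.isReduced_iff.mp inferInstance
  let c : (S ⧸ q.1.map (algebraMap H S)) ≃+* (H ⧸ q.1) ⊗[H] S :=
    (Algebra.TensorProduct.quotIdealMapEquivTensorQuot S q.1).toRingEquiv.trans
      (Algebra.TensorProduct.comm H S (H ⧸ q.1)).toRingEquiv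
  have hred : IsReduced (S ⧸ q.1.map (algebraMap H S)) := isReduced_of_injective c c.injective
  have hrad := ((Ideal.isRadical_iff_quotient_reduced _).mpr hred).radical
  refine le_antisymm ?_ (Ideal.map_le_iff_le_comap.mpr le_rfl)
  show Q ≤ q.1.map (algebraMap H S)
  rw [← hrad, ← Ideal.sInf_minimalPrimes]
  refine le_sInf fun Q' hQ' => ?_
  have : Q'.IsPrime := hQ'.1.1
  have hlo : Q'.LiesOver (Q'.comap (algebraMap H S)) := ⟨rfl⟩
  obtain ⟨Q₁, hQ₁, hQ₁p, hQ₁o⟩ := Ideal.exists_ideal_le_liesOver_of_le (p := q.1)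
    (q := Q'.comap (algebraMap H S)) Q' (Ideal.map_le_iff_le_comap.mp hQ'.1.2)
  have h1 : Q₁ = Q' := le_antisymm hQ₁ (hQ'.2 ⟨hQ₁p, Ideal.map_le_iff_le_comap.mpr hQ₁o.over.le⟩ hQ₁)
  have h2 : Q'.comap (algebraMap H S) = q.1 := by rw [← h1]; exact hQ₁o.over.symm
  obtain ⟨Q₂, hQ₂, hle⟩ := Ideal.exists_minimalPrimes_le (I := (⊥ : Ideal S)) (J := Q') bot_le
  have h3 : Q₂.comap (algebraMap H S) ≤ q.1 := h2 ▸ Ideal.comap_mono hle
  have h4 : π ⟨Q₂, hQ₂⟩ = π ⟨Q, hQ⟩ := Subtype.ext
    (le_antisymm h3 (q.2.2 ⟨(hdown Q₂ hQ₂).1.1, bot_le⟩ h3))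
  have h5 : Q₂ = Q := congrArg Subtype.val (h h4)
  exact h5 ▸ hle

/-- Residue fields of the normalization are purely inseparable iff the minimal primes of the strict
henselization are extended from the henselization. -/
theorem normalization_purelyInseparable_iff_extended
    (A Ah Ash : Type u) [CommRing A] [IsLocalRing A] [IsReduced A] [IsNoetherianRing A]
    [CommRing Ah] [IsLocalRing Ah] [Algebra A Ah] [IsLocalHom (algebraMap A Ah)]
    [Hensel.IsHenselization A Ah]
    [CommRing Ash] [IsLocalRing Ash] [Algebra A Ash] [IsLocalHom (algebraMap A Ash)]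
    [Hensel.IsStrictHenselization A Ash] [Algebra Ah Ash] [IsScalarTower A Ah Ash] :
    (∀ (M : Ideal (integralClosure A (FractionRing A))) [M.IsMaximal],
      ∀ x : (integralClosure A (FractionRing A)) ⧸ M, ∃ n : ℕ,
        x ^ (ringExpChar ((integralClosure A (FractionRing A)) ⧸ M)) ^ n ∈
          ((Ideal.Quotient.mk M).comp (algebraMap A (integralClosure A (FractionRing A)))).range) ↔
      (∀ Q ∈ minimalPrimes Ash, Q = Ideal.map (algebraMap Ah Ash) (Q.comap (algebraMap Ah Ash))) := by
  classical
  have hfin : (minimalPrimes A).Finite := minimalPrimes.finite_of_isNoetherianRing A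
  obtain ⟨MH⟩ := hensModel_of_isHenselization (R := A) (S := Ah)
  have := MH.isNoetherianRing_iff.mp inferInstance
  obtain ⟨e, he⟩ := exists_normRedEquiv_of_isReduced A
  let Φ : MaximalSpectrum (CAlg2.normRed A) ≃ MaximalSpectrum (integralClosure A (FractionRing A)) :=
    { toFun := fun m => ⟨m.asIdeal.map e.toRingHom, Ideal.map_isMaximal_of_equiv e⟩
      invFun := fun m => ⟨m.asIdeal.map e.symm.toRingHom, Ideal.map_isMaximal_of_equiv e.symm⟩
      left_inv := fun m => MaximalSpectrum.ext (by simp [Ideal.map_map])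
      right_inv := fun m => MaximalSpectrum.ext (by simp [Ideal.map_map]) }
  have hB : ENat.card (MaximalSpectrum (integralClosure A (FractionRing A))) =
      ENat.card (minimalPrimes Ah) := by
    rw [card_minimalPrimes_henselization_eq_numBranches A Ah, Brnch.numBranches, if_pos hfin,
      ENat.card_congr Φ]
  have : Finite (MaximalSpectrum (integralClosure A (FractionRing A))) := by
    have := (minimalPrimes.finite_of_isNoetherianRing Ah).to_subtype
    exact ENat.card_lt_top.mp (hB ▸ ENat.card_lt_top.mpr this)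
  have hS : ENat.card {g : integralClosure A (FractionRing A) →+* AlgebraicClosure (ResidueField A) //
      g.comp (algebraMap A _) = Brnch.toClosure A} = ENat.card (minimalPrimes Ash) := by
    rw [card_minimalPrimes_strictHenselization_eq_numGeomBranches A Ash, numGeomBranches_eq_card_hom A hfin]
    have hc : e.toRingHom.comp (algebraMap A (CAlg2.normRed A)) = algebraMap A _ := RingHom.ext he
    refine ENat.card_congr
      { toFun := fun g => ⟨g.1.comp e.toRingHom, by rw [RingHom.comp_assoc, hc]; exact g.2⟩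
        invFun := fun g => ⟨g.1.comp e.symm.toRingHom, by
          refine RingHom.ext fun a => ?_
          show g.1 (e.symm (algebraMap A _ a)) = _
          rw [← he, e.symm_apply_apply]
          exact RingHom.congr_fun g.2 a⟩
        left_inv := fun g => Subtype.ext (RingHom.ext fun z => congrArg g.1 (e.apply_symm_apply z))
        right_inv := fun g => Subtype.ext (RingHom.ext fun z => congrArg g.1 (e.symm_apply_apply z)) }
  rw [forall_purelyInseparable_iff_card_eq, forall_extended_iff_card_eq (A := A), hS, hB]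

end Groth.Hensel1
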