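import Groth.Agent.Hensel1.CompletionBranches
import Groth.Agent.Hensel1.MinimalPrimesExtended
import Groth.Agent.Hensel1.NormalHomBranches
import Groth.Agent.Calg4.CompletionFlat
import Mathlib.RingTheory.Ideal.KrullsHeightTheorem

/-!
# Branches of one dimensional local rings and their completions
-/

set_option autoImplicit false

namespace Groth.Hensel1

open IsLocalRing

universe u

/-- A henselian local ring with separably closed residue field is its own strict henselization. -/
theorem isStrictHenselization_self (H : Type u) [CommRing H] [HenselianLocalRing H]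
    [IsSepClosed (ResidueField H)] :
    ∃ _ : IsLocalHom (algebraMap H H), Hensel.IsStrictHenselization H H := by
  have h : IsLocalHom (algebraMap H H) := ⟨fun _ h => h⟩
  refine ⟨h, inferInstance, ?_, fun T _ _ f _ τ hτ => ⟨f, ⟨RingHom.comp_id f, fun x => ?_⟩,
    fun g hg => (RingHom.comp_id g).symm.trans hg.1⟩⟩
  · convert IsSepClosure.self_of_isSepClosed (k := ResidueField H) using 1
    refine Algebra.algebra_ext _ _ fun r => ?_
    obtain ⟨a, rfl⟩ := residue_surjective (R := H) r
    rfl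
  · exact (RingHom.congr_fun hτ (residue H x)).symm

/-- Geometric branches of a strictly henselian ring are its minimal primes. -/
theorem numGeomBranches_eq_card_minimalPrimes_of_henselian (H : Type u) [CommRing H] [HenselianLocalRing H]
    [IsSepClosed (ResidueField H)] : Brnch.numGeomBranches H = ENat.card (minimalPrimes H) := by
  obtain ⟨_, _⟩ := isStrictHenselization_self H
  exact (card_minimalPrimes_strictHenselization_eq_numGeomBranches H H).symm

variable {T C : Type u} [CommRing T] [HenselianLocalRing T] [IsNoetherianRing T] [CommRing C]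
  [IsLocalRing C] [IsNoetherianRing C] [Algebra T C] [Module.FaithfullyFlat T C]

set_option maxHeartbeats 1000000 in
/-- A henselian local ring of dimension at most one and its completion have the same minimal primes. -/
theorem card_minimalPrimes_eq_of_dim_le_one (hdim : Ring.KrullDimLE 1 T)
    (hmax : (maximalIdeal T).map (algebraMap T C) = maximalIdeal C)
    (hsurj : ∀ (k : ℕ) (c : C), ∃ a : T, c - algebraMap T C a ∈ maximalIdeal C ^ k) :
    ENat.card (minimalPrimes C) = ENat.card (minimalPrimes T) := by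
  classical
  have hfin := minimalPrimes.finite_of_isNoetherianRing T
  have hcomap : (maximalIdeal C).comap (algebraMap T C) = maximalIdeal T := by
    rw [← hmax, Ideal.comap_map_eq_self_of_faithfullyFlat]
  have hdown : ∀ q ∈ minimalPrimes C, q.comap (algebraMap T C) ∈ minimalPrimes T := by
    intro q hq
    have : q.IsPrime := hq.1.1
    obtain ⟨P, hP, hPle⟩ := Ideal.exists_minimalPrimes_le (I := (⊥ : Ideal T))
      (J := q.comap (algebraMap T C)) bot_le
    have : P.IsPrime := hP.1.1
    have hlo : q.LiesOver (q.comap (algebraMap T C)) := ⟨rfl⟩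
    obtain ⟨Q, hQle, hQp, hQo⟩ := Ideal.exists_ideal_le_liesOver_of_le (p := P)
      (q := q.comap (algebraMap T C)) q hPle
    have hQq : Q = q := le_antisymm hQle (hq.2 ⟨hQp, bot_le⟩ hQle)
    have h2 : P = q.comap (algebraMap T C) := by rw [hQo.over, hQq]
    rwa [← h2]
  let π : minimalPrimes C → minimalPrimes T := fun Q => ⟨_, hdown Q.1 Q.2⟩
  have hπ : Function.Surjective π := by
    intro q
    have : q.1.IsPrime := q.2.1.1
    obtain ⟨P, hP⟩ := PrimeSpectrum.comap_surjective_of_faithfullyFlat (A := T) (B := C) ⟨q.1, inferInstance⟩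
    obtain ⟨Q, hQ, hle⟩ := Ideal.exists_minimalPrimes_le (I := (⊥ : Ideal C)) (J := P.asIdeal) bot_le
    have h1 : Q.comap (algebraMap T C) ≤ q.1 :=
      (congrArg PrimeSpectrum.asIdeal hP).le.trans' (Ideal.comap_mono hle)
    exact ⟨⟨Q, hQ⟩, Subtype.ext (le_antisymm h1 (q.2.2 ⟨(hdown Q hQ).1.1, bot_le⟩ h1))⟩
  have := hfin.to_subtype
  refine (injective_iff_card_eq hπ).mp fun P₀ P₁ hPP => ?_
  by_contra hne
  let q : Ideal T := P₀.1.comap (algebraMap T C)
  have hq : q ∈ minimalPrimes T := hdown P₀.1 P₀.2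
  have : q.IsPrime := hq.1.1
  by_cases hqm : q = maximalIdeal T
  · have h : ∀ P : minimalPrimes C, P.1.comap (algebraMap T C) = q → P.1 = maximalIdeal C := fun P hP => by
      refine le_antisymm (IsLocalRing.le_maximalIdeal P.2.1.1.ne_top) ?_
      rw [← hmax, ← hqm, ← hP]
      exact Ideal.map_comap_le
    exact hne (Subtype.ext ((h P₀ rfl).trans (h P₁ (congrArg Subtype.val hPP).symm).symm))
  -- a parameter outside all minimal primes
  obtain ⟨t, htm, htmin⟩ : ∃ t ∈ maximalIdeal T, ∀ P ∈ minimalPrimes T, t ∉ P := by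
    have hmax' : maximalIdeal T ∉ minimalPrimes T := fun h => hqm
      (le_antisymm (IsLocalRing.le_maximalIdeal hq.1.1.ne_top)
        (h.2 ⟨hq.1.1, bot_le⟩ (IsLocalRing.le_maximalIdeal hq.1.1.ne_top)))
    have hsub : ¬ (maximalIdeal T : Set T) ⊆ ⋃ P ∈ (hfin.toFinset : Set (Ideal T)), (P : Set T) := by
      intro hsub
      obtain ⟨P, hP, hle⟩ := (Ideal.subset_union_prime (f := id) ⊥ ⊥
        (fun P hP _ _ => (hfin.mem_toFinset.mp hP).1.1)).mp hsub
      have hP' := hfin.mem_toFinset.mp hP
      exact hmax' (le_antisymm hle (le_maximalIdeal hP'.1.1.ne_top) ▸ hP')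
    obtain ⟨t, ht, ht'⟩ := Set.not_subset.mp hsub
    exact ⟨t, ht, fun P hP h => ht' (Set.mem_biUnion (hfin.mem_toFinset.mpr hP) h)⟩
  let τ : C := algebraMap T C t
  have hτm : τ ∈ maximalIdeal C := hcomap.ge htm
  -- primes containing the parameter are maximal
  have hbig : ∀ R : Ideal C, R.IsPrime → τ ∈ R → R = maximalIdeal C := by
    intro R hR hτR
    refine le_antisymm (IsLocalRing.le_maximalIdeal hR.ne_top) ?_
    rw [← hmax]
    refine Ideal.map_le_iff_le_comap.mpr (le_of_eq (Eq.symm ?_))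
    rcases Ring.krullDimLE_one_iff.mp hdim (R.comap (algebraMap T C)) (hR.comap _) with h | h
    · exact absurd hτR (htmin _ h)
    · exact IsLocalRing.eq_maximalIdeal h
  have hrad : maximalIdeal C ∈ (Ideal.span {τ}).minimalPrimes :=
    ⟨⟨(maximalIdeal.isMaximal C).isPrime, (Ideal.span_singleton_le_iff_mem _).mpr hτm⟩,
      fun R hR _ => (hbig R hR.1 (hR.2 (Ideal.mem_span_singleton_self τ))).ge⟩
  have hht := Ideal.height_le_one_of_isPrincipal_of_mem_minimalPrimes (Ideal.span {τ}) _ hrad
  -- the other primes are minimal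
  have hsmall : ∀ R : Ideal C, R.IsPrime → τ ∉ R → R ∈ minimalPrimes C := by
    intro R hR hτR
    refine ⟨⟨hR, bot_le⟩, fun R' hR' hle => ?_⟩
    have := hR'.1
    by_contra hcon
    have hlt : R' < R := lt_of_le_not_ge hle hcon
    have hlt' : R < maximalIdeal C := lt_of_le_of_ne (IsLocalRing.le_maximalIdeal hR.ne_top)
      fun h => hτR (h ▸ hτm)
    have h2 := Ideal.height_strict_mono_of_isPrime_of_isPrime hlt
    have h3 := Ideal.height_strict_mono_of_isPrime_of_isPrime hlt'
    have h4 := h3.trans_le hht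
    rw [Order.lt_one_iff] at h4
    rw [h4] at h2
    simp at h2
  -- separate `P₀` from the other primes over `q`
  let I := P₀.1
  let s : Finset (Ideal C) := ((minimalPrimes.finite_of_isNoetherianRing C).toFinset).filter
    fun R => R.comap (algebraMap T C) = q ∧ R ≠ I
  let J : Ideal C := s.inf id
  let qC := q.map (algebraMap T C)
  have hIJ : I * J ≤ qC.radical := by
    rw [← Ideal.sInf_minimalPrimes]
    refine le_sInf fun R hR => ?_
    have := hR.1.1
    have hqR : q ≤ R.comap (algebraMap T C) := Ideal.map_le_iff_le_comap.mp hR.1.2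
    by_cases hτR : τ ∈ R
    · exact Ideal.mul_le_left.trans ((hbig R this hτR) ▸ IsLocalRing.le_maximalIdeal P₀.2.1.1.ne_top)
    · have hRmin := hsmall R this hτR
      have hRq : R.comap (algebraMap T C) = q :=
        le_antisymm ((hdown R hRmin).2 ⟨hq.1.1, bot_le⟩ hqR) hqR
      by_cases hRI : R = I
      · exact hRI ▸ Ideal.mul_le_left
      · refine Ideal.mul_le_right.trans (Finset.inf_le (f := id) ?_)
        exact Finset.mem_filter.mpr ⟨(Set.Finite.mem_toFinset _).mpr hRmin, hRq, hRI⟩
  have hτIJ : τ ∈ (I ⊔ J).radical := by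
    rw [← Ideal.sInf_minimalPrimes, Ideal.mem_sInf]
    intro R hR
    by_contra hτR
    have := hR.1.1
    have hRmin := hsmall R this hτR
    have hI : I ≤ R := le_sup_left.trans hR.1.2
    obtain ⟨R', hR's, hR'R⟩ := (Ideal.IsPrime.inf_le' this).mp (le_sup_right.trans hR.1.2 : J ≤ R)
    obtain ⟨hR'min, -, hR'I⟩ := Finset.mem_filter.mp hR's
    have hR'min' := (Set.Finite.mem_toFinset _).mp hR'min
    exact hR'I ((le_antisymm hR'R (hRmin.2 ⟨hR'min'.1.1, bot_le⟩ hR'R)).trans
      (le_antisymm (hRmin.2 ⟨P₀.2.1.1, bot_le⟩ hI) hI))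
  obtain ⟨k, hk⟩ := Ideal.exists_pow_le_of_le_radical_of_fg hIJ (IsNoetherian.noetherian _)
  have hIJk : τ ∈ (I ^ (k + 1) ⊔ J ^ (k + 1)).radical := by
    refine Ideal.radical_le_radical_iff.mpr (sup_le ?_ ?_) hτIJ
    · exact fun x hx => ⟨k + 1, Ideal.mem_sup_left (Ideal.pow_mem_pow hx _)⟩
    · exact fun x hx => ⟨k + 1, Ideal.mem_sup_right (Ideal.pow_mem_pow hx _)⟩
  obtain ⟨n, hn⟩ := hIJk
  obtain ⟨u, hu, v, hv, huv⟩ := Submodule.mem_sup.mp hn
  have huv0 : u * v ∈ qC := hk ((mul_pow I J k).symm ▸ Ideal.mul_mem_mul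
    (Ideal.pow_le_pow_right (Nat.le_succ k) hu) (Ideal.pow_le_pow_right (Nat.le_succ k) hv))
  have huI : u ∈ I := Ideal.pow_le_self (Nat.succ_ne_zero k) hu
  have hvJ : v ∈ J := Ideal.pow_le_self (Nat.succ_ne_zero k) hv
  have hP₁I : P₁.1 ≠ I := fun h => hne (Subtype.ext h.symm)
  have hP₁q : P₁.1.comap (algebraMap T C) = q := (congrArg Subtype.val hPP).symm
  have hvP₁ : v ∈ P₁.1 := Finset.inf_le (f := id)
    (Finset.mem_filter.mpr ⟨(Set.Finite.mem_toFinset _).mpr P₁.2, hP₁q, hP₁I⟩) hvJ
  -- approximate `u` in `T`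
  let N := 2 * n + 2
  have hradτ : (Ideal.span {algebraMap T C (t ^ N)}).radical = maximalIdeal C := by
    refine le_antisymm ((maximalIdeal.isMaximal C).isPrime.radical_le_iff.mpr
      ((Ideal.span_singleton_le_iff_mem _).mpr ?_)) ?_
    · rw [map_pow]; exact Ideal.pow_mem_of_mem _ hτm N (Nat.succ_pos _)
    · rw [← Ideal.sInf_minimalPrimes]
      refine le_sInf fun R hR => (hbig R hR.1.1 ?_).ge
      have h := hR.1.2 (Ideal.mem_span_singleton_self _)
      rw [map_pow] at h
      exact hR.1.1.mem_of_pow_mem N h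
  obtain ⟨K, hK⟩ := Ideal.exists_pow_le_of_le_radical_of_fg hradτ.ge (IsNoetherian.noetherian _)
  obtain ⟨a, ha⟩ := hsurj K u
  obtain ⟨e, he⟩ := Ideal.mem_span_singleton'.mp (hK ha)
  let L : Ideal T := Ideal.span {t ^ N} ⊔ q
  have hL : a * a - a * t ^ n ∈ L := by
    rw [← Ideal.comap_map_eq_self_of_faithfullyFlat (B := C) L, Ideal.mem_comap,
      Ideal.map_sup, Ideal.map_span, Set.image_singleton, Submodule.mem_sup]
    refine ⟨algebraMap T C (t ^ N) * (e * algebraMap T C (t ^ N) * e - 2 * u * e + τ ^ n * e), ?_,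
      -(u * v), neg_mem huv0, ?_⟩
    · exact Ideal.mul_mem_right _ _ (Ideal.mem_span_singleton_self _)
    · have ha' : algebraMap T C a = u - e * algebraMap T C (t ^ N) := by rw [he]; ring
      rw [map_sub, map_mul, map_mul, map_pow (algebraMap T C) t n, ha',
        show v = τ ^ n - u from eq_sub_of_add_eq' huv]
      ring
  obtain ⟨x, hx, y, hy, hxy⟩ := Submodule.mem_sup.mp hL
  obtain ⟨d, rfl⟩ := Ideal.mem_span_singleton'.mp hx
  -- Hensel
  let c := d * t ^ 2
  obtain ⟨r, hr, hr0⟩ := HenselianLocalRing.is_henselian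
    (Polynomial.X ^ 2 + (- Polynomial.X - Polynomial.C c))
    (Polynomial.monic_X_pow_add (by
      refine lt_of_le_of_lt (Polynomial.degree_sub_le _ _) ?_
      rw [Polynomial.degree_neg]
      exact max_lt (lt_of_le_of_lt Polynomial.degree_X_le (by decide))
        (lt_of_le_of_lt Polynomial.degree_C_le (by decide)))) 0
    (by simp only [Polynomial.eval_add, Polynomial.eval_pow, Polynomial.eval_X, Polynomial.eval_sub,
          Polynomial.eval_neg, Polynomial.eval_C]
        simpa [c] using (maximalIdeal T).mul_mem_left d (Ideal.pow_mem_of_mem _ htm 2 two_pos))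
    (by simp)
  have hrc : r ^ 2 - r = c := by
    have h : r ^ 2 + (-r - c) = 0 := by simpa [Polynomial.IsRoot] using hr
    linear_combination h
  have hroots : (a - r * t ^ n) * (a - (1 - r) * t ^ n) = y := by
    have hN : t ^ N = t ^ 2 * (t ^ n * t ^ n) := by rw [← pow_add, ← pow_add]; congr 1; omega
    have hxy' : d * t ^ N + y = a * a - a * t ^ n := hxy
    rw [hN] at hxy'
    linear_combination (-1 : T) * hxy' + (-(t ^ n * t ^ n)) * hrc
  have hτP : ∀ P : minimalPrimes C, τ ∉ P.1 := fun P h =>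
    htmin _ (hdown P.1 P.2) h
  have htop : ∀ P : minimalPrimes C, q ≤ P.1.comap (algebraMap T C) → ∀ w : C,
      τ ^ n * w ∈ P.1 → w ∈ P.1 := fun P _ w hw =>
    (P.2.1.1.mem_or_mem hw).resolve_left fun h => hτP P (P.2.1.1.mem_of_pow_mem n h)
  have hdiv : ∃ f : C, e * algebraMap T C (t ^ N) = τ ^ n * (τ * f) := ⟨e * τ ^ (n + 1), by
    rw [map_pow, show N = n + (1 + (n + 1)) by omega, pow_add, pow_add, pow_one]
    ring⟩
  obtain ⟨f, hf⟩ := hdiv
  have hcase : a - r * t ^ n ∈ q ∨ a - (1 - r) * t ^ n ∈ q :=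
    ‹q.IsPrime›.mem_or_mem (hroots ▸ hy)
  have hrC : algebraMap T C r ∈ maximalIdeal C := hcomap.ge (by simpa using hr0)
  rcases hcase with h | h
  · -- `u` is `tⁿ` times a nonunit, so lies in `P₁`
    let w : C := algebraMap T C r + τ * f
    have hw : w ∈ maximalIdeal C := add_mem hrC (Ideal.mul_mem_right _ _ hτm)
    have hqw : u - τ ^ n * w ∈ qC := by
      have := Ideal.mem_map_of_mem (algebraMap T C) h
      rw [map_sub, map_mul, map_pow] at this
      convert this using 1
      simp only [w, τ]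
      linear_combination (-1 : C) * he + hf
    have hwu : τ ^ n * (τ ^ n * (w * (w - 1))) ∈ qC := by
      have h1 : u * u - τ ^ n * u ∈ qC := by
        rw [show u * u - τ ^ n * u = -(u * v) by rw [show v = τ ^ n - u from eq_sub_of_add_eq' huv]; ring]
        exact neg_mem huv0
      have h2 : u * u - τ ^ n * u - τ ^ n * (τ ^ n * (w * (w - 1))) =
          (u - τ ^ n * w) * (u + τ ^ n * w - τ ^ n) := by ring
      have h3 : u * u - τ ^ n * u - τ ^ n * (τ ^ n * (w * (w - 1))) ∈ qC := h2 ▸ qC.mul_mem_right _ hqw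
      simpa using qC.sub_mem h1 h3
    have hP₁ : qC ≤ P₁.1 := Ideal.map_le_iff_le_comap.mpr hP₁q.ge
    have hw1 : w * (w - 1) ∈ P₁.1 := htop P₁ hP₁q.ge _ (htop P₁ hP₁q.ge _ (hP₁ hwu))
    have hwP : w ∈ P₁.1 := (P₁.2.1.1.mem_or_mem hw1).resolve_right fun hh => by
      have h1 : (1 : C) ∈ maximalIdeal C := by
        simpa using (maximalIdeal C).sub_mem hw (IsLocalRing.le_maximalIdeal P₁.2.1.1.ne_top hh)
      exact (maximalIdeal.isMaximal C).ne_top ((Ideal.eq_top_iff_one _).mpr h1)
    have huP : u ∈ P₁.1 := by simpa using P₁.1.add_mem (hP₁ hqw) (P₁.1.mul_mem_left (τ ^ n) hwP)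
    have : τ ^ n ∈ P₁.1 := huv ▸ P₁.1.add_mem huP hvP₁
    exact hτP P₁ (P₁.2.1.1.mem_of_pow_mem n this)
  · -- `u` is `tⁿ` times a unit, so avoids `P₀`
    let w : C := algebraMap T C (1 - r) + τ * f
    have hqw : u - τ ^ n * w ∈ qC := by
      have := Ideal.mem_map_of_mem (algebraMap T C) h
      rw [map_sub, map_mul, map_pow] at this
      convert this using 1
      simp only [w, τ]
      linear_combination (-1 : C) * he + hf
    have hI' : qC ≤ I := Ideal.map_le_iff_le_comap.mpr le_rfl
    have hwI : w ∈ I := htop P₀ le_rfl _ (by simpa using I.sub_mem huI (hI' hqw))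
    have h1 : (1 : C) ∈ maximalIdeal C := by
      have := (maximalIdeal C).add_mem ((maximalIdeal C).sub_mem (IsLocalRing.le_maximalIdeal P₀.2.1.1.ne_top hwI)
        (Ideal.mul_mem_right f _ hτm)) hrC
      simpa [w] using this
    exact (maximalIdeal.isMaximal C).ne_top ((Ideal.eq_top_iff_one _).mpr h1)

end Groth.Hensel1
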