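import Groth.Agent.Hensel1.Std
import Groth.Agent.Hensel1.Noetherian
import Groth.Agent.Hensel1.Transfer
import Mathlib.RingTheory.Unramified.Basic

/-!
# Étale neighbourhoods of a prime with trivial residue field extension
-/

set_option autoImplicit false

namespace Groth.Hensel1

open IsLocalRing TensorProduct

universe u v

variable {R : Type u} [CommRing R] {p : Ideal R} [p.IsPrime]

theorem ker_algebraMap_residueField' (p : Ideal R) [p.IsPrime] {a : R} :
    algebraMap R p.ResidueField a = 0 ↔ a ∈ p := Ideal.algebraMap_residueField_eq_zero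

/-- The kernel of a `κ(p)`-point lies over `p` with trivial residue extension. -/
theorem residueField_bijective_of_point {S : Type u} [CommRing S] [Algebra R S]
    (π : S →ₐ[R] p.ResidueField) (q : Ideal S) [q.IsPrime] (hker : RingHom.ker π.toRingHom = q) :
    ∃ hq : p = q.comap (algebraMap R S),
      Function.Bijective (Ideal.ResidueField.map p q (algebraMap R S) hq) := by
  subst hker
  have hq : p = (RingHom.ker π.toRingHom).comap (algebraMap R S) := by
    ext a
    show _ ↔ π (algebraMap R S a) = 0
    rw [π.commutes, ker_algebraMap_residueField' p]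
  refine ⟨hq, RingHom.injective _, ?_⟩
  let ψ : (RingHom.ker π.toRingHom).ResidueField →+* p.ResidueField :=
    Ideal.ResidueField.lift _ π.toRingHom le_rfl (fun x hx => isUnit_iff_ne_zero.mpr hx)
  have h : ψ.comp (Ideal.ResidueField.map p _ (algebraMap R S) hq) = RingHom.id _ := by
    refine Ideal.ResidueField.ringHom_ext (RingHom.ext fun a => ?_)
    simp only [RingHom.comp_apply, Ideal.ResidueField.map_algebraMap, RingHom.id_apply]
    exact (Ideal.ResidueField.lift_algebraMap ..).trans (π.commutes a)
  exact fun y => ⟨ψ y, ψ.injective (RingHom.congr_fun h (ψ y))⟩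

/-- A prime with trivial residue extension is the kernel of a point. -/
theorem exists_point {S : Type u} [CommRing S] [Algebra R S] (q : Ideal S) [q.IsPrime]
    (hq : p = q.comap (algebraMap R S))
    (hb : Function.Bijective (Ideal.ResidueField.map p q (algebraMap R S) hq)) :
    ∃ π : S →ₐ[R] p.ResidueField, RingHom.ker π.toRingHom = q := by
  let e := RingEquiv.ofBijective _ hb
  refine ⟨{ e.symm.toRingHom.comp (algebraMap S q.ResidueField) with commutes' := fun a => ?_ }, ?_⟩
  · show e.symm (algebraMap S q.ResidueField (algebraMap R S a)) = _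
    rw [e.symm_apply_eq]
    exact (Ideal.ResidueField.map_algebraMap ..).symm
  · ext x
    show e.symm (algebraMap S q.ResidueField x) = 0 ↔ _
    rw [map_eq_zero_iff _ e.symm.injective, Ideal.algebraMap_residueField_eq_zero]

/-- Two field valued homomorphisms with such a kernel coincide. -/
theorem point_unique {S : Type u} [CommRing S] [Algebra R S] (q : Ideal S) [q.IsPrime]
    (hq : p = q.comap (algebraMap R S))
    (hb : Function.Bijective (Ideal.ResidueField.map p q (algebraMap R S) hq))
    {K : Type v} [Field K] [Algebra R K] {f g : S →ₐ[R] K}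
    (hf : RingHom.ker f.toRingHom = q) (hg : RingHom.ker g.toRingHom = q) : f = g := by
  have lift : ∀ (f : S →ₐ[R] K), RingHom.ker f.toRingHom = q →
      ∃ F : q.ResidueField →+* K, ∀ x, F (algebraMap S _ x) = f x := fun f hf =>
    ⟨Ideal.ResidueField.lift _ f.toRingHom hf.ge
      (fun x hx => isUnit_iff_ne_zero.mpr fun h => hx (hf.le h)),
      fun x => Ideal.ResidueField.lift_algebraMap ..⟩
  obtain ⟨F, hF⟩ := lift f hf
  obtain ⟨G, hG⟩ := lift g hg
  have h : F.comp (Ideal.ResidueField.map p q (algebraMap R S) hq) =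
      G.comp (Ideal.ResidueField.map p q (algebraMap R S) hq) := by
    refine Ideal.ResidueField.ringHom_ext (RingHom.ext fun a => ?_)
    simp only [RingHom.comp_apply, Ideal.ResidueField.map_algebraMap, hF, hG, AlgHom.commutes]
  refine AlgHom.ext fun x => ?_
  obtain ⟨y, hy⟩ := hb.2 (algebraMap S q.ResidueField x)
  rw [← hF x, ← hG x, ← hy]
  exact RingHom.congr_fun h y

/-- Any two such neighbourhoods are dominated by a third. -/
theorem exists_pointed_dominating {S₁ S₂ : Type u} [CommRing S₁] [Algebra R S₁]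
    [Algebra.Etale R S₁] [CommRing S₂] [Algebra R S₂] [Algebra.Etale R S₂]
    (π₁ : S₁ →ₐ[R] p.ResidueField) (π₂ : S₂ →ₐ[R] p.ResidueField) :
    ∃ (S₃ : Type u) (_ : CommRing S₃) (_ : Algebra R S₃) (π : S₃ →ₐ[R] p.ResidueField)
      (φ₁ : S₁ →ₐ[R] S₃) (φ₂ : S₂ →ₐ[R] S₃),
      Algebra.Etale R S₃ ∧ π.comp φ₁ = π₁ ∧ π.comp φ₂ = π₂ :=
  ⟨S₁ ⊗[R] S₂, inferInstance, inferInstance,
    Algebra.TensorProduct.lift π₁ π₂ fun _ _ => Commute.all _ _,
    Algebra.TensorProduct.includeLeft, Algebra.TensorProduct.includeRight,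
    Algebra.Etale.comp R S₁ _, AlgHom.ext fun x => by simp, AlgHom.ext fun x => by simp⟩

/-- Parallel maps are coequalized. -/
theorem exists_pointed_coequalizing {S₁ S₂ : Type u} [CommRing S₁] [Algebra R S₁]
    [Algebra.Etale R S₁] [CommRing S₂] [Algebra R S₂] [Algebra.Etale R S₂]
    {K : Type u} [Field K] [Algebra R K] (π₂ : S₂ →ₐ[R] K) (φ ψ : S₁ →ₐ[R] S₂)
    (h : π₂.comp φ = π₂.comp ψ) :
    ∃ (e : S₂) (π : Localization.Away e →ₐ[R] K), Algebra.Etale R (Localization.Away e) ∧
      π.comp (IsScalarTower.toAlgHom R S₂ (Localization.Away e)) = π₂ ∧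
      (IsScalarTower.toAlgHom R S₂ (Localization.Away e)).comp φ =
        (IsScalarTower.toAlgHom R S₂ (Localization.Away e)).comp ψ := by
  set L := Algebra.TensorProduct.lift φ ψ fun _ _ => Commute.all _ _
  set e := L (Algebra.FormallyUnramified.elem R S₁)
  have hL : π₂.comp L = (π₂.comp φ).comp (Algebra.TensorProduct.lmul' R) := by
    refine Algebra.TensorProduct.ext (AlgHom.ext fun x => ?_) (AlgHom.ext fun x => ?_)
    · simp [L]
    · simpa [L] using (DFunLike.congr_fun h x).symm
  have he : π₂ e = 1 := by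
    have := DFunLike.congr_fun hL (Algebra.FormallyUnramified.elem R S₁)
    simpa [e, Algebra.FormallyUnramified.lmul_elem] using this
  have hu : IsUnit (π₂.toRingHom e) := by
    show IsUnit (π₂ e)
    rw [he]; exact isUnit_one
  have := Algebra.Etale.of_isLocalizationAway (R := S₂) (A := Localization.Away e) e
  refine ⟨e, IsLocalization.Away.liftAlgHom (f := π₂) e hu, Algebra.Etale.comp R S₂ _,
    AlgHom.ext fun y => ?_, AlgHom.ext fun x => ?_⟩
  · rw [AlgHom.comp_apply, IsScalarTower.coe_toAlgHom', IsLocalization.Away.liftAlgHom_apply]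
    exact IsLocalization.Away.lift_eq (S := Localization.Away e) (g := π₂.toRingHom) e hu y
  · have h0 : (ψ x - φ x) * e = 0 := by
      have := congr(L $(Algebra.FormallyUnramified.one_tmul_sub_tmul_one_mul_elem (R := R) x))
      simpa [L, e] using this
    show algebraMap S₂ (Localization.Away e) (φ x) = algebraMap S₂ (Localization.Away e) (ψ x)
    refine (IsLocalization.eq_iff_exists (Submonoid.powers e) _).2
      ⟨⟨e, Submonoid.mem_powers e⟩, ?_⟩
    show e * φ x = e * ψ x
    linear_combination -h0

section Henselization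

variable (Rh : Type u) [CommRing Rh] [IsLocalRing Rh] [Algebra (Localization.AtPrime p) Rh]
  [IsLocalHom (algebraMap (Localization.AtPrime p) Rh)]
  [hH : Hensel.IsHenselization (Localization.AtPrime p) Rh] [Algebra R Rh]
  [IsScalarTower R (Localization.AtPrime p) Rh]

/-- The comparison with `Hens R κ(p)`. -/
theorem exists_hens_comparison :
    ∃ (τ : p.ResidueField →ₐ[R] ResidueField Rh) (Φ : Hens R p.ResidueField →ₐ[R] Rh),
      Function.Bijective Φ ∧ ∀ x, residue Rh (Φ x) = τ (Hens.pt x) := by
  have := hH.henselian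
  obtain ⟨M⟩ := hensModel_of_isHenselization (R := Localization.AtPrime p) (S := Rh)
  let τ : p.ResidueField →ₐ[R] ResidueField Rh :=
    { (IsLocalRing.ResidueField.map (algebraMap (Localization.AtPrime p) Rh) :
        p.ResidueField →+* ResidueField Rh) with
      commutes' := fun r => by
        show ResidueField.map (algebraMap (Localization.AtPrime p) Rh)
          (residue (Localization.AtPrime p) (algebraMap R _ r)) = _
        rw [ResidueField.map_residue, ← IsScalarTower.algebraMap_apply]
        rfl }
  obtain ⟨Φ, hΦ, -⟩ := Hens.existsUnique_lift (R := R) (Ω := p.ResidueField) (T := Rh) τ.toRingHom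
    (fun r => τ.commutes r)
  have hu : ∀ a : p.primeCompl, IsUnit (algebraMap R (Hens R p.ResidueField) a) := fun a => by
    rw [Hens.isUnit_iff, AlgHom.commutes]
    exact fun h => a.2 ((ker_algebraMap_residueField' p).mp h)
  let f : Localization.AtPrime p →+* Hens R p.ResidueField := IsLocalization.lift hu
  have hfpt : ∀ z, Hens.pt (f z) = residue (Localization.AtPrime p) z := fun z => by
    have : (Hens.pt (R := R) (Ω := p.ResidueField)).toRingHom.comp f =
        residue (Localization.AtPrime p) := by
      refine IsLocalization.ringHom_ext p.primeCompl (RingHom.ext fun a => ?_)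
      show Hens.pt (f (algebraMap R _ a)) = _
      rw [IsLocalization.lift_eq, AlgHom.commutes]
      rfl
    exact RingHom.congr_fun this z
  have hloc : IsLocalHom f := ⟨fun z hz => by
    rw [Hens.isUnit_iff, hfpt] at hz
    exact residue_ne_zero_iff_isUnit z |>.mp hz⟩
  obtain ⟨Ψ, hΨ, -⟩ := hH.universal (Hens R p.ResidueField) f hloc
  have hΨR : ∀ r, Ψ (algebraMap R Rh r) = algebraMap R _ r := fun r => by
    rw [IsScalarTower.algebraMap_apply R (Localization.AtPrime p) Rh, ← RingHom.comp_apply, hΨ,
      IsLocalization.lift_eq]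
  let Ψₐ : Rh →ₐ[R] Hens R p.ResidueField := { Ψ with commutes' := hΨR }
  have hΨm : ∀ y ∈ maximalIdeal Rh, Hens.pt (Ψ y) = 0 := by
    intro y hy
    rw [← M.map_maximalIdeal] at hy
    have h1 : (maximalIdeal (Localization.AtPrime p)).map (algebraMap _ Rh) ≤
        RingHom.ker ((Hens.pt (R := R) (Ω := p.ResidueField)).toRingHom.comp Ψ) := by
      rw [Ideal.map_le_iff_le_comap]
      intro z hz
      show Hens.pt (Ψ (algebraMap _ Rh z)) = 0
      rw [← RingHom.comp_apply, hΨ, hfpt, (residue_eq_zero_iff z).mpr hz]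
    exact h1 hy
  let π' : ResidueField Rh →+* p.ResidueField :=
    Ideal.Quotient.lift (maximalIdeal Rh) ((Hens.pt (R := R) (Ω := p.ResidueField)).toRingHom.comp Ψ) hΨm
  have hπ' : π'.comp τ.toRingHom = RingHom.id _ := by
    refine Ideal.ResidueField.ringHom_ext (RingHom.ext fun a => ?_)
    show π' (τ (algebraMap R _ a)) = algebraMap R _ a
    rw [τ.commutes]
    show Hens.pt (Ψ (algebraMap R Rh a)) = _
    rw [hΨR, AlgHom.commutes]
  have hΨΦ : Ψₐ.comp Φ = AlgHom.id R _ := by
    let e := RingEquiv.ofBijective (Hens.residuePt (R := R) (Ω := p.ResidueField))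
      ⟨RingHom.injective _, fun y => by
        obtain ⟨z, rfl⟩ := residue_surjective (R := Localization.AtPrime p) y
        exact ⟨residue _ (f z), hfpt z⟩⟩
    have he : ∀ x, e.symm (Hens.pt x) = residue _ x := fun x => by
      rw [e.symm_apply_eq]; rfl
    obtain ⟨g, -, huniq⟩ := Hens.existsUnique_lift (R := R) (Ω := p.ResidueField)
      (T := Hens R p.ResidueField) e.symm.toRingHom (fun r => by
        show e.symm (algebraMap R p.ResidueField r) = _
        rw [← (Hens.pt (R := R) (Ω := p.ResidueField)).commutes r, he])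
    have h1 : ∀ x, Hens.pt (Ψ (Φ x)) = Hens.pt x := fun x => by
      show π' (residue Rh (Φ x)) = _
      rw [hΦ]
      exact RingHom.congr_fun hπ' (Hens.pt x)
    have h2 := huniq (Ψₐ.comp Φ) fun x => by
      show residue _ (Ψ (Φ x)) = e.symm (Hens.pt x)
      rw [he, Hens.residue_eq_iff]
      exact h1 x
    have h3 := huniq (AlgHom.id R _) fun x => (he x).symm
    rw [h2, h3]
  have hΦΨ : Φ.toRingHom.comp Ψ = RingHom.id Rh := by
    obtain ⟨g, -, huniq⟩ := hH.universal Rh (algebraMap _ Rh) inferInstance
    have h1 := huniq (Φ.toRingHom.comp Ψ) (by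
      refine IsLocalization.ringHom_ext p.primeCompl (RingHom.ext fun r => ?_)
      show Φ (Ψ (algebraMap _ Rh (algebraMap R (Localization.AtPrime p) r))) =
        algebraMap _ Rh (algebraMap R (Localization.AtPrime p) r)
      rw [← IsScalarTower.algebraMap_apply, hΨR, AlgHom.commutes])
    have h2 := huniq (RingHom.id Rh) (RingHom.id_comp _)
    rw [h1, h2]
  exact ⟨τ, Φ, ⟨fun x y hxy => by
      have := congr_arg Ψₐ hxy
      rwa [← AlgHom.comp_apply, ← AlgHom.comp_apply, hΨΦ] at this,
    fun y => ⟨Ψ y, RingHom.congr_fun hΦΨ y⟩⟩, hΦ⟩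

end Henselization

end Groth.Hensel1
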