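import Groth.Agent.Hensel1.EtaleTransfer
import Groth.Agent.Hensel1.PointPairs
import Groth.Agent.Hensel1.Noetherian
import Groth.Agent.Sga3.HensPoint

/-!
# `Hens R Ω` at a prime, and minimal primes seen on étale neighbourhoods
-/

set_option autoImplicit false

namespace Groth.Hensel1

open IsLocalRing

universe u

/-- `Hens R Ω` is a strict henselization of `R_p` for `Ω` a separable closure of `κ(p)`. -/
theorem isStrictHenselization_hens_atPrime {R : Type u} [CommRing R] (p : Ideal R) [p.IsPrime]
    (Ω : Type u) [Field Ω] [Algebra R Ω] [Algebra p.ResidueField Ω]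
    [IsScalarTower R p.ResidueField Ω] [Algebra.IsSeparable p.ResidueField Ω] [IsSepClosed Ω] :
    ∃ (_ : Algebra (Localization.AtPrime p) (Hens R Ω))
      (_ : IsScalarTower R (Localization.AtPrime p) (Hens R Ω))
      (_ : IsLocalHom (algebraMap (Localization.AtPrime p) (Hens R Ω))),
      Hensel.IsStrictHenselization (Localization.AtPrime p) (Hens R Ω) := by
  have hu : ∀ a : p.primeCompl, IsUnit (algebraMap R (Hens R Ω) a) := fun a => by
    rw [Hens.isUnit_iff, AlgHom.commutes]
    exact Groth.Sga3.HensPoint.algebraMap_ne_zero p a.2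
  let _ : Algebra (Localization.AtPrime p) (Hens R Ω) := (IsLocalization.lift hu).toAlgebra
  have : IsScalarTower R (Localization.AtPrime p) (Hens R Ω) :=
    .of_algebraMap_eq fun r => (IsLocalization.lift_eq hu r).symm
  have hpt : ∀ z, Hens.pt (algebraMap (Localization.AtPrime p) (Hens R Ω) z) =
      algebraMap p.ResidueField Ω (residue (Localization.AtPrime p) z) := fun z => by
    have : (Hens.pt (R := R) (Ω := Ω)).toRingHom.comp
        (algebraMap (Localization.AtPrime p) (Hens R Ω)) =
        (algebraMap p.ResidueField Ω).comp (residue (Localization.AtPrime p)) := by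
      refine IsLocalization.ringHom_ext p.primeCompl (RingHom.ext fun a => ?_)
      show Hens.pt (algebraMap (Localization.AtPrime p) (Hens R Ω) (algebraMap R _ a)) = _
      rw [← IsScalarTower.algebraMap_apply, AlgHom.commutes,
        IsScalarTower.algebraMap_apply R p.ResidueField Ω]
      rfl
    exact RingHom.congr_fun this z
  have hloc : IsLocalHom (algebraMap (Localization.AtPrime p) (Hens R Ω)) := ⟨fun z hz => by
    rw [Hens.isUnit_iff, hpt, map_ne_zero] at hz
    exact (residue_ne_zero_iff_isUnit z).mp hz⟩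
  refine ⟨inferInstance, inferInstance, hloc, inferInstance, ⟨?_, ?_⟩, ?_⟩
  · exact Groth.Sga3.HensPoint.isSepClosed_residueField p
  · let e : ResidueField (Hens R Ω) →ₐ[ResidueField (Localization.AtPrime p)] Ω :=
      { Hens.residuePt with
        commutes' := fun c => by
          obtain ⟨z, rfl⟩ := residue_surjective c
          exact hpt z }
    exact Algebra.IsSeparable.of_algHom _ _ e
  · intro T _ _ f _ τ hτ
    let _ : Algebra R T := (f.comp (algebraMap R (Localization.AtPrime p))).toAlgebra
    let σ := RingEquiv.ofBijective (Hens.residuePt (R := R) (Ω := Ω))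
      ⟨RingHom.injective _, fun a => by
        obtain ⟨x, hx⟩ := Groth.Sga3.HensPoint.pt_surjective p a
        exact ⟨residue _ x, hx⟩⟩
    have hσ : ∀ x, σ.symm (Hens.pt x) = residue _ x := fun x => by
      rw [σ.symm_apply_eq]; rfl
    obtain ⟨g, hg, huniq⟩ := Hens.existsUnique_lift (T := T) (τ.comp σ.symm.toRingHom) (fun r => by
      show τ (σ.symm (algebraMap R Ω r)) = _
      rw [← (Hens.pt (R := R) (Ω := Ω)).commutes r, hσ]
      have h := RingHom.congr_fun hτ (residue _ (algebraMap R (Localization.AtPrime p) r))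
      rw [RingHom.comp_apply, ResidueField.map_residue, ← IsScalarTower.algebraMap_apply] at h
      exact h)
    have hg' : ∀ x, residue T (g x) = τ (residue _ x) := fun x => by
      rw [hg]; show τ (σ.symm _) = _; rw [hσ]
    refine ⟨g.toRingHom, ⟨IsLocalization.ringHom_ext p.primeCompl (RingHom.ext fun a => ?_), hg'⟩,
      fun g' ⟨hg'₁, hg'₂⟩ => ?_⟩
    · show g (algebraMap _ _ (algebraMap R (Localization.AtPrime p) a)) = _
      rw [← IsScalarTower.algebraMap_apply, AlgHom.commutes]
      rfl
    · have hc : ∀ r, g' (algebraMap R (Hens R Ω) r) = algebraMap R T r := fun r => by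
        rw [IsScalarTower.algebraMap_apply R (Localization.AtPrime p), ← RingHom.comp_apply, hg'₁]
        rfl
      have : ({ g' with commutes' := hc } : Hens R Ω →ₐ[R] T) = g := huniq _ fun x => by
        show residue T (g' x) = τ (σ.symm _)
        rw [hσ, hg'₂]
      rw [← this]

/-- A henselization of a residually trivial essentially étale local algebra is one of the base. -/
theorem isHenselization_of_essentiallyEtale {A B : Type u} [CommRing A] [IsLocalRing A]
    [CommRing B] [IsLocalRing B] [Algebra A B] [IsLocalHom (algebraMap A B)]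
    (h : EGA4loc.IsEssentiallyEtale A B)
    (hres : Function.Surjective (ResidueField.map (algebraMap A B)))
    (T : Type u) [CommRing T] [IsLocalRing T] [Algebra B T] [IsLocalHom (algebraMap B T)]
    [Hensel.IsHenselization B T] [Algebra A T] [IsScalarTower A B T]
    [IsLocalHom (algebraMap A T)] : Hensel.IsHenselization A T := by
  have hT := (inferInstance : Hensel.IsHenselization B T)
  let e := RingEquiv.ofBijective (ResidueField.map (algebraMap A B)) ⟨RingHom.injective _, hres⟩
  refine ⟨hT.henselian, fun U _ _ f hf => ?_⟩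
  have he : ∀ a, e.symm (residue B (algebraMap A B a)) = residue A a := fun a => by
    rw [e.symm_apply_eq]; exact (ResidueField.map_residue (algebraMap A B) a).symm
  obtain ⟨ψ, ⟨hψ, hψr⟩, hψu⟩ := existsUnique_ringHom_of_essentiallyEtale h f
    ((ResidueField.map f).comp e.symm.toRingHom) (fun a => by
      show ResidueField.map f (e.symm (residue B (algebraMap A B a))) = _
      rw [he, ResidueField.map_residue])
  have : IsLocalHom ψ := ⟨fun x hx => by
    have h2 : residue U (ψ x) ≠ 0 := (residue_ne_zero_iff_isUnit _).mpr hx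
    rw [hψr, map_ne_zero] at h2
    exact (residue_ne_zero_iff_isUnit _).mp h2⟩
  obtain ⟨g, hg, hgu⟩ := hT.universal U ψ inferInstance
  refine ⟨g, ?_, fun g' hg' => hgu g' ?_⟩
  · show g.comp (algebraMap A T) = f
    rw [IsScalarTower.algebraMap_eq A B T, ← RingHom.comp_assoc, hg, hψ]
  · refine hψu _ ⟨?_, fun x => ?_⟩
    · show (g'.comp (algebraMap B T)).comp (algebraMap A B) = f
      rw [RingHom.comp_assoc, ← IsScalarTower.algebraMap_eq]
      exact hg'
    obtain ⟨c, hc⟩ := hres (residue B x)
    obtain ⟨a, rfl⟩ := residue_surjective c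
    rw [ResidueField.map_residue] at hc
    show residue U (g' (algebraMap B T x)) = ResidueField.map f (e.symm (residue B x))
    rw [← hc, he, ResidueField.map_residue, ← sub_eq_zero, ← hg', RingHom.comp_apply, ← map_sub,
      ← map_sub, residue_eq_zero_iff, IsScalarTower.algebraMap_apply A B T, ← map_sub]
    -- the difference lies in the maximal ideal of `A` extended
    have hx : x - algebraMap A B a ∈ maximalIdeal B := by
      rw [← residue_eq_zero_iff, map_sub, hc, sub_self]
    obtain ⟨C, _, _, q, _, _, hqm, ⟨ε⟩⟩ := h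
    have hm : (maximalIdeal A).map (algebraMap A B) = maximalIdeal B := by
      have h1 := map_maximalIdeal_atPrime A C q hqm
      have h2 := congrArg (Ideal.map ε.symm.toAlgHom.toRingHom) h1
      rw [IsLocalRing.map_maximalIdeal_of_surjective ε.symm.toAlgHom.toRingHom ε.symm.surjective,
        Ideal.map_map] at h2
      rw [← h2]
      congr 1
      exact RingHom.ext fun a => (ε.symm.commutes a).symm
    rw [← hm] at hx
    refine (Ideal.map_le_iff_le_comap.mpr fun z hz => ?_ :
      (maximalIdeal A).map (algebraMap A B) ≤ (maximalIdeal U).comap (g'.comp (algebraMap B T))) hx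
    show g' (algebraMap B T (algebraMap A B z)) ∈ maximalIdeal U
    rw [← IsScalarTower.algebraMap_apply, ← RingHom.comp_apply, hg']
    exact map_nonunit f z hz

/-- Minimal primes can only increase along faithfully flat maps. -/
theorem card_minimalPrimes_le_of_faithfullyFlat (A B : Type u) [CommRing A] [CommRing B] [Algebra A B]
    [Module.FaithfullyFlat A B] : ENat.card (minimalPrimes A) ≤ ENat.card (minimalPrimes B) := by
  have key : ∀ P : minimalPrimes A, ∃ q : minimalPrimes B, q.1.comap (algebraMap A B) = P.1 := fun P => by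
    obtain ⟨Q, hQ⟩ := PrimeSpectrum.comap_surjective_of_faithfullyFlat (A := A) (B := B) ⟨P.1, P.2.1.1⟩
    obtain ⟨q, hq, hle⟩ := Ideal.exists_minimalPrimes_le (I := (⊥ : Ideal B)) (J := Q.asIdeal) bot_le
    have h : Q.asIdeal.comap (algebraMap A B) = P.1 := congrArg PrimeSpectrum.asIdeal hQ
    have h1 : q.comap (algebraMap A B) ≤ P.1 := h ▸ Ideal.comap_mono hle
    exact ⟨⟨q, hq⟩, le_antisymm h1 (P.2.2 ⟨hq.1.1.comap _, bot_le⟩ h1)⟩
  choose f hf using key
  exact ENat.card_le_card_of_injective (f := f)
    fun P P' h => Subtype.ext ((hf P).symm.trans (h ▸ hf P'))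

/-- Finitely many minimal primes of `Hens R Ω` are separated on one étale neighbourhood. -/
theorem Hens.exists_le_card_minimalPrimes {R : Type u} [CommRing R] {Ω : Type u} [Field Ω]
    [Algebra R Ω] (n : ℕ) (hn : (n : ℕ∞) ≤ ENat.card (minimalPrimes (Hens R Ω))) :
    ∃ i : HensIdx R Ω, (n : ℕ∞) ≤ ENat.card (minimalPrimes i.Obj) := by
  classical
  obtain ⟨s, -, hs⟩ := Set.exists_subset_encard_eq (k := (n : ℕ∞))
    (s := (Set.univ : Set (minimalPrimes (Hens R Ω)))) (by rwa [Set.encard_univ])
  have : Finite s := (Set.finite_of_encard_eq_coe hs).to_subtype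
  have hsep : ∀ jl : {jl : s × s // jl.1 ≠ jl.2}, ∃ a : Hens R Ω, a ∈ jl.1.1.1.1 ∧ a ∉ jl.1.2.1.1 :=
    fun ⟨⟨j, l⟩, hjl⟩ => Set.not_subset.mp fun h : (j.1.1 : Set (Hens R Ω)) ⊆ l.1.1 => hjl
      (Subtype.ext (Subtype.ext (le_antisymm h (l.1.2.2 j.1.2.1 h))))
  choose a ha ha' using hsep
  obtain ⟨i, y, hy⟩ := Hens.exists_of_fintype a
  have hff := Hens.faithfullyFlat_of i
  let _ := (Hens.of i).toRingHom.toAlgebra
  have hflat : Module.FaithfullyFlat i.Obj (Hens R Ω) := hff
  have hdown : ∀ Q ∈ minimalPrimes (Hens R Ω), Q.comap (algebraMap i.Obj (Hens R Ω)) ∈ minimalPrimes i.Obj := by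
    intro q hq
    have : q.IsPrime := hq.1.1
    obtain ⟨P, hP, hPle⟩ := Ideal.exists_minimalPrimes_le (I := (⊥ : Ideal i.Obj))
      (J := q.comap (algebraMap i.Obj (Hens R Ω))) bot_le
    have : P.IsPrime := hP.1.1
    have hlo : q.LiesOver (q.comap (algebraMap i.Obj (Hens R Ω))) := ⟨rfl⟩
    obtain ⟨Q, hQle, hQp, hQo⟩ := Ideal.exists_ideal_le_liesOver_of_le (p := P)
      (q := q.comap (algebraMap i.Obj (Hens R Ω))) q hPle
    have hQq : Q = q := le_antisymm hQle (hq.2 ⟨hQp, bot_le⟩ hQle)
    have h2 : P = q.comap (algebraMap i.Obj (Hens R Ω)) := by rw [hQo.over, hQq]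
    rwa [← h2]
  refine ⟨i, hs ▸ ?_⟩
  rw [← ENat.card_coe_set_eq]
  refine ENat.card_le_card_of_injective
    (f := fun j : s => (⟨_, hdown j.1.1 j.1.2⟩ : minimalPrimes i.Obj)) fun j l h => ?_
  by_contra hne
  refine ha' ⟨(j, l), hne⟩ ?_
  rw [← hy ⟨(j, l), hne⟩]
  have h' : j.1.1.comap (algebraMap i.Obj (Hens R Ω)) = l.1.1.comap (algebraMap i.Obj (Hens R Ω)) :=
    congrArg Subtype.val h
  show y ⟨(j, l), hne⟩ ∈ l.1.1.comap (algebraMap i.Obj (Hens R Ω))
  rw [← h']
  show Hens.of i (y ⟨(j, l), hne⟩) ∈ j.1.1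
  rw [hy]
  exact ha ⟨(j, l), hne⟩

end Groth.Hensel1
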