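import Mathlib.RingTheory.Henselian
import Mathlib.RingTheory.ZariskisMainTheorem
import Mathlib.RingTheory.Etale.StandardEtale
import Mathlib.RingTheory.Polynomial.UniversalFactorizationRing
import Mathlib.RingTheory.Ideal.Pure
import Mathlib.RingTheory.Unramified.LocalStructure
import Mathlib.RingTheory.Smooth.Flat
import Mathlib.RingTheory.Localization.Away.Lemmas
import Mathlib.LinearAlgebra.Matrix.Charpoly.LinearMap

/-!
# Lifting sections of étale algebras along henselian pairs

`Gabber I`: `I` lies in the Jacobson radical and every polynomial `Tⁿ(T-1) + p`, with the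
coefficients of `p` in `I`, has a root congruent to `1`. This follows from `HenselianRing A I` and
implies that points `C → A/I` of étale `A`-algebras `C` lift uniquely to `A`.
-/

set_option autoImplicit false

namespace Groth.Hensel1

open Polynomial

universe u v

/-- Gabber's criterion for a henselian pair. -/
structure Gabber {A : Type*} [CommRing A] (I : Ideal A) : Prop where
  jac : I ≤ Ideal.jacobson ⊥
  root : ∀ n : ℕ, 0 < n → ∀ p : A[X], p.natDegree ≤ n → (∀ i, p.coeff i ∈ I) →
    ∃ α : A, α - 1 ∈ I ∧ (X ^ n * (X - 1) + p).IsRoot α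

section Basic

variable {A : Type*} [CommRing A] {I : Ideal A}

lemma isUnit_of_sub_one_mem {x : A} (hI : I ≤ Ideal.jacobson ⊥) (h : x - 1 ∈ I) : IsUnit x := by
  simpa using Ideal.mem_jacobson_bot.mp (hI h) 1

lemma isUnit_of_isUnit_mk {x : A} (hI : I ≤ Ideal.jacobson ⊥)
    (h : IsUnit (Ideal.Quotient.mk I x)) : IsUnit x :=
  have := isLocalHom_of_le_jacobson_bot I hI
  IsUnit.of_map (Ideal.Quotient.mk I) x h

lemma eval_mem_of_coeff_mem {p : A[X]} (hp : ∀ i, p.coeff i ∈ I) (a : A) : p.eval a ∈ I := by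
  rw [eval_eq_sum, sum_def]
  exact Ideal.sum_mem _ fun i _ => Ideal.mul_mem_right _ _ (hp i)

lemma gabber_of_henselianRing [h : HenselianRing A I] : Gabber I := by
  refine ⟨h.jac, fun n hn p hp hpI => ?_⟩
  rcases subsingleton_or_nontrivial A with hA | hA
  · exact ⟨1, by simp, Subsingleton.elim _ _⟩
  have hm : (X ^ n * (X - 1) + p : A[X]).Monic := by
    refine Monic.add_of_left ((monic_X_pow n).mul (monic_X_sub_C 1)) ?_
    refine lt_of_le_of_lt degree_le_natDegree ?_
    rw [← C_1, (monic_X_sub_C (1 : A)).degree_mul, degree_X_pow, degree_X_sub_C]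
    exact_mod_cast Nat.lt_succ_of_le hp
  obtain ⟨α, hα, hαI⟩ := h.is_henselian _ hm 1
    (by simpa using eval_mem_of_coeff_mem hpI 1) (by
      have h' : p.derivative.eval 1 ∈ I :=
        eval_mem_of_coeff_mem (fun i => by
          rw [coeff_derivative]; exact Ideal.mul_mem_right _ _ (hpI _)) 1
      simp [Ideal.Quotient.eq_zero_iff_mem.mpr h'])
  exact ⟨α, hαI, hα⟩

lemma ideal_eq_bot_of_pure {J : Ideal A} [J.Pure] (hJ : J ≤ Ideal.jacobson ⊥) : J = ⊥ := by
  refine eq_bot_iff.mpr fun x hx => ?_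
  obtain ⟨y, hy, e⟩ := Ideal.exists_eq_mul_of_pure hx
  have hu : IsUnit (1 - y) := by simpa [sub_eq_neg_add] using Ideal.mem_jacobson_bot.mp (hJ hy) (-1)
  have : x * (1 - y) = 0 := by rw [mul_sub, mul_one, ← e, sub_self]
  simpa using hu.mul_left_eq_zero.mp this

end Basic

section Finite

variable {A : Type u} [CommRing A] {I : Ideal A} {B : Type v} [CommRing B] [Algebra A B]

/-- The kernel of a point `σ : B → A/I` at which `B` is unramified is idempotent modulo `IB`. -/
lemma ker_le_sq_sup (σ : B →ₐ[A] A ⧸ I) (Δ : B) (C : Type*) [CommRing C] [Algebra A C]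
    [Algebra B C] [IsScalarTower A B C] [IsLocalization.Away Δ C]
    [Algebra.FormallyUnramified A C] (hΔ : IsUnit (σ Δ)) :
    RingHom.ker σ ≤ RingHom.ker σ ^ 2 ⊔ I.map (algebraMap A B) := by
  set K : Ideal B := RingHom.ker σ with hK
  set J : Ideal B := K ^ 2 ⊔ I.map (algebraMap A B) with hJ
  have hIJ : ∀ a ∈ I, algebraMap A (B ⧸ J) a = 0 := fun a ha => by
    rw [IsScalarTower.algebraMap_apply A B (B ⧸ J), Ideal.Quotient.algebraMap_eq,
      Ideal.Quotient.eq_zero_iff_mem]
    exact Ideal.mem_sup_right (Ideal.mem_map_of_mem _ ha)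
  obtain ⟨c, hc⟩ := Ideal.Quotient.mk_surjective (↑hΔ.unit⁻¹ : A ⧸ I)
  have hΔ' : IsUnit (Ideal.Quotient.mk J Δ) := by
    have h1 : Δ * algebraMap A B c - 1 ∈ K := by
      rw [RingHom.mem_ker, map_sub, map_mul, AlgHom.commutes, Ideal.Quotient.algebraMap_eq, hc,
        IsUnit.mul_val_inv, map_one, sub_self]
    have h2 : Ideal.Quotient.mk J ((Δ * algebraMap A B c - 1) ^ 2) = 0 :=
      Ideal.Quotient.eq_zero_iff_mem.mpr (Ideal.mem_sup_left (Ideal.pow_mem_pow h1 2))
    refine IsUnit.of_mul_eq_one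
      (Ideal.Quotient.mk J (algebraMap A B c * (2 - Δ * algebraMap A B c))) ?_
    simp only [map_pow, map_sub, map_mul, map_one, map_ofNat] at h2 ⊢
    linear_combination -h2
  let φ₁ : C →ₐ[A] B ⧸ J :=
    IsLocalization.Away.liftAlgHom (f := Ideal.Quotient.mkₐ A J) Δ hΔ'
  let σC : C →ₐ[A] A ⧸ I := IsLocalization.Away.liftAlgHom (f := σ) Δ hΔ
  let φ₂ : C →ₐ[A] B ⧸ J := (Ideal.Quotient.liftₐ I (Algebra.ofId A (B ⧸ J)) hIJ).comp σC
  have hN : IsNilpotent (K.map (Ideal.Quotient.mk J)) := by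
    refine ⟨2, ?_⟩
    rw [← Ideal.map_pow, Submodule.zero_eq_bot, Ideal.map_eq_bot_iff_le_ker, Ideal.mk_ker]
    exact le_sup_left
  have e1 : ∀ y, φ₁ (algebraMap B C y) = Ideal.Quotient.mk J y := fun y =>
    IsLocalization.Away.lift_eq Δ hΔ' y
  have e2 : ∀ y, σC (algebraMap B C y) = σ y := fun y =>
    IsLocalization.Away.lift_eq Δ hΔ y
  have key : φ₁ = φ₂ := by
    refine Algebra.FormallyUnramified.ext (I := K.map (Ideal.Quotient.mk J)) hN fun x => ?_
    refine DFunLike.congr_fun (IsLocalization.algHom_ext (Submonoid.powers Δ)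
      (f := (Ideal.Quotient.mkₐ A (K.map (Ideal.Quotient.mk J))).comp φ₁)
      (g := (Ideal.Quotient.mkₐ A (K.map (Ideal.Quotient.mk J))).comp φ₂) ?_) x
    ext y
    obtain ⟨a, ha⟩ := Ideal.Quotient.mk_surjective (σ y)
    have : y - algebraMap A B a ∈ K := by
      simp [hK, RingHom.mem_ker, ← ha]
    have e3 : Ideal.Quotient.liftₐ I (Algebra.ofId A (B ⧸ J)) hIJ (Ideal.Quotient.mk I a) =
        Ideal.Quotient.mk J (algebraMap A B a) :=
      (AlgHom.commutes _ a).trans (IsScalarTower.algebraMap_apply A B (B ⧸ J) a)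
    show Ideal.Quotient.mk _ (φ₁ (algebraMap B C y)) =
      Ideal.Quotient.mk _ (Ideal.Quotient.liftₐ I (Algebra.ofId A (B ⧸ J)) hIJ (σC (algebraMap B C y)))
    rw [e1, e2, ← ha, e3, Ideal.Quotient.eq, ← map_sub]
    exact Ideal.mem_map_of_mem _ this
  intro x hx
  have h := DFunLike.congr_fun key (algebraMap B C x)
  simpa [e1, φ₂, e2, RingHom.mem_ker.mp hx, Ideal.Quotient.eq_zero_iff_mem] using h

variable [Module.Finite A B]

lemma exists_eq_span_sup_of_finite (σ : B →ₐ[A] A ⧸ I) :
    ∃ F : Ideal B, F.FG ∧ RingHom.ker σ = F ⊔ I.map (algebraMap A B) := by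
  classical
  obtain ⟨n, s, hs⟩ := Module.Finite.exists_fin (R := A) (M := B)
  choose a ha using fun i => Ideal.Quotient.mk_surjective (σ (s i))
  set F : Ideal B := Ideal.span (Set.range fun i => s i - algebraMap A B (a i)) with hF
  refine ⟨F, Submodule.fg_span (Set.finite_range _), le_antisymm ?_ ?_⟩
  · intro x hx
    obtain ⟨c, rfl⟩ := (Submodule.mem_span_range_iff_exists_fun A).mp (hs ▸ Submodule.mem_top : x ∈ _)
    have hI : (∑ i, c i * a i) ∈ I := by
      rw [← Ideal.Quotient.eq_zero_iff_mem]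
      simpa [Algebra.smul_def, ha] using RingHom.mem_ker.mp hx
    have : ∑ i, c i • s i = (∑ i, algebraMap A B (c i) * (s i - algebraMap A B (a i))) +
        algebraMap A B (∑ i, c i * a i) := by
      simp [mul_sub, Algebra.smul_def, map_sum, map_mul]
    rw [this]
    exact add_mem (Ideal.mem_sup_left
      (Ideal.sum_mem _ fun i _ => Ideal.mul_mem_left _ _ (Ideal.subset_span ⟨i, rfl⟩)))
      (Ideal.mem_sup_right (Ideal.mem_map_of_mem _ hI))
  · refine sup_le (Ideal.span_le.mpr ?_) (Ideal.map_le_iff_le_comap.mpr fun x hx => ?_)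
    · rintro _ ⟨i, rfl⟩
      simp [ha]
    · simpa [RingHom.mem_ker] using Ideal.Quotient.eq_zero_iff_mem.mpr hx

/-- A point of a finite algebra at which it is étale splits off modulo `IB`. -/
lemma exists_idempotent_mod (σ : B →ₐ[A] A ⧸ I) (Δ : B) (C : Type*) [CommRing C] [Algebra A C]
    [Algebra B C] [IsScalarTower A B C] [IsLocalization.Away Δ C]
    [Algebra.FormallyUnramified A C] (hΔ : IsUnit (σ Δ)) :
    ∃ b : B, σ b = 1 ∧ b * b - b ∈ I.map (algebraMap A B) ∧
      ∀ x : B, σ x = 0 → b * x ∈ I.map (algebraMap A B) := by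
  set J := I.map (algebraMap A B) with hJ
  obtain ⟨F, hFfg, hF⟩ := exists_eq_span_sup_of_finite σ
  have hmap : (RingHom.ker σ).map (Ideal.Quotient.mk J) = F.map (Ideal.Quotient.mk J) := by
    rw [hF, Ideal.map_sup, Ideal.map_quotient_self, sup_bot_eq]
  have hid : IsIdempotentElem ((RingHom.ker σ).map (Ideal.Quotient.mk J)) := by
    refine le_antisymm Ideal.mul_le_left ?_
    have := Ideal.map_mono (f := Ideal.Quotient.mk J) (ker_le_sq_sup σ Δ C hΔ)
    rwa [Ideal.map_sup, Ideal.map_quotient_self, sup_bot_eq, pow_two, Ideal.map_mul] at this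
  obtain ⟨ε', hε', hspan⟩ :=
    (Ideal.isIdempotentElem_iff_of_fg _ (hmap ▸ hFfg.map _)).mp hid
  obtain ⟨ε, rfl⟩ := Ideal.Quotient.mk_surjective ε'
  have hker : ∀ x, σ x = 0 ↔ ∃ c, x - c * ε ∈ J := fun x => by
    have : σ x = 0 ↔ Ideal.Quotient.mk J x ∈ (RingHom.ker σ).map (Ideal.Quotient.mk J) := by
      rw [Ideal.mem_quotient_iff_mem (hF ▸ le_sup_right), RingHom.mem_ker]
    rw [this, hspan, Ideal.submodule_span_eq, Ideal.mem_span_singleton']
    constructor
    · rintro ⟨c', hc'⟩
      obtain ⟨c, rfl⟩ := Ideal.Quotient.mk_surjective c'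
      exact ⟨c, by rw [← Ideal.Quotient.eq]; simpa using hc'.symm⟩
    · rintro ⟨c, hc⟩
      exact ⟨Ideal.Quotient.mk J c, by rw [← map_mul]; exact (Ideal.Quotient.eq.mpr hc).symm⟩
  have hεε : ε * ε - ε ∈ J := by rw [← Ideal.Quotient.eq, map_mul]; exact hε'
  refine ⟨1 - ε, ?_, ?_, ?_⟩
  · rw [map_sub, map_one, (hker ε).mpr ⟨1, by simp⟩, sub_zero]
  · convert hεε using 1; ring
  · intro x hx
    obtain ⟨c, hc⟩ := (hker x).mp hx
    have : (1 - ε) * x = (1 - ε) * (x - c * ε) - c * (ε * ε - ε) := by ring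
    rw [this]
    exact sub_mem (Ideal.mul_mem_left _ _ hc) (Ideal.mul_mem_left _ _ hεε)

/-- Gabber's trick: an idempotent mod `IB` cutting out a point `B → A/I` lifts to an idempotent
`e` of `B` such that `eB` is cyclic. -/
lemma exists_idempotent_cyclic (hI : Gabber I) (σ : B →ₐ[A] A ⧸ I) (b : B) (hσb : σ b = 1)
    (hbb : b * b - b ∈ I.map (algebraMap A B))
    (hbK : ∀ x : B, σ x = 0 → b * x ∈ I.map (algebraMap A B)) :
    ∃ e : B, IsIdempotentElem e ∧ σ e = 1 ∧ ∀ x : B, ∃ a : A, e * x = a • e := by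
  classical
  set J := I.map (algebraMap A B) with hJ
  have hJsmul : ∀ x, x ∈ J ↔ x ∈ I • (⊤ : Submodule A B) := fun x => by
    rw [Ideal.smul_top_eq_map]; rfl
  obtain ⟨n, s₀, hs₀⟩ := Module.Finite.exists_fin (R := A) (M := B)
  let s : Fin (n + 1) → B := Fin.cons 0 s₀
  have hs : Submodule.span A (Set.range s) = ⊤ := by
    rw [eq_top_iff, ← hs₀]
    exact Submodule.span_mono (by rintro _ ⟨i, rfl⟩; exact ⟨i.succ, by simp [s]⟩)
  let g : Fin (n + 2) → B := Fin.cons b fun i => (1 - b) * s i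
  let d : Fin (n + 2) → A := Fin.cons 1 fun _ => 0
  have hg : Submodule.span A (Set.range g) = ⊤ := by
    refine top_le_iff.mp (Submodule.le_of_le_smul_of_le_jacobson_bot
      Module.Finite.fg_top hI.jac fun x _ => ?_)
    obtain ⟨a, ha⟩ := Ideal.Quotient.mk_surjective (σ x)
    obtain ⟨c, hc⟩ := (Submodule.mem_span_range_iff_exists_fun A).mp
      (hs ▸ Submodule.mem_top : x ∈ Submodule.span A (Set.range s))
    have h1 : b * (x - algebraMap A B a) ∈ I • (⊤ : Submodule A B) :=
      (hJsmul _).mp (hbK _ (by simp [← ha]))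
    have h2 : (1 - b) * x = ∑ i, c i • ((1 - b) * s i) := by
      rw [← hc, Finset.mul_sum]; simp_rw [mul_smul_comm]
    have : x = (a • b + (1 - b) * x) + b * (x - algebraMap A B a) := by
      rw [Algebra.smul_def]; ring
    rw [this]
    refine add_mem (Submodule.mem_sup_left (add_mem ?_ ?_)) (Submodule.mem_sup_right h1)
    · exact Submodule.smul_mem _ _ (Submodule.subset_span ⟨0, rfl⟩)
    · rw [h2]
      exact sum_mem fun i _ => Submodule.smul_mem _ _ (Submodule.subset_span ⟨i.succ, by simp [g]⟩)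
  have hcol : ∀ j, ∃ c : Fin (n + 2) → A, (∀ i, c i ∈ I) ∧
      ∑ i, c i • g i = b * g j - d j • g j := fun j => by
    have hmem : b * g j - d j • g j ∈ J := by
      cases j using Fin.cases with
      | zero => simpa [g, d] using hbb
      | succ i =>
        have : b * g i.succ - d i.succ • g i.succ = (b * b - b) * (- s i) := by
          simp [g, d]; ring
        rw [this]; exact Ideal.mul_mem_right _ _ hbb
    rw [hJsmul, ← hg, Submodule.mem_ideal_smul_span_iff_exists_sum] at hmem
    obtain ⟨c, hc, hsum⟩ := hmem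
    exact ⟨c, hc, by rw [← hsum, Finsupp.sum_fintype _ _ (by simp)]⟩
  choose c hcI hc using hcol
  let M : Matrix (Fin (n + 2)) (Fin (n + 2)) A := Matrix.diagonal d + Matrix.of fun i j => c j i
  have hM : M.Represents g (Algebra.lmul A B b) := by
    rw [Matrix.represents_iff']
    intro j
    simp [M, Matrix.diagonal, add_smul, Finset.sum_add_distrib, ite_smul, hc]
  set χ := M.charpoly with hχ
  have hχb : aeval b χ = 0 := by
    have h1 : aeval (Algebra.lmul A B b) χ = 0 := by
      rw [← Matrix.isRepresentation.eq_toEnd_of_represents A g hg ⟨M, _, hM⟩ hM,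
        aeval_algHom_apply, ← map_zero (Matrix.isRepresentation.toEnd A g hg)]
      congr 1
      ext1
      rw [aeval_subalgebra_coe, Subalgebra.coe_zero]
      exact Matrix.aeval_self_charpoly M
    rw [aeval_algHom_apply] at h1
    simpa using DFunLike.congr_fun h1 (1 : B)
  have hχmk : χ.map (Ideal.Quotient.mk I) = X ^ (n + 1) * (X - 1) := by
    have hMI : M.map (Ideal.Quotient.mk I) =
        Matrix.diagonal (fun i => Ideal.Quotient.mk I (d i)) := by
      ext i j
      rcases eq_or_ne i j with rfl | hij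
      · simp [M, Ideal.Quotient.eq_zero_iff_mem.mpr (hcI i i)]
      · simp [M, hij, Ideal.Quotient.eq_zero_iff_mem.mpr (hcI j i)]
    rw [hχ, ← Matrix.charpoly_map, hMI, Matrix.charpoly_diagonal, Fin.prod_univ_succ, mul_comm]
    simp [d]
  rcases subsingleton_or_nontrivial A with hA | hA
  · have : Subsingleton B := Module.subsingleton A B
    exact ⟨b, Subsingleton.elim _ _, hσb, fun x => ⟨0, Subsingleton.elim _ _⟩⟩
  have hdeg : χ.natDegree = n + 2 := by simp [hχ, Matrix.charpoly_natDegree_eq_dim]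
  have hdeg' : (X ^ (n + 1) * (X - 1) : A[X]).natDegree = n + 2 := by
    rw [← C_1, (monic_X_pow _).natDegree_mul (monic_X_sub_C 1), natDegree_X_pow, natDegree_X_sub_C]
  set p : A[X] := χ - X ^ (n + 1) * (X - 1) with hp
  have hpdeg : p.natDegree ≤ n + 1 := by
    refine natDegree_le_iff_coeff_eq_zero.mpr fun i hi => ?_
    rw [hp, coeff_sub]
    rcases eq_or_lt_of_le (Nat.succ_le_of_lt hi) with h | h
    · have hm : (X ^ (n + 1) * (X - 1) : A[X]).Monic := by
        rw [← C_1]; exact (monic_X_pow _).mul (monic_X_sub_C 1)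
      rw [← h]
      have h1 := (Matrix.charpoly_monic M).coeff_natDegree
      have h2 := hm.coeff_natDegree
      rw [← hχ, hdeg] at h1
      rw [hdeg'] at h2
      simp only [Nat.succ_eq_add_one]
      rw [h1, h2, sub_self]
    · rw [coeff_eq_zero_of_natDegree_lt (hdeg ▸ h), coeff_eq_zero_of_natDegree_lt (hdeg' ▸ h),
        sub_self]
  have hpI : ∀ i, p.coeff i ∈ I := fun i => by
    rw [← Ideal.Quotient.eq_zero_iff_mem, ← coeff_map, hp, Polynomial.map_sub, hχmk]
    simp
  obtain ⟨α, hα, hroot⟩ := hI.root (n + 1) n.succ_pos p hpdeg hpI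
  rw [hp, add_sub_cancel] at hroot
  set q := χ /ₘ (X - C α) with hq
  have hfac : (X - C α) * q = χ := mul_divByMonic_eq_iff_isRoot.mpr hroot
  have hα' : Ideal.Quotient.mk I α = 1 := by
    rw [← map_one (Ideal.Quotient.mk I)]; exact Ideal.Quotient.eq.mpr hα
  have hqmk : q.map (Ideal.Quotient.mk I) = X ^ (n + 1) := by
    refine ((monic_X_sub_C (1 : A ⧸ I)).isRegular).left ?_
    simp only
    have := congr_arg (Polynomial.map (Ideal.Quotient.mk I)) hfac
    rw [hχmk] at this
    simp only [Polynomial.map_mul, Polynomial.map_sub, map_X, map_C, hα'] at this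
    rw [this, C_1, mul_comm]
  have hqα : Ideal.Quotient.mk I (q.eval α) = 1 := by
    rw [← eval_map_apply, hqmk, hα', eval_pow, eval_X, one_pow]
  obtain ⟨w, hw⟩ := isUnit_of_sub_one_mem hI.jac
    (Ideal.Quotient.eq.mp (hqα.trans (map_one _).symm))
  have hqb : (b - algebraMap A B α) * aeval b q = 0 := by
    simpa [hχb] using congr_arg (aeval b) hfac
  have hmul : ∀ r : A[X], aeval b r * aeval b q = r.eval α • aeval b q := fun r => by
    obtain ⟨r', hr'⟩ := X_sub_C_dvd_sub_C_eval (a := α) (p := r)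
    have := congr_arg (aeval b) hr'
    simp only [map_sub, map_mul, aeval_C, aeval_X] at this
    rw [Algebra.smul_def]
    linear_combination (aeval b q) * this + (aeval b r') * hqb
  set e : B := (↑w⁻¹ : A) • aeval b q with he
  have he2 : IsIdempotentElem e := by
    rw [IsIdempotentElem, he, smul_mul_smul_comm, hmul, smul_smul, ← hw]
    congr 1
    rw [mul_assoc, Units.inv_mul, mul_one]
  have heα : b * e = α • e := by
    have := hmul X
    simp only [aeval_X, eval_X] at this
    rw [he, mul_smul_comm, this, smul_comm]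
  have hσe : σ e = 1 := by
    have h1 : Ideal.Quotient.mk I (q.eval 1) = 1 := by
      rw [← eval_map_apply, hqmk, map_one, eval_pow, eval_X, one_pow]
    have h2 : Ideal.Quotient.mk I (↑w⁻¹ : A) = 1 := by
      calc Ideal.Quotient.mk I (↑w⁻¹ : A)
          = Ideal.Quotient.mk I (↑w⁻¹ : A) * Ideal.Quotient.mk I (↑w : A) := by
            rw [hw, hqα, mul_one]
        _ = 1 := by rw [← map_mul, Units.inv_mul, map_one]
    have h3 : σ (aeval b q) = Ideal.Quotient.mk I (q.eval 1) := by
      rw [← aeval_algHom_apply, hσb, ← Ideal.Quotient.algebraMap_eq,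
        ← aeval_algebraMap_apply_eq_algebraMap_eval, map_one]
    rw [he, map_smul, h3, h1, Algebra.smul_def, mul_one, Ideal.Quotient.algebraMap_eq, h2]
  refine ⟨e, he2, hσe, ?_⟩
  let N : Submodule A B := LinearMap.range (Algebra.lmul A B e)
  have hN : N ≤ Submodule.span A {e} := by
    have hfg : N.FG := by
      simp only [N, LinearMap.range_eq_map]
      exact Module.Finite.fg_top.map _
    refine Submodule.le_of_le_smul_of_le_jacobson_bot hfg hI.jac ?_
    rw [show N = (Submodule.span A (Set.range g)).map (Algebra.lmul A B e) by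
      rw [hg, Submodule.map_top], Submodule.map_span, Submodule.span_le]
    rintro _ ⟨_, ⟨j, rfl⟩, rfl⟩
    cases j using Fin.cases with
    | zero =>
      refine Submodule.mem_sup_left (Submodule.mem_span_singleton.mpr ⟨α, ?_⟩)
      simp [g, ← heα, mul_comm]
    | succ i =>
      refine Submodule.mem_sup_right ?_
      have h' : (Algebra.lmul A B e) (g i.succ) = (1 - α) • (e * s i) := by
        simp only [g, Fin.cons_succ, Algebra.coe_lmul_eq_mul, LinearMap.mul_apply', sub_smul,
          one_smul]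
        rw [← smul_mul_assoc, ← heα]; ring
      rw [h', ← Submodule.map_span, hg, Submodule.map_top]
      exact Submodule.smul_mem_smul (by simpa using I.neg_mem hα) ⟨s i, rfl⟩
  intro x
  obtain ⟨a, ha⟩ := Submodule.mem_span_singleton.mp (hN ⟨x, rfl⟩ : e * x ∈ _)
  exact ⟨a, ha.symm⟩

/-- A point `B → A/I` at which the finite algebra `B` is étale lifts. -/
theorem exists_algHom_of_finite (hI : Gabber I) (σ : B →ₐ[A] A ⧸ I) (Δ : B) (C : Type*)
    [CommRing C] [Algebra A C] [Algebra B C] [IsScalarTower A B C] [IsLocalization.Away Δ C]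
    [Algebra.FormallyUnramified A C] [Module.Flat A C] (hΔ : IsUnit (σ Δ)) :
    ∃ τ : B →ₐ[A] A, (Ideal.Quotient.mkₐ A I).comp τ = σ := by
  obtain ⟨b, hb, hbb, hbK⟩ := exists_idempotent_mod σ Δ C hΔ
  obtain ⟨e, he, hσe, hex⟩ := exists_idempotent_cyclic hI σ b hb hbb hbK
  choose r hr using hex
  have hσr : ∀ x, σ x = Ideal.Quotient.mk I (r x) := fun x => by
    simpa [hσe, Algebra.smul_def] using congr_arg σ (hr x)
  let D := B ⧸ Ideal.span ({1 - e} : Set B)
  have he1 : Ideal.Quotient.mk (Ideal.span ({1 - e} : Set B)) e = 1 := by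
    rw [← map_one (Ideal.Quotient.mk _), Ideal.Quotient.eq]
    exact Ideal.mem_span_singleton'.mpr ⟨-1, by ring⟩
  have hrD : ∀ x, Ideal.Quotient.mk (Ideal.span ({1 - e} : Set B)) x = algebraMap A D (r x) := by
    intro x
    have := congr_arg (Ideal.Quotient.mk (Ideal.span ({1 - e} : Set B))) (hr x)
    rw [map_mul, he1, one_mul, Algebra.smul_def, map_mul, he1, mul_one] at this
    exact this
  have hsurj : Function.Surjective (Algebra.ofId A D) := fun y => by
    obtain ⟨x, rfl⟩ := Ideal.Quotient.mk_surjective y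
    exact ⟨r x, (hrD x).symm⟩
  have hker : RingHom.ker (Algebra.ofId A D) ≤ I := fun a ha => by
    have : algebraMap A B a ∈ Ideal.span ({1 - e} : Set B) :=
      Ideal.Quotient.eq_zero_iff_mem.mp ha
    obtain ⟨y, hy⟩ := Ideal.mem_span_singleton'.mp this
    rw [← Ideal.Quotient.eq_zero_iff_mem]
    simpa [hσe] using (congr_arg σ hy).symm
  have : IsLocalization.Away e D := IsLocalization.Away.quotient_of_isIdempotentElem he
  have hΔD : IsUnit (algebraMap B D Δ) := by
    rw [Ideal.Quotient.algebraMap_eq, hrD]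
    exact (isUnit_of_isUnit_mk hI.jac (hσr Δ ▸ hΔ)).map _
  have : IsLocalization (Submonoid.powers e ⊔ Submonoid.powers Δ) D :=
    IsLocalization.of_le (Submonoid.powers e) _ le_sup_left fun x hx => by
      have hle : Submonoid.powers e ⊔ Submonoid.powers Δ ≤
          (IsUnit.submonoid D).comap (algebraMap B D) :=
        sup_le (Submonoid.powers_le.mpr (IsLocalization.Away.algebraMap_isUnit e))
          (Submonoid.powers_le.mpr hΔD)
      exact hle hx
  let liftD : C →+* D := IsLocalization.Away.lift Δ hΔD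
  let : Algebra C D := liftD.toAlgebra
  have : IsScalarTower B C D :=
    IsScalarTower.of_algebraMap_eq fun x => (IsLocalization.Away.lift_eq Δ hΔD x).symm
  have : IsScalarTower A C D := IsScalarTower.of_algebraMap_eq fun a => by
    rw [IsScalarTower.algebraMap_apply A B C, ← IsScalarTower.algebraMap_apply B C D,
      ← IsScalarTower.algebraMap_apply A B D]
  have := IsLocalization.isLocalization_of_submonoid_le C D (Submonoid.powers Δ)
    (Submonoid.powers e ⊔ Submonoid.powers Δ) le_sup_right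
  have : Module.Flat C D := IsLocalization.flat D
    ((Submonoid.powers e ⊔ Submonoid.powers Δ).map (algebraMap B C))
  have : Module.Flat A D := Module.Flat.trans A C D
  have : (RingHom.ker (Algebra.ofId A D)).Pure :=
    Module.Flat.of_linearEquiv (Ideal.quotientKerAlgEquivOfSurjective hsurj).toLinearEquiv
  have hinj : Function.Injective (Algebra.ofId A D) :=
    (RingHom.injective_iff_ker_eq_bot _).mpr (ideal_eq_bot_of_pure (hker.trans hI.jac))
  let eqv := AlgEquiv.ofBijective (Algebra.ofId A D) ⟨hinj, hsurj⟩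
  refine ⟨eqv.symm.toAlgHom.comp (Ideal.Quotient.mkₐ A _), AlgHom.ext fun x => ?_⟩
  have hx : eqv.symm (Ideal.Quotient.mk (Ideal.span ({1 - e} : Set B)) x) = r x := by
    rw [AlgEquiv.symm_apply_eq, hrD]
    rfl
  show Ideal.Quotient.mk I (eqv.symm (Ideal.Quotient.mk _ x)) = σ x
  rw [hx, hσr]

end Finite

section Etale

variable {A : Type u} [CommRing A] {I : Ideal A}

/-- Points of a finite type formally unramified algebra are determined by their reduction. -/
lemma algHom_eq_of_mk_eq (hI : I ≤ Ideal.jacobson ⊥) {C : Type*} [CommRing C] [Algebra A C]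
    [Algebra.FiniteType A C] [Algebra.FormallyUnramified A C] {τ₁ τ₂ : C →ₐ[A] A}
    (h : ∀ x, τ₁ x - τ₂ x ∈ I) : τ₁ = τ₂ := by
  obtain ⟨t, ht⟩ := Algebra.FiniteType.out (R := A) (A := C)
  set J : Ideal A := Ideal.span ((fun x => τ₁ x - τ₂ x) '' (t : Set C)) with hJ
  have hall : ∀ K : Ideal A, (∀ x ∈ t, τ₁ x - τ₂ x ∈ K) → ∀ x, τ₁ x - τ₂ x ∈ K := by
    intro K hK x
    have heq : (Ideal.Quotient.mkₐ A K).comp τ₁ = (Ideal.Quotient.mkₐ A K).comp τ₂ :=
      AlgHom.ext_of_adjoin_eq_top ht fun y hy => Ideal.Quotient.eq.mpr (hK y hy)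
    exact Ideal.Quotient.eq.mp (DFunLike.congr_fun heq x)
  have hJ' : ∀ x, τ₁ x - τ₂ x ∈ J :=
    hall J fun x hx => Ideal.subset_span ⟨x, hx, rfl⟩
  have hnil : IsNilpotent (J.map (Ideal.Quotient.mk (J ^ 2))) := ⟨2, by
    rw [← Ideal.map_pow, Ideal.map_quotient_self, Submodule.zero_eq_bot]⟩
  have key : (Ideal.Quotient.mkₐ A (J ^ 2)).comp τ₁ = (Ideal.Quotient.mkₐ A (J ^ 2)).comp τ₂ := by
    refine Algebra.FormallyUnramified.ext (I := J.map (Ideal.Quotient.mk (J ^ 2))) hnil fun x => ?_
    rw [Ideal.Quotient.eq]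
    simp only [AlgHom.comp_apply, Ideal.Quotient.mkₐ_eq_mk, ← map_sub]
    exact Ideal.mem_map_of_mem (Ideal.Quotient.mk (J ^ 2)) (hJ' x)
  have hJ2 : J ≤ J • J := by
    rw [hJ, Ideal.span_le]
    rintro _ ⟨x, -, rfl⟩
    rw [SetLike.mem_coe, ← hJ, Ideal.smul_eq_mul, ← pow_two]
    exact Ideal.Quotient.eq.mp (DFunLike.congr_fun key x)
  have hJI : J ≤ I := Ideal.span_le.mpr (by rintro _ ⟨x, -, rfl⟩; exact h x)
  have hbot : J = ⊥ := Submodule.eq_bot_of_le_smul_of_le_jacobson_bot J J
    (Submodule.fg_span (t.finite_toSet.image _)) hJ2 (hJI.trans hI)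
  exact AlgHom.ext fun x => sub_eq_zero.mp (by simpa [hbot] using hJ' x)

/-- Étale lifting along a henselian pair. -/
theorem exists_etale_lift (hI : Gabber I) {C : Type v} [CommRing C] [Algebra A C]
    [Algebra.Etale A C] (σ : C →ₐ[A] A ⧸ I) :
    ∃ τ : C →ₐ[A] A, (Ideal.Quotient.mkₐ A I).comp τ = σ := by
  classical
  let G : Ideal (integralClosure A C) :=
    { carrier := {r | ∀ x : C, ∃ m : ℕ, IsIntegral A ((r : C) ^ m * x)}
      add_mem' := fun {r r'} hr hr' x => by
        obtain ⟨m, hm⟩ := hr x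
        obtain ⟨m', hm'⟩ := hr' x
        refine ⟨m + m', ?_⟩
        rw [Subalgebra.coe_add, add_pow, Finset.sum_mul]
        refine IsIntegral.sum _ fun i hi => ?_
        have hr1 : IsIntegral A (r : C) := r.2
        have hr2 : IsIntegral A (r' : C) := r'.2
        rcases le_or_gt m i with h | h
        · have : (r : C) ^ i * (r' : C) ^ (m + m' - i) * ((m + m').choose i) * x =
              (r : C) ^ (i - m) * (r' : C) ^ (m + m' - i) * ((m + m').choose i) *
                ((r : C) ^ m * x) := by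
            have e : (r : C) ^ i = (r : C) ^ (i - m) * (r : C) ^ m := by
              rw [← pow_add, Nat.sub_add_cancel h]
            rw [e]; ring
          rw [this]
          refine IsIntegral.mul (((hr1.pow _).mul (hr2.pow _)).mul ?_) hm
          exact map_natCast (algebraMap A C) _ ▸ isIntegral_algebraMap
        · have h' : m' ≤ m + m' - i := by omega
          have : (r : C) ^ i * (r' : C) ^ (m + m' - i) * ((m + m').choose i) * x =
              (r : C) ^ i * (r' : C) ^ (m + m' - i - m') * ((m + m').choose i) *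
                ((r' : C) ^ m' * x) := by
            have e : (r' : C) ^ (m + m' - i) = (r' : C) ^ (m + m' - i - m') * (r' : C) ^ m' := by
              rw [← pow_add, Nat.sub_add_cancel h']
            rw [e]; ring
          rw [this]
          refine IsIntegral.mul (((hr1.pow _).mul (hr2.pow _)).mul ?_) hm'
          exact map_natCast (algebraMap A C) _ ▸ isIntegral_algebraMap
      zero_mem' := fun x => ⟨1, by simpa using isIntegral_zero⟩
      smul_mem' := fun c r hr x => by
        obtain ⟨m, hm⟩ := hr x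
        refine ⟨m, ?_⟩
        rw [smul_eq_mul, Subalgebra.coe_mul, mul_pow, mul_assoc]
        exact (IsIntegral.pow c.2 m).mul hm }
  let σ' : integralClosure A C →ₐ[A] A ⧸ I := σ.comp (integralClosure A C).val
  have hσ' : Function.Surjective σ' := fun y => by
    obtain ⟨a, rfl⟩ := Ideal.Quotient.mk_surjective y
    exact ⟨algebraMap A _ a, σ'.commutes a⟩
  have htop : G ⊔ RingHom.ker σ' = ⊤ := by
    by_contra hne
    obtain ⟨q, hq, hle⟩ := Ideal.exists_le_maximal _ hne
    have hker : RingHom.ker σ' ≤ q := le_sup_right.trans hle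
    have : (q.map σ').IsPrime := Ideal.map_isPrime_of_surjective hσ' hker
    let Q : Ideal C := (q.map σ').comap σ
    obtain ⟨r, hrQ, hr, hrx⟩ := Algebra.zariskisMainProperty_iff.mp
      (Algebra.ZariskisMainProperty.of_finiteType (R := A) Q)
    have hrG : (⟨r, hr⟩ : integralClosure A C) ∈ q := hle (Ideal.mem_sup_left fun x => hrx x)
    exact hrQ (Ideal.mem_map_of_mem σ' hrG)
  obtain ⟨s, hsG, k, hk, hsk⟩ := Submodule.mem_sup.mp (htop ▸ Submodule.mem_top :
    (1 : integralClosure A C) ∈ G ⊔ RingHom.ker σ')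
  have hσs : σ (s : C) = 1 := by
    have := congr_arg σ' hsk
    simpa [σ', map_add, RingHom.mem_ker.mp hk] using this
  obtain ⟨t, ht⟩ := Algebra.FiniteType.out (R := A) (A := C)
  choose m hm using hsG
  let T : Set C := insert (s : C) ((fun x => (s : C) ^ m x * x) '' (t : Set C))
  let A₀ : Subalgebra A C := Algebra.adjoin A T
  have hT : ∀ x ∈ T, IsIntegral A x := by
    rintro x (rfl | ⟨y, -, rfl⟩)
    exacts [s.2, hm y]
  have hTfin : T.Finite := (t.finite_toSet.image _).insert _
  have : Module.Finite A A₀ := Module.Finite.iff_fg.mpr (fg_adjoin_of_finite hTfin hT)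
  have hsA : (s : C) ∈ A₀ := Algebra.subset_adjoin (Set.mem_insert _ _)
  have hpow : ∀ x : C, ∃ k : ℕ, (s : C) ^ k * x ∈ A₀ := by
    intro x
    have hx : x ∈ Algebra.adjoin A (t : Set C) := ht ▸ Algebra.mem_top
    induction hx using Algebra.adjoin_induction with
    | mem y hy => exact ⟨m y, Algebra.subset_adjoin (Set.mem_insert_of_mem _ ⟨y, hy, rfl⟩)⟩
    | algebraMap a => exact ⟨0, by simpa using A₀.algebraMap_mem a⟩
    | add y z _ _ hy hz =>
      obtain ⟨i, hi⟩ := hy; obtain ⟨j, hj⟩ := hz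
      refine ⟨i + j, ?_⟩
      have : (s : C) ^ (i + j) * (y + z) =
          (s : C) ^ j * ((s : C) ^ i * y) + (s : C) ^ i * ((s : C) ^ j * z) := by ring
      rw [this]
      exact add_mem (mul_mem (pow_mem hsA _) hi) (mul_mem (pow_mem hsA _) hj)
    | mul y z _ _ hy hz =>
      obtain ⟨i, hi⟩ := hy; obtain ⟨j, hj⟩ := hz
      refine ⟨i + j, ?_⟩
      have : (s : C) ^ (i + j) * (y * z) = ((s : C) ^ i * y) * ((s : C) ^ j * z) := by ring
      rw [this]; exact mul_mem hi hj
  let C' := Localization.Away (s : C)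
  let s₀ : A₀ := ⟨s, hsA⟩
  have hmap : ∀ x : A₀, algebraMap A₀ C' x = algebraMap C C' (x : C) := fun x =>
    IsScalarTower.algebraMap_apply A₀ C C' x
  have : IsLocalization.Away s₀ C' := by
    refine IsLocalization.Away.mk s₀ ?_ ?_ ?_
    · rw [hmap]; exact IsLocalization.Away.algebraMap_isUnit (s : C)
    · intro z
      obtain ⟨k, x, hx⟩ := IsLocalization.Away.surj (s : C) z
      obtain ⟨j, hj⟩ := hpow x
      refine ⟨k + j, ⟨_, hj⟩, ?_⟩
      rw [hmap, hmap, map_mul, map_pow, ← hx]
      ring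
    · intro x y hxy
      rw [hmap, hmap] at hxy
      obtain ⟨k, hk⟩ := IsLocalization.Away.exists_of_eq (s : C) hxy
      exact ⟨k, Subtype.ext hk⟩
  have : Algebra.Etale A C' := Algebra.Etale.comp A C C'
  have hu : IsUnit ((σ.comp A₀.val) s₀) := by simp [s₀, hσs]
  obtain ⟨τ₀, hτ₀⟩ := exists_algHom_of_finite hI (σ.comp A₀.val) s₀ C' hu
  have hτs : IsUnit (τ₀ s₀) := isUnit_of_isUnit_mk hI.jac (by
    have := DFunLike.congr_fun hτ₀ s₀
    simp only [AlgHom.comp_apply, Ideal.Quotient.mkₐ_eq_mk] at this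
    rw [this]; exact hu)
  let τ' : C' →ₐ[A] A := IsLocalization.Away.liftAlgHom (f := τ₀) s₀ hτs
  have hu2 : IsUnit (σ (s : C)) := by simp [hσs]
  let σ'' : C' →ₐ[A] A ⧸ I := IsLocalization.Away.liftAlgHom (f := σ) (s : C) hu2
  refine ⟨τ'.comp (IsScalarTower.toAlgHom A C C'), AlgHom.ext fun x => ?_⟩
  have key : (Ideal.Quotient.mkₐ A I).comp τ' = σ'' := by
    refine IsLocalization.algHom_ext (Submonoid.powers s₀) (AlgHom.ext fun y => ?_)
    have := DFunLike.congr_fun hτ₀ y
    simp only [AlgHom.comp_apply, Ideal.Quotient.mkₐ_eq_mk] at this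
    have e1 : τ' (algebraMap A₀ C' y) = τ₀ y := IsLocalization.Away.lift_eq s₀ hτs y
    have e2 : σ'' (algebraMap C C' (y : C)) = σ (y : C) :=
      IsLocalization.Away.lift_eq (s : C) hu2 (y : C)
    show Ideal.Quotient.mk I (τ' (algebraMap A₀ C' y)) = σ'' (algebraMap A₀ C' y)
    rw [e1, hmap, e2]
    exact this
  have := DFunLike.congr_fun key (algebraMap C C' x)
  have e2 : σ'' (algebraMap C C' x) = σ x := IsLocalization.Away.lift_eq (s : C) hu2 x
  rw [e2] at this
  exact this

theorem existsUnique_etale_lift (hI : Gabber I) {C : Type v} [CommRing C] [Algebra A C]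
    [Algebra.Etale A C] (σ : C →ₐ[A] A ⧸ I) :
    ∃! τ : C →ₐ[A] A, (Ideal.Quotient.mkₐ A I).comp τ = σ := by
  obtain ⟨τ, hτ⟩ := exists_etale_lift hI σ
  refine ⟨τ, hτ, fun τ' hτ' => algHom_eq_of_mk_eq hI.jac fun x => Ideal.Quotient.eq.mp ?_⟩
  exact (DFunLike.congr_fun hτ' x).trans (DFunLike.congr_fun hτ x).symm

end Etale

end Groth.Hensel1
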