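import Groth.Prelude.Def_FlatCA
import Mathlib.RingTheory.Flat.EquationalCriterion
import Mathlib.RingTheory.Idempotents
import Mathlib.RingTheory.Nakayama
import Mathlib.RingTheory.Nilpotent.Lemmas
import Mathlib.LinearAlgebra.Matrix.ToLin

/-!
# Limits of finite flat systems with projective bottom layer
-/

set_option autoImplicit false

namespace Groth.Hensel1.LimitProjective

universe u

open Matrix

section Step

variable {R R₀ : Type u} [CommRing R] [CommRing R₀] (t : R →+* R₀)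

theorem isNilpotent_matrix {m : ℕ} (hnil : ∀ x, t x = 0 → IsNilpotent x)
    (E : Matrix (Fin m) (Fin m) R) (hE : E.map t = 0) : IsNilpotent E := by
  let J := Ideal.span (Set.range fun p : Fin m × Fin m => E p.1 p.2)
  have hJ : IsNilpotent J := by
    refine (Ideal.FG.isNilpotent_iff_le_nilradical (Submodule.fg_span (Set.finite_range _))).mpr ?_
    rw [Ideal.span_le]
    rintro _ ⟨p, rfl⟩
    exact mem_nilradical.mpr (hnil _ (congrFun (congrFun hE p.1) p.2))
  obtain ⟨k, hk⟩ := hJ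
  refine ⟨k, ?_⟩
  have hpow : ∀ (n : ℕ) (i j : Fin m), (E ^ n) i j ∈ J ^ n := fun n => by
    induction n with
    | zero => intro i j; simp
    | succ n ih =>
      intro i j
      rw [pow_succ E, Matrix.mul_apply, pow_succ J]
      exact Ideal.sum_mem _ fun l _ => Ideal.mul_mem_mul (ih i l) (Ideal.subset_span ⟨(l, j), rfl⟩)
  ext i j
  simpa [hk] using hpow k i j

theorem ker_le_jacobson (hnil : ∀ x, t x = 0 → IsNilpotent x) :
    RingHom.ker t ≤ Ideal.jacobson (⊥ : Ideal R) :=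
  fun _ hx => Ideal.mem_jacobson_bot.mpr fun y => ((Commute.all _ y).isNilpotent_mul_right (hnil _ hx)).isUnit_add_one

variable {M M₀ : Type u} [AddCommGroup M] [Module R M] [AddCommGroup M₀] [Module R₀ M₀]
  (u : M →ₛₗ[t] M₀)

theorem surjective_of_compat {m : ℕ} (hnil : ∀ x, t x = 0 → IsNilpotent x)
    (ht : Function.Surjective t) [Module.Finite R M]
    (hu : LinearMap.ker u = RingHom.ker t • (⊤ : Submodule R M))
    (f : (Fin m → R) →ₗ[R] M) (f₀ : (Fin m → R₀) →ₗ[R₀] M₀) (hf : ∀ y, u (f y) = f₀ (t ∘ y))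
    (hf₀ : Function.Surjective f₀) : Function.Surjective f := by
  rw [← LinearMap.range_eq_top, ← top_le_iff]
  refine Submodule.le_of_le_smul_of_le_jacobson_bot Module.Finite.fg_top (ker_le_jacobson t hnil) ?_
  intro x _
  obtain ⟨y₀, hy₀⟩ := hf₀ (u x)
  obtain ⟨y, rfl⟩ := ht.comp_left y₀
  refine Submodule.mem_sup.mpr ⟨f y, ⟨y, rfl⟩, x - f y, ?_, add_sub_cancel _ _⟩
  rw [← hu, LinearMap.mem_ker, map_sub, hf, hy₀, sub_self]

/-- Lifting of a compatible idempotent. -/
theorem exists_matrix_succ {m : ℕ} (hnil : ∀ x, t x = 0 → IsNilpotent x)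
    (ht : Function.Surjective t) [Module.Finite R M] [Module.Flat R M]
    (hu : LinearMap.ker u = RingHom.ker t • (⊤ : Submodule R M))
    (f : (Fin m → R) →ₗ[R] M) (f₀ : (Fin m → R₀) →ₗ[R₀] M₀) (hf : ∀ y, u (f y) = f₀ (t ∘ y))
    (hfs : Function.Surjective f) (e : Matrix (Fin m) (Fin m) R₀)
    (he₁ : ∀ y, f₀ (e *ᵥ y) = f₀ y) (he₂ : ∀ y, f₀ y = 0 → e *ᵥ y = 0) :
    ∃ E : Matrix (Fin m) (Fin m) R, (∀ y, f (E *ᵥ y) = f y) ∧ (∀ y, f y = 0 → E *ᵥ y = 0) ∧
      E.map t = e := by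
  classical
  have hidem : ∀ y, e *ᵥ (e *ᵥ y) = e *ᵥ y := fun y => by
    rw [← sub_eq_zero, ← mulVec_sub]
    exact he₂ _ (by rw [map_sub, he₁, sub_self])
  have hmapv : ∀ (A : Matrix (Fin m) (Fin m) R) (y : Fin m → R), t ∘ (A *ᵥ y) = A.map t *ᵥ (t ∘ y) :=
    fun A y => funext fun i => RingHom.map_mulVec t A y i
  obtain ⟨E₀, hE₀, hE₀t⟩ := exists_isIdempotentElem_eq_of_ker_isNilpotent
    (t.mapMatrix : Matrix (Fin m) (Fin m) R →+* Matrix (Fin m) (Fin m) R₀)
    (fun A hA => isNilpotent_matrix t hnil A (show t.mapMatrix A = 0 from hA)) e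
    ⟨Matrix.of fun i j => Function.surjInv ht (e i j), by
      ext i j; exact Function.surjInv_eq ht (e i j)⟩
    (Matrix.toLin'.injective (LinearMap.ext fun y => by
      rw [Matrix.toLin'_apply, Matrix.toLin'_apply, ← Matrix.mulVec_mulVec, hidem]))
  replace hE₀t : E₀.map t = e := hE₀t
  let g : LinearMap.range (Matrix.toLin' E₀) →ₗ[R] M := f ∘ₗ Submodule.subtype _
  have hEE : ∀ y, E₀ *ᵥ (E₀ *ᵥ y) = E₀ *ᵥ y := fun y => by rw [Matrix.mulVec_mulVec, hE₀.eq]
  have hsurj : Function.Surjective g := by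
    rw [← LinearMap.range_eq_top, ← top_le_iff]
    refine Submodule.le_of_le_smul_of_le_jacobson_bot Module.Finite.fg_top (ker_le_jacobson t hnil) ?_
    intro x _
    obtain ⟨y, rfl⟩ := hfs x
    refine Submodule.mem_sup.mpr ⟨f (E₀ *ᵥ y), ⟨⟨_, y, rfl⟩, rfl⟩, f y - f (E₀ *ᵥ y), ?_, add_sub_cancel _ _⟩
    rw [← hu, LinearMap.mem_ker, map_sub, hf, hf, hmapv, hE₀t, he₁, sub_self]
  have hker : ∀ y, E₀ *ᵥ y = y → f y = 0 → ∀ j, t (y j) = 0 := fun y hy hfy j => by
    have h1 : f₀ (t ∘ y) = 0 := by rw [← hf, hfy, map_zero]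
    have h2 : t ∘ y = e *ᵥ (t ∘ y) := by rw [← hE₀t, ← hmapv, hy]
    exact congrFun (h2.trans (he₂ _ h1)) j
  have hinj : Function.Injective g := by
    rw [injective_iff_map_eq_zero]
    rintro ⟨z, hzR⟩ hy
    have hzE : E₀ *ᵥ z = z := by
      obtain ⟨y', rfl⟩ := hzR
      simp [hEE]
    replace hy : f z = 0 := hy
    have hrel : ∑ j, z j • f (E₀ *ᵥ Pi.single j 1) = 0 := by
      rw [← hy]
      conv_rhs => rw [← hzE, pi_eq_sum_univ' z, Matrix.mulVec_sum, map_sum]
      exact Finset.sum_congr rfl fun j _ => by rw [Matrix.mulVec_smul, map_smul]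
    obtain ⟨k, a, w, hw, ha⟩ := Module.Flat.isTrivialRelation_of_sum_smul_eq_zero hrel
    choose w' hw' using fun l => hsurj (w l)
    let d : Fin m → (Fin m → R) := fun j => E₀ *ᵥ Pi.single j 1 - ∑ l, a j l • (w' l : Fin m → R)
    have hd₀ : ∀ j, E₀ *ᵥ d j = d j := fun j => by
      have hw'' : ∀ l, E₀ *ᵥ (w' l : Fin m → R) = (w' l : Fin m → R) := fun l => by
        obtain ⟨v, hv⟩ := (w' l).2
        rw [← hv, Matrix.toLin'_apply, hEE]
      simp only [d, Matrix.mulVec_sub, Matrix.mulVec_sum, Matrix.mulVec_smul, hEE, hw'']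
    have hd : ∀ j, f (d j) = 0 := fun j => by
      simp only [d, map_sub, map_sum, map_smul]
      rw [show f (E₀ *ᵥ Pi.single j 1) = _ from hw j, sub_eq_zero]
      exact Finset.sum_congr rfl fun l _ => congrArg _ (hw' l).symm
    have hzd : z = ∑ j, z j • d j := by
      have h0 : ∑ j, z j • ∑ l, a j l • (w' l : Fin m → R) = 0 := by
        simp_rw [Finset.smul_sum, smul_smul]
        rw [Finset.sum_comm]
        simp_rw [← Finset.sum_smul, ha, zero_smul]
        exact Finset.sum_const_zero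
      simp only [d, smul_sub, Finset.sum_sub_distrib]
      rw [h0, sub_zero]
      conv_lhs => rw [← hzE, pi_eq_sum_univ' z, Matrix.mulVec_sum]
      exact Finset.sum_congr rfl fun j _ => Matrix.mulVec_smul _ _ _
    have hc : Ideal.span (Set.range z) = ⊥ := by
      refine Submodule.eq_bot_of_le_smul_of_le_jacobson_bot (RingHom.ker t) _
        (Submodule.fg_span (Set.finite_range _)) ?_ (ker_le_jacobson t hnil)
      rw [Ideal.span_le]
      rintro _ ⟨i, rfl⟩
      rw [SetLike.mem_coe, show z i = ∑ j, z j * d j i from (congrFun hzd i).trans (by simp)]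
      refine Ideal.sum_mem _ fun j _ => ?_
      rw [mul_comm]
      exact Ideal.mul_mem_mul (hker _ (hd₀ j) (hd j) i) (Ideal.subset_span ⟨j, rfl⟩)
    exact Subtype.ext (funext fun i => (Submodule.eq_bot_iff _).mp hc _ (Ideal.subset_span ⟨i, rfl⟩))
  let G : LinearMap.range (Matrix.toLin' E₀) ≃ₗ[R] M := LinearEquiv.ofBijective g ⟨hinj, hsurj⟩
  let L : (Fin m → R) →ₗ[R] (Fin m → R) := Submodule.subtype _ ∘ₗ G.symm.toLinearMap ∘ₗ f
  have hL : ∀ y, LinearMap.toMatrix' L *ᵥ y = (G.symm (f y) : Fin m → R) := fun y => by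
    rw [← Matrix.toLin'_apply, Matrix.toLin'_toMatrix']; rfl
  refine ⟨LinearMap.toMatrix' L, fun y => ?_, fun y hy => ?_, ?_⟩
  · rw [hL]; exact G.apply_symm_apply (f y)
  · rw [hL, hy, map_zero]; rfl
  · apply Matrix.toLin'.injective
    refine LinearMap.ext fun y₀ => ?_
    obtain ⟨y, rfl⟩ := ht.comp_left y₀
    rw [Matrix.toLin'_apply, Matrix.toLin'_apply, ← hmapv, hL]
    obtain ⟨v, hv⟩ := (G.symm (f y)).2
    have hfy : f₀ (t ∘ (G.symm (f y) : Fin m → R)) = f₀ (t ∘ y) := by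
      rw [← hf, ← hf]; exact congrArg u (G.apply_symm_apply (f y))
    have hfix : e *ᵥ (t ∘ (G.symm (f y) : Fin m → R)) = t ∘ (G.symm (f y) : Fin m → R) := by
      rw [← hv, Matrix.toLin'_apply, ← hE₀t, ← hmapv, hEE]
    rw [← hfix, ← sub_eq_zero, ← mulVec_sub]
    exact he₂ _ (by rw [map_sub, hfy, sub_self])

end Step

theorem exists_seq (X : ℕ → Type u) (P : ∀ n, X n → Prop) (r : ∀ n, X (n + 1) → X n)
    (h0 : ∃ x, P 0 x) (hs : ∀ n x, P n x → ∃ y, P (n + 1) y ∧ r n y = x) :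
    ∃ x : ∀ n, X n, ∀ n, P n (x n) ∧ r n (x (n + 1)) = x n := by
  choose s hs₁ hs₂ using hs
  let S : ∀ n, {x // P n x} := fun n =>
    Nat.rec ⟨h0.choose, h0.choose_spec⟩ (fun k w => ⟨s k w.1 w.2, hs₁ k w.1 w.2⟩) n
  exact ⟨fun n => (S n).1, fun n => ⟨(S n).2, hs₂ n _ (S n).2⟩⟩

variable (A : Type u) [CommRing A] (An : ℕ → Type u)
    [∀ n, CommRing (An n)] (t : ∀ n, An (n + 1) →+* An n) (π : ∀ n, A →+* An n)
    (M : ℕ → Type u) [∀ n, AddCommGroup (M n)] [∀ n, Module (An n) (M n)]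

omit [∀ n, CommRing (An n)] in
theorem exists_compat (n : ℕ) : ∀ (X : ℕ → Type u) (g : ∀ k, X (k + 1) → X k),
    (∀ k, Function.Surjective (g k)) → ∀ x : X n,
      ∃ y : ∀ k, X k, (∀ k, g k (y (k + 1)) = y k) ∧ y n = x := by
  induction n with
  | zero =>
    intro X g hg x
    choose s hs using hg
    exact ⟨fun k => Nat.rec x (fun k w => s k w) k, fun k => hs k _, rfl⟩
  | succ n ih =>
    intro X g hg x
    obtain ⟨y, hy, hx⟩ := ih (fun k => X (k + 1)) (fun k => g (k + 1)) (fun k => hg (k + 1)) x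
    exact ⟨fun k => Nat.casesOn k (g 0 (y 0)) y, fun k => by cases k with
      | zero => rfl
      | succ k => exact hy k, hx⟩

theorem surjective_proj (ht : ∀ n, Function.Surjective (t n)) (hA : FlatCA.IsRingLimit A An t π)
    (n : ℕ) : Function.Surjective (π n) := by
  intro x
  obtain ⟨y, hy, hx⟩ := exists_compat n An (fun k => t k) ht x
  obtain ⟨a, ha⟩ := hA.2.2 y hy
  exact ⟨a, (ha n).trans hx⟩

theorem exists_finite_projective_limit
    (ht : ∀ n, Function.Surjective (t n)) (hnil : ∀ n (x : An (n + 1)), t n x = 0 → IsNilpotent x)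
    (hA : FlatCA.IsRingLimit A An t π) (u : ∀ n, M (n + 1) →ₛₗ[t n] M n)
    [Module.Projective (An 0) (M 0)] (hfin : ∀ n, Module.Finite (An n) (M n)) (hflat : ∀ n, Module.Flat (An n) (M n))
    (hu : ∀ n, Function.Surjective (u n) ∧ LinearMap.ker (u n) = RingHom.ker (t n) • (⊤ : Submodule (An (n + 1)) (M (n + 1)))) :
    ∃ (P : Type u) (_ : AddCommGroup P) (_ : Module A P) (p : ∀ n, P →ₛₗ[π n] M n),
      Module.Finite A P ∧ Module.Projective A P ∧ (∀ n (x : P), u n (p (n + 1) x) = p n x) ∧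
      (∀ n, Function.Surjective (p n) ∧ LinearMap.ker (p n) = RingHom.ker (π n) • (⊤ : Submodule A P)) ∧
      (∀ x : (∀ n, M n), (∀ n, u n (x (n + 1)) = x n) → ∃! q : P, ∀ n, p n q = x n) := by
  classical
  have hπ := surjective_proj A An t π ht hA
  have htπ : ∀ n a, t n (π (n + 1) a) = π n a := fun n a => DFunLike.congr_fun (hA.1 n) a
  -- compatible generators
  have := hfin 0
  obtain ⟨m, g₀, hg₀⟩ := Module.Finite.exists_fin' (An 0) (M 0)
  obtain ⟨x, hx⟩ := exists_seq (fun n => Fin m → M n)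
    (fun n z => Function.Surjective (Fintype.linearCombination (An n) z)) (fun n z i => u n (z i))
    ⟨fun i => g₀ (Pi.single i 1), by
      have h : Fintype.linearCombination (An 0) (fun i => g₀ (Pi.single i 1)) = g₀ :=
        LinearMap.pi_ext fun i a => by
          rw [Fintype.linearCombination_apply_single, ← map_smul, ← Pi.single_smul, smul_eq_mul, mul_one]
      rw [h]; exact hg₀⟩
    fun n z hz => by
      choose z' hz' using fun i => (hu n).1 (z i)
      have := hfin (n + 1)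
      exact ⟨z', surjective_of_compat (t n) (u n) (hnil n) (ht n) (hu n).2 _
        (Fintype.linearCombination (An n) z) (fun y => by
          simp [Fintype.linearCombination_apply, map_sum, LinearMap.map_smulₛₗ, hz']) hz, funext hz'⟩
  let f : ∀ n, (Fin m → An n) →ₗ[An n] M n := fun n => Fintype.linearCombination (An n) (x n)
  have hfs : ∀ n, Function.Surjective (f n) := fun n => (hx n).1
  have hf : ∀ n y, u n (f (n + 1) y) = f n (t n ∘ y) := fun n y => by
    simp [f, Fintype.linearCombination_apply, map_sum, LinearMap.map_smulₛₗ, ← congrFun (hx n).2]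
  -- compatible idempotents
  obtain ⟨e, he⟩ := exists_seq (fun n => Matrix (Fin m) (Fin m) (An n))
    (fun n e => (∀ y, f n (e *ᵥ y) = f n y) ∧ ∀ y, f n y = 0 → e *ᵥ y = 0) (fun n e => e.map (t n))
    (by
      obtain ⟨s, hs⟩ := Module.projective_lifting_property (f 0) LinearMap.id (hfs 0)
      refine ⟨LinearMap.toMatrix' (s ∘ₗ f 0), fun y => ?_, fun y hy => ?_⟩
      · rw [← Matrix.toLin'_apply, Matrix.toLin'_toMatrix']
        exact LinearMap.congr_fun hs (f 0 y)
      · rw [← Matrix.toLin'_apply, Matrix.toLin'_toMatrix', LinearMap.comp_apply, hy, map_zero])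
    fun n e he => by
      have := hfin (n + 1)
      have := hflat (n + 1)
      obtain ⟨E, h1, h2, h3⟩ := exists_matrix_succ (t n) (u n) (hnil n) (ht n) (hu n).2 (f (n + 1))
        (f n) (hf n) (hfs (n + 1)) e he.1 he.2
      exact ⟨E, ⟨h1, h2⟩, h3⟩
  choose ε hε using fun i j => hA.2.2 (fun n => e n i j) fun n => congrFun (congrFun (he n).2 i) j
  let Ε : Matrix (Fin m) (Fin m) A := Matrix.of ε
  have hΕ : ∀ n, Ε.map (π n) = e n := fun n => by ext i j; exact hε i j n
  have hmapv : ∀ n (y : Fin m → A), π n ∘ (Ε *ᵥ y) = e n *ᵥ (π n ∘ y) := fun n y => by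
    rw [← hΕ n]; exact funext fun i => RingHom.map_mulVec (π n) Ε y i
  have hidem : ∀ n y, e n *ᵥ (e n *ᵥ y) = e n *ᵥ y := fun n y => by
    rw [← sub_eq_zero, ← mulVec_sub]
    exact (he n).1.2 _ (by rw [map_sub, (he n).1.1, sub_self])
  have hΕΕ : ∀ y, Ε *ᵥ (Ε *ᵥ y) = Ε *ᵥ y := fun y => funext fun i => hA.2.1 _ _ fun n => by
    exact congrFun (((hmapv n _).trans (by rw [hmapv n y, hidem])).trans (hmapv n y).symm) i
  let T := Matrix.toLin' Ε
  let P := LinearMap.range T
  have hfix : ∀ z : P, Ε *ᵥ (z : Fin m → A) = z := fun z => by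
    obtain ⟨v, hv⟩ := z.2
    rw [← hv, Matrix.toLin'_apply, hΕΕ]
  let p : ∀ n, P →ₛₗ[π n] M n := fun n =>
    { toFun := fun z => f n (π n ∘ (z : Fin m → A))
      map_add' := fun z z' => by
        rw [← map_add]; congr 1; funext i; simp
      map_smul' := fun a z => by
        rw [← map_smul]; congr 1; funext i; simp }
  have hp : ∀ n (z : P), p n z = f n (π n ∘ (z : Fin m → A)) := fun _ _ => rfl
  have hp0 : ∀ n (z : P), p n z = 0 → π n ∘ (z : Fin m → A) = 0 := fun n z hz => by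
    rw [← hfix z, hmapv]; exact (he n).1.2 _ hz
  refine ⟨P, inferInstance, inferInstance, p, Module.Finite.range T, ?_, fun n z => ?_, fun n => ⟨?_, ?_⟩, ?_⟩
  · exact Module.Projective.of_split P.subtype T.rangeRestrict
      (LinearMap.ext fun z => Subtype.ext (hfix z))
  · rw [hp, hp, hf]; congr 1; funext i; exact htπ n _
  · intro y
    obtain ⟨y', rfl⟩ := hfs n y
    obtain ⟨v, rfl⟩ := (hπ n).comp_left y'
    refine ⟨⟨_, v, rfl⟩, ?_⟩
    rw [hp]
    show f n (π n ∘ (Ε *ᵥ v)) = _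
    rw [hmapv, (he n).1.1]
  · refine le_antisymm (fun z hz => ?_) (Submodule.smul_le.mpr fun a ha z _ => ?_)
    · rw [show z = ∑ j, (z : Fin m → A) j • T.rangeRestrict (Pi.single j 1) from Subtype.ext (by
        conv_lhs => rw [← hfix z, pi_eq_sum_univ' (z : Fin m → A), Matrix.mulVec_sum]
        simp [T, Matrix.mulVec_smul])]
      exact Submodule.sum_mem _ fun j _ => Submodule.smul_mem_smul
        (RingHom.mem_ker.mpr (congrFun (hp0 n z (LinearMap.mem_ker.mp hz)) j)) trivial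
    · rw [LinearMap.mem_ker, LinearMap.map_smulₛₗ, RingHom.mem_ker.mp ha, zero_smul]
  · intro w hw
    choose y hy using fun n => hfs n (w n)
    have hcomp : ∀ n, t n ∘ (e (n + 1) *ᵥ y (n + 1)) = e n *ᵥ y n := fun n => by
      rw [show t n ∘ (e (n + 1) *ᵥ y (n + 1)) = (e (n + 1)).map (t n) *ᵥ (t n ∘ y (n + 1)) from
        funext fun i => RingHom.map_mulVec (t n) _ _ i, (he n).2, ← sub_eq_zero, ← mulVec_sub]
      exact (he n).1.2 _ (by rw [map_sub, ← hf, hy, hy, hw, sub_self])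
    choose z hz using fun i => hA.2.2 (fun n => (e n *ᵥ y n) i) fun n => congrFun (hcomp n) i
    have hzn : ∀ n, π n ∘ z = e n *ᵥ y n := fun n => funext fun i => hz i n
    have hzP : T z = z := funext fun i => hA.2.1 _ _ fun n => by
      exact (congrFun ((hmapv n z).trans (show e n *ᵥ (π n ∘ z) = e n *ᵥ y n by rw [hzn, hidem])) i).trans (hz i n).symm
    refine ⟨⟨z, z, hzP⟩, fun n => ?_, fun q hq => ?_⟩
    · rw [hp, hzn, (he n).1.1, hy]
    · refine Subtype.ext (funext fun i => hA.2.1 _ _ fun n => ?_)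
      have h1 : p n q = f n (π n ∘ z) := by rw [hq n, hzn, (he n).1.1, hy]
      have h2 : f n (π n ∘ (q : Fin m → A) - π n ∘ z) = 0 := by rw [map_sub, ← hp, h1, sub_self]
      have h3 := (he n).1.2 _ h2
      rw [mulVec_sub, ← hmapv, hfix, hzn, hidem, ← hzn, sub_eq_zero] at h3
      exact congrFun h3 i

end Groth.Hensel1.LimitProjective
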