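import Groth.Agent.Hensel1.MinimalPrimesNorm
import Groth.Agent.Ega4Algebra2.NormalRingSmooth
import Groth.Agent.Ega4Algebra2.NormalDescent

/-!
# Henselizations of normal rings are locally domains
-/

set_option autoImplicit false

namespace Groth.Hensel1

open IsLocalRing
open scoped TensorProduct

universe u

set_option maxHeartbeats 1000000 in
/-- A henselization tensored with a normal ring is locally a domain. -/
theorem Hens.locallyDomain_tensor_of_isNormalRing {R : Type u} [CommRing R] {Ω : Type u} [Field Ω] [Algebra R Ω]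
    (B : Type u) [CommRing B] [Algebra R B] (hB : EGA4.IsNormalRing B) :
    LocallyDomain (B ⊗[R] Hens R Ω) := by
  intro n hn x y t ht h
  classical
  obtain ⟨i₁, x₁, hx₁⟩ := Hens.exists_fibre_rep B x
  obtain ⟨i₂, y₁, hy₁⟩ := Hens.exists_fibre_rep B y
  obtain ⟨i₃, t₁, ht₁⟩ := Hens.exists_fibre_rep B t
  obtain ⟨k₀, h₁, h₂⟩ := exists_ge_ge i₁ i₂
  obtain ⟨i, h₀, h₃⟩ := exists_ge_ge k₀ i₃
  let φ : B ⊗[R] i.Obj →ₐ[B] B ⊗[R] Hens R Ω := Algebra.TensorProduct.map (AlgHom.id B B) (Hens.of i)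
  have up : ∀ (j : HensIdx R Ω) (hj : j ≤ i) (a : B ⊗[R] j.Obj),
      φ (Algebra.TensorProduct.map (AlgHom.id B B) (HensIdx.tr j i hj) a) =
        Algebra.TensorProduct.map (AlgHom.id B B) (Hens.of j) a := by
    intro j hj a
    induction a with
    | zero => simp
    | tmul c d => simp [φ, Hens.of_tr]
    | add a b ha hb => simp only [map_add, ha, hb]
  obtain ⟨x', hx'⟩ : ∃ a, φ a = x := ⟨_, (up i₁ (h₁.trans h₀) x₁).trans hx₁⟩
  obtain ⟨y', hy'⟩ : ∃ a, φ a = y := ⟨_, (up i₂ (h₂.trans h₀) y₁).trans hy₁⟩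
  obtain ⟨t', ht'⟩ : ∃ a, φ a = t := ⟨_, (up i₃ h₃ t₁).trans ht₁⟩
  let ρ : (B ⊗[R] i.P.Ring) →ₐ[B] B ⊗[R] i.Obj :=
    Algebra.TensorProduct.map (AlgHom.id B B) (IsScalarTower.toAlgHom R i.P.Ring i.Obj)
  have rep : ∀ z : B ⊗[R] i.Obj, ∃ (d : i.q.primeCompl) (a : (B ⊗[R] i.P.Ring)),
      (1 ⊗ₜ algebraMap i.P.Ring i.Obj d) * z = ρ a := by
    intro z
    induction z with
    | zero => exact ⟨1, 0, by simp⟩
    | tmul b c =>
      obtain ⟨⟨p, d⟩, hc⟩ := IsLocalization.surj i.q.primeCompl c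
      exact ⟨d, b ⊗ₜ p, by simp [ρ, ← hc, mul_comm]⟩
    | add z₁ z₂ hz₁ hz₂ =>
      obtain ⟨d₁, a₁, e₁⟩ := hz₁
      obtain ⟨d₂, a₂, e₂⟩ := hz₂
      refine ⟨d₁ * d₂, (1 ⊗ₜ (d₂ : i.P.Ring)) * a₁ + (1 ⊗ₜ (d₁ : i.P.Ring)) * a₂, ?_⟩
      rw [map_add, map_mul, map_mul, ← e₁, ← e₂, mul_add, Submonoid.coe_mul, map_mul]
      simp only [ρ, Algebra.TensorProduct.map_tmul, map_one, IsScalarTower.coe_toAlgHom']
      rw [show (1 : B) ⊗ₜ[R] (algebraMap i.P.Ring i.Obj ↑d₁ * algebraMap i.P.Ring i.Obj ↑d₂) =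
        (1 ⊗ₜ algebraMap i.P.Ring i.Obj d₁) * (1 ⊗ₜ algebraMap i.P.Ring i.Obj d₂) by simp]
      ring
  let ψ : (B ⊗[R] i.P.Ring) →+* B ⊗[R] Hens R Ω := φ.toRingHom.comp ρ.toRingHom
  let w : Ideal (B ⊗[R] i.P.Ring) := n.comap ψ
  have : w.IsPrime := Ideal.IsPrime.comap _
  let L := Localization.AtPrime w
  obtain ⟨_, -⟩ := Groth.Ega4b.isNormalRing_of_smooth B (B ⊗[R] i.P.Ring) hB w
  have hunit : ∀ d : i.q.primeCompl, IsUnit ((1 : B) ⊗ₜ[R] algebraMap i.P.Ring i.Obj d) := fun d =>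
    (IsLocalization.map_units i.Obj d).map (Algebra.TensorProduct.includeRight : i.Obj →ₐ[R] B ⊗[R] i.Obj)
  let γ : i.P.Ring →+* L := (algebraMap (B ⊗[R] i.P.Ring) L).comp Algebra.TensorProduct.includeRight.toRingHom
  have hγ : ∀ d : i.q.primeCompl, IsUnit (γ d) := fun d => by
    refine (IsLocalization.AtPrime.isUnit_to_map_iff L w _).mpr fun hd => ?_
    exact hn.ne_top (Ideal.eq_top_of_isUnit_mem _ hd (by
      show IsUnit (φ (ρ ((1 : B) ⊗ₜ[R] (d : i.P.Ring))))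
      exact (by simpa [ρ] using hunit d : IsUnit (ρ ((1 : B) ⊗ₜ[R] (d : i.P.Ring)))).map φ))
  let γ' : i.Obj →ₐ[R] L :=
    { IsLocalization.lift (M := i.q.primeCompl) hγ with
      commutes' := fun r => by
        show IsLocalization.lift (M := i.q.primeCompl) hγ (algebraMap R i.Obj r) = _
        rw [IsScalarTower.algebraMap_apply R i.P.Ring i.Obj, IsLocalization.lift_eq,
          IsScalarTower.algebraMap_apply R (B ⊗[R] i.P.Ring) L]
        exact congrArg (algebraMap (B ⊗[R] i.P.Ring) L) (Algebra.TensorProduct.includeRight.commutes r) }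
  let Ψ : B ⊗[R] i.Obj →ₐ[B] L :=
    Algebra.TensorProduct.lift (Algebra.ofId B L) γ' fun _ _ => Commute.all _ _
  have hΨ : ∀ a, Ψ (ρ a) = algebraMap (B ⊗[R] i.P.Ring) L a := by
    intro a
    induction a with
    | zero => simp
    | tmul b p =>
      rw [show (b ⊗ₜ[R] p : (B ⊗[R] i.P.Ring)) = algebraMap B (B ⊗[R] i.P.Ring) b * (1 ⊗ₜ p) by simp, map_mul, map_mul, map_mul,
        AlgHom.commutes, AlgHom.commutes, ← IsScalarTower.algebraMap_apply]
      congr 1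
      simp only [Ψ, ρ, Algebra.TensorProduct.map_tmul, map_one, IsScalarTower.coe_toAlgHom',
        Algebra.TensorProduct.lift_tmul, one_mul]
      exact IsLocalization.lift_eq hγ p
    | add a b ha hb => simp only [map_add, ha, hb]
  have h0 : t' * (x' * y') = 0 := Hens.injective_map_of B i (by
    show φ _ = φ 0
    rw [map_mul, map_mul, hx', hy', ht', h, map_zero])
  obtain ⟨dt, at', et⟩ := rep t'
  obtain ⟨dx, ax, ex⟩ := rep x'
  obtain ⟨dy, ay, ey⟩ := rep y'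
  have hL : algebraMap (B ⊗[R] i.P.Ring) L at' * (algebraMap (B ⊗[R] i.P.Ring) L ax * algebraMap (B ⊗[R] i.P.Ring) L ay) = 0 := by
    rw [← map_mul, ← map_mul, ← hΨ, map_mul ρ, map_mul ρ, ← et, ← ex, ← ey,
      show (1 ⊗ₜ algebraMap i.P.Ring i.Obj dt) * t' * ((1 ⊗ₜ algebraMap i.P.Ring i.Obj dx) * x' *
        ((1 ⊗ₜ algebraMap i.P.Ring i.Obj dy) * y')) =
        ((1 ⊗ₜ algebraMap i.P.Ring i.Obj dt) * (1 ⊗ₜ algebraMap i.P.Ring i.Obj dx) *
          (1 ⊗ₜ algebraMap i.P.Ring i.Obj dy)) * (t' * (x' * y')) by ring, h0, mul_zero, map_zero]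
  have hat : at' ∉ w := fun hmem => ht (by
    have : φ ((1 ⊗ₜ algebraMap i.P.Ring i.Obj dt) * t') ∈ n := by rw [et]; exact hmem
    rw [map_mul, ht'] at this
    exact (hn.mem_or_mem this).resolve_left
      fun hu => hn.ne_top (Ideal.eq_top_of_isUnit_mem _ hu ((hunit dt).map φ)))
  have key : ∀ (z : B ⊗[R] Hens R Ω) (z' : B ⊗[R] i.Obj) (a : (B ⊗[R] i.P.Ring)) (d : i.q.primeCompl),
      φ z' = z → (1 ⊗ₜ algebraMap i.P.Ring i.Obj d) * z' = ρ a → algebraMap (B ⊗[R] i.P.Ring) L a = 0 →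
        ∃ s ∉ n, s * z = 0 := by
    intro z z' a d hz e ha
    obtain ⟨c, hc⟩ := (IsLocalization.map_eq_zero_iff w.primeCompl L a).mp ha
    refine ⟨ψ c * φ (1 ⊗ₜ algebraMap i.P.Ring i.Obj d), fun hmem => ?_, ?_⟩
    · exact (hn.mem_or_mem hmem).elim c.2
        fun hu => hn.ne_top (Ideal.eq_top_of_isUnit_mem _ hu ((hunit d).map φ))
    · rw [mul_assoc, ← hz, ← map_mul, e]
      show φ (ρ c) * φ (ρ a) = 0
      rw [← map_mul, ← map_mul, hc, map_zero, map_zero]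
  rcases mul_eq_zero.mp hL with h' | h'
  · exact absurd h' fun hz =>
      (IsLocalization.AtPrime.isUnit_to_map_iff L w at').mpr hat |>.ne_zero hz
  rcases mul_eq_zero.mp h' with h' | h'
  · obtain ⟨s, hs, hs'⟩ := key x x' ax dx hx' ex h'
    exact ⟨s, hs, Or.inl hs'⟩
  · obtain ⟨s, hs, hs'⟩ := key y y' ay dy hy' ey h'
    exact ⟨s, hs, Or.inr hs'⟩


theorem HensModel.locallyDomain_tensor_of_isNormalRing {R S : Type u} [CommRing R] [IsLocalRing R]
    [CommRing S] [IsLocalRing S] [Algebra R S] [IsLocalHom (algebraMap R S)] (M : HensModel R S)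
    (B : Type u) [CommRing B] [Algebra R B] (hB : EGA4.IsNormalRing B) : LocallyDomain (B ⊗[R] S) :=
  (Hens.locallyDomain_tensor_of_isNormalRing B hB).of_ringEquiv
    (Algebra.TensorProduct.congr (AlgEquiv.refl : B ≃ₐ[B] B) M.equiv).toRingEquiv

end Groth.Hensel1
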