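import Groth.Agent.HensPair.Nbhd
import Mathlib.RingTheory.Ideal.IdempotentFG
import Mathlib.RingTheory.TensorProduct.Quotient
import Mathlib.RingTheory.Etale.Basic
import Mathlib.Tactic.LinearCombination

/-!
# An étale algebra with an `A/I`-point contains an étale neighbourhood of `(A, I)`
-/

set_option autoImplicit false

namespace Groth.Hensel1

open TensorProduct

universe u

set_option maxHeartbeats 1000000 in
theorem exists_isNbhd_of_point {A E : Type u} [CommRing A] [CommRing E] [Algebra A E]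
    [Algebra.Etale A E] (I : Ideal A) (ρ : E →ₐ[A] A ⧸ I) :
    ∃ (g : E) (σ : Localization.Away g →ₐ[A] A ⧸ I), Groth.HensPair.IsNbhd I (Localization.Away g) ∧
      σ.comp (IsScalarTower.toAlgHom A E (Localization.Away g)) = ρ := by
  let B := (A ⧸ I) ⊗[A] E
  let ρb : B →ₐ[A ⧸ I] A ⧸ I :=
    Algebra.TensorProduct.lift (AlgHom.id _ _) ρ fun _ _ => Commute.all _ _
  have hsurj : Function.Surjective ρb := fun y => ⟨y ⊗ₜ 1, by
    refine (Algebra.TensorProduct.lift_tmul _ _ _ _ _).trans ?_
    rw [AlgHom.id_apply]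
    exact (congrArg _ (map_one ρ)).trans (mul_one _)⟩
  let := ρb.toRingHom.toAlgebra
  have : IsScalarTower (A ⧸ I) B (A ⧸ I) :=
    IsScalarTower.of_algebraMap_eq fun y => (ρb.commutes y).symm
  have : Algebra.FormallyEtale B (A ⧸ I) := Algebra.FormallyEtale.of_restrictScalars (R := A ⧸ I)
  have hidem := (Algebra.FormallyEtale.iff_of_surjective
    (R := B) (S := A ⧸ I) hsurj).mp inferInstance
  have hfg : (RingHom.ker ρb.toRingHom).FG :=
    Algebra.FinitePresentation.ker_fG_of_surjective ρb hsurj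
  obtain ⟨e, he, hke⟩ := (Ideal.isIdempotentElem_iff_of_fg _ hfg).mp hidem
  obtain ⟨g, hg⟩ : ∃ g : E, (1 : A ⧸ I) ⊗ₜ[A] g = 1 - e :=
    TensorProduct.mk_surjective A E (A ⧸ I) Ideal.Quotient.mk_surjective (1 - e)
  have hρ : ∀ y : E, ρb ((1 : A ⧸ I) ⊗ₜ[A] y) = ρ y := fun y => by
    refine (Algebra.TensorProduct.lift_tmul _ _ _ _ _).trans ?_
    rw [map_one]
    exact one_mul _
  have hρe : ρb e = 0 := RingHom.mem_ker.mp (hke.ge (Submodule.mem_span_singleton_self e))
  have hρg : ρ g = 1 := by rw [← hρ, hg, map_sub, map_one, hρe, sub_zero]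
  let σ : Localization.Away g →ₐ[A] A ⧸ I :=
    IsLocalization.Away.liftAlgHom (f := ρ) g (by rw [hρg]; exact isUnit_one)
  have hρu : IsUnit (ρ.toRingHom g) := by
    show IsUnit (ρ g)
    rw [hρg]; exact isUnit_one
  have hσ : σ.comp (IsScalarTower.toAlgHom A E (Localization.Away g)) = ρ := by
    refine AlgHom.ext fun y => ?_
    rw [AlgHom.comp_apply, IsScalarTower.coe_toAlgHom', IsLocalization.Away.liftAlgHom_apply]
    exact IsLocalization.Away.lift_eq (S := Localization.Away g) (g := ρ.toRingHom) g hρu y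
  set L := Localization.Away g
  set J := I.map (algebraMap A L)
  have hu : IsUnit (algebraMap E L g) := IsLocalization.Away.algebraMap_isUnit g
  have key : ∀ (y : E) (a : A), ρ y = Ideal.Quotient.mk I a →
      algebraMap E L y - algebraMap A L a ∈ J := by
    intro y a hy
    let z := y - algebraMap A E a
    have h1 : (1 : A ⧸ I) ⊗ₜ[A] z ∈ RingHom.ker ρb.toRingHom := by
      show ρb _ = 0
      rw [hρ, map_sub, AlgHom.commutes, hy]
      exact sub_self _
    rw [hke] at h1
    obtain ⟨c, hc⟩ := Submodule.mem_span_singleton.mp h1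
    have h2 : (1 : A ⧸ I) ⊗ₜ[A] (z * g) = 0 := by
      have : (1 : A ⧸ I) ⊗ₜ[A] (z * g) = ((1 : A ⧸ I) ⊗ₜ[A] z) * ((1 : A ⧸ I) ⊗ₜ[A] g) := by simp
      rw [this, hg, ← hc, smul_eq_mul, mul_assoc, he.mul_one_sub_self, mul_zero]
    have h3 : z * g ∈ I.map (algebraMap A E) := by
      refine Ideal.Quotient.eq_zero_iff_mem.mp
        ((Algebra.TensorProduct.quotIdealMapEquivTensorQuot E I).injective ?_)
      rw [map_zero]
      have := congr_arg (Algebra.TensorProduct.comm A (A ⧸ I) E) h2
      simpa using this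
    have h4 := Ideal.mem_map_of_mem (algebraMap E L) h3
    rw [Ideal.map_map, ← IsScalarTower.algebraMap_eq, map_mul] at h4
    have h5 := (Ideal.mul_unit_mem_iff_mem J hu).mp h4
    rwa [show algebraMap E L z = algebraMap E L y - algebraMap A L a by
      rw [map_sub, ← IsScalarTower.algebraMap_apply]] at h5
  have := Algebra.Etale.of_isLocalizationAway (R := E) (A := L) g
  have : Algebra.Etale A L := Algebra.Etale.comp A E L
  refine ⟨g, σ, ⟨this, ⟨σ⟩, fun x => ?_⟩, hσ⟩
  obtain ⟨k, y, hy⟩ := IsLocalization.Away.surj g x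
  obtain ⟨a, ha⟩ := Ideal.Quotient.mk_surjective (ρ y)
  obtain ⟨b, hb⟩ := Ideal.Quotient.mk_surjective (ρ g)
  refine ⟨a, (Ideal.mul_unit_mem_iff_mem J (hu.pow k)).mp ?_⟩
  have hg1 : algebraMap E L g - 1 ∈ J := by
    simpa using key g 1 (hρg.trans (map_one _).symm)
  have hgk : algebraMap E L g ^ k - 1 ∈ J := by
    rw [← Ideal.Quotient.eq_zero_iff_mem] at hg1 ⊢
    rw [map_sub, sub_eq_zero] at hg1
    rw [map_sub, map_pow, hg1, map_one, one_pow, sub_self]
  have : (x - algebraMap A L a) * algebraMap E L g ^ k =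
      (algebraMap E L y - algebraMap A L a) - algebraMap A L a * (algebraMap E L g ^ k - 1) := by
    linear_combination hy
  rw [this]
  exact sub_mem (key y a ha.symm) (Ideal.mul_mem_left _ _ hgk)

end Groth.Hensel1
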