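import Groth.Agent.Hensel1.LocallyDomainNormal
import Groth.Agent.Hensel1.BranchOne
import Groth.Agent.Hensel1.EtaleTransfer
import Mathlib.FieldTheory.IsAlgClosed.AlgebraicClosure

/-!
# Branches along flat local maps with normal normalized fibres

For a flat local map `A → B` such that `B ⊗ A'` is normal for every normal domain `A'` over `A`
(e.g. `B` a local ring of a smooth `A`-algebra) the geometric branches of `B` are those of `A`.
-/

set_option autoImplicit false

namespace Groth.Hensel1

open IsLocalRing
open scoped TensorProduct nonZeroDivisors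

universe u

/-- Homs from an integral algebra to an algebraically closed field do not depend on the field. -/
theorem card_hom_eq_of_isAlgClosed {A B Ω₀ Ω : Type u} [CommRing A] [CommRing B] [Algebra A B]
    [Algebra.IsIntegral A B] [Field Ω₀] [IsAlgClosed Ω₀] [Field Ω] (ι : Ω₀ →+* Ω) (τ₀ : A →+* Ω₀) :
    ENat.card {g : B →+* Ω₀ // g.comp (algebraMap A B) = τ₀} =
      ENat.card {g : B →+* Ω // g.comp (algebraMap A B) = ι.comp τ₀} := by
  refine ENat.card_congr (Equiv.ofBijective
    (fun g => ⟨ι.comp g.1, by rw [RingHom.comp_assoc, g.2]⟩) ⟨fun g g' h => ?_, fun g => ?_⟩)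
  · exact Subtype.ext (RingHom.ext fun b => ι.injective (RingHom.congr_fun (congrArg Subtype.val h) b))
  · let _ : Algebra Ω₀ Ω := ι.toAlgebra
    have hr : ∀ b, ∃ y, ι y = g.1 b := fun b => by
      obtain ⟨F, hFm, hF⟩ := Algebra.IsIntegral.isIntegral (R := A) b
      have hint : IsIntegral Ω₀ (g.1 b) := ⟨F.map τ₀, hFm.map _, by
        rw [Polynomial.eval₂_map]
        have h := congrArg g.1 hF
        rwa [Polynomial.hom_eval₂, g.2, map_zero] at h⟩
      exact minpoly.mem_range_of_degree_eq_one Ω₀ (g.1 b)
        (IsAlgClosed.degree_eq_one_of_irreducible Ω₀ (minpoly.irreducible hint))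
    choose y hy using hr
    refine ⟨⟨{ toFun := y
               map_one' := ι.injective (by rw [hy, map_one, map_one])
               map_mul' := fun a b => ι.injective (by rw [hy, map_mul, map_mul, hy, hy])
               map_zero' := ι.injective (by rw [hy, map_zero, map_zero])
               map_add' := fun a b => ι.injective (by rw [hy, map_add, map_add, hy, hy]) }, ?_⟩,
      Subtype.ext (RingHom.ext hy)⟩
    exact RingHom.ext fun a => ι.injective ((hy _).trans (RingHom.congr_fun g.2 a))

set_option maxHeartbeats 1000000 in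
/-- Over a strictly henselian ring the minimal primes of a locally-domain integral algebra `B ⊗ H`
are the homomorphisms of `B` to a fixed algebraic closure. -/
theorem card_minimalPrimes_tensor_eq_card_hom {A B H : Type u} [CommRing A] [CommRing B] [Algebra A B]
    [Algebra.IsIntegral A B] [CommRing H] [HenselianLocalRing H] [Algebra A H]
    [IsSepClosed (ResidueField H)] {Ω : Type u} [Field Ω] [IsAlgClosed Ω]
    (σ : ResidueField H →+* Ω) (hT : LocallyDomain (B ⊗[A] H)) :
    ENat.card (minimalPrimes (B ⊗[A] H)) =
      ENat.card {g : B →+* Ω // g.comp (algebraMap A B) = (σ.comp (residue H)).comp (algebraMap A H)} := by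
  classical
  let _ : Algebra H (B ⊗[A] H) := Algebra.TensorProduct.rightAlgebra
  have : Algebra.IsIntegral H (B ⊗[A] H) :=
    Algebra.IsIntegral.of_surjective (Algebra.TensorProduct.commRight A H B).toAlgHom
      (Algebra.TensorProduct.commRight A H B).surjective
  rw [card_minimalPrimes_eq_card_maximalSpectrum (H := H) hT]
  let _ : Algebra (ResidueField H) Ω := σ.toAlgebra
  let τ : H →+* Ω := σ.comp (residue H)
  have hkerτ : RingHom.ker τ = maximalIdeal H := by
    ext a
    rw [RingHom.mem_ker, RingHom.comp_apply, map_eq_zero_iff _ (RingHom.injective _), residue_eq_zero_iff]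
  have huniq : ∀ n : MaximalSpectrum (B ⊗[A] H), Nonempty (Unique {g : (B ⊗[A] H) ⧸ n.asIdeal →+* Ω //
      g.comp ((Ideal.Quotient.mk n.asIdeal).comp (algebraMap H (B ⊗[A] H))) = τ}) := by
    intro n
    have := n.isMaximal
    let K := (B ⊗[A] H) ⧸ n.asIdeal
    let _ : Field K := Ideal.Quotient.field _
    have h0 : n.asIdeal.comap (algebraMap H (B ⊗[A] H)) = maximalIdeal H :=
      IsLocalRing.eq_maximalIdeal (Ideal.isMaximal_comap_of_isIntegral_of_isMaximal (R := H) n.asIdeal)
    let _ : Algebra (ResidueField H) K :=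
      (Ideal.Quotient.lift (maximalIdeal H) ((Ideal.Quotient.mk n.asIdeal).comp (algebraMap H (B ⊗[A] H)))
        fun a ha => Ideal.Quotient.eq_zero_iff_mem.mpr (by rw [← h0] at ha; exact ha)).toAlgebra
    have : Algebra.IsAlgebraic (ResidueField H) K := ⟨fun z => by
      obtain ⟨z, rfl⟩ := Ideal.Quotient.mk_surjective z
      obtain ⟨F, hFm, hF⟩ := Algebra.IsIntegral.isIntegral (R := H) z
      refine ⟨F.map (residue H), (hFm.map _).ne_zero, ?_⟩
      have h9 := congrArg (Ideal.Quotient.mk n.asIdeal) hF
      rw [map_zero, Polynomial.hom_eval₂] at h9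
      rw [Polynomial.aeval_def, Polynomial.eval₂_map]
      exact h9⟩
    let e : {g : K →+* Ω // g.comp ((Ideal.Quotient.mk n.asIdeal).comp (algebraMap H (B ⊗[A] H))) = τ} ≃
        (K →ₐ[ResidueField H] Ω) :=
      { toFun := fun g => { g.1 with
          commutes' := fun c => by
            obtain ⟨a, rfl⟩ := residue_surjective c
            exact RingHom.congr_fun g.2 a }
        invFun := fun g => ⟨g.toRingHom, RingHom.ext fun a => g.commutes (residue H a)⟩
        left_inv := fun _ => rfl
        right_inv := fun _ => rfl }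
    have : Subsingleton (K →ₐ[ResidueField H] Ω) := inferInstance
    let _ : Inhabited (K →ₐ[ResidueField H] Ω) := ⟨IsAlgClosed.lift⟩
    let _ : Unique (K →ₐ[ResidueField H] Ω) := Unique.mk' _
    exact ⟨e.unique⟩
  refine ENat.card_congr (Equiv.trans ?_ ((sigmaEmb (A := H) (B := B ⊗[A] H) τ
    (hkerτ.symm ▸ maximalIdeal.isMaximal H)).trans ?_))
  · exact (@Equiv.sigmaUnique _ _ fun n => (huniq n).some).symm
  · refine
      { toFun := fun g => ⟨g.1.comp (algebraMap B (B ⊗[A] H)), RingHom.ext fun a => ?_⟩
        invFun := fun g => ⟨?_, ?_⟩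
        left_inv := ?_
        right_inv := ?_ }
    rotate_left
    · let _ : Algebra A Ω := ((σ.comp (residue H)).comp (algebraMap A H)).toAlgebra
      let gA : B →ₐ[A] Ω := { g.1 with commutes' := fun a => RingHom.congr_fun g.2 a }
      let τA : H →ₐ[A] Ω := { τ with commutes' := fun a => rfl }
      exact (Algebra.TensorProduct.lift gA τA fun _ _ => Commute.all _ _).toRingHom
    · refine RingHom.ext fun s => ?_
      show g.1 (1 : B) * τ s = τ s
      rw [map_one, one_mul]
    · intro g
      refine Subtype.ext (RingHom.ext fun x => ?_)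
      induction x with
      | zero => simp
      | tmul b s =>
        show g.1 (b ⊗ₜ[A] (1 : H)) * τ s = g.1 (b ⊗ₜ[A] s)
        rw [← RingHom.congr_fun g.2 s, RingHom.comp_apply, ← map_mul]
        congr 1
        show (b ⊗ₜ[A] (1 : H)) * ((1 : B) ⊗ₜ[A] s) = _
        simp
      | add x y hx hy => simp only [map_add] at hx hy ⊢; rw [hx, hy]
    · intro g
      refine Subtype.ext (RingHom.ext fun b => ?_)
      show g.1 b * τ (1 : H) = g.1 b
      rw [map_one, mul_one]
    · show g.1 (algebraMap B (B ⊗[A] H) (algebraMap A B a)) = τ (algebraMap A H a)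
      rw [← RingHom.congr_fun g.2 (algebraMap A H a)]
      show g.1 (algebraMap A B a ⊗ₜ[A] (1 : H)) = g.1 ((1 : B) ⊗ₜ[A] algebraMap A H a)
      rw [Algebra.algebraMap_eq_smul_one, Algebra.algebraMap_eq_smul_one, TensorProduct.smul_tmul]

variable {A : Type u} [CommRing A] [IsLocalRing A]

/-- `A' ⊗ S` is locally a domain if each of its factors is. -/
theorem locallyDomain_normRed_of {S : Type u} [CommRing S] [Algebra A S] (hfin : (minimalPrimes A).Finite)
    (h : ∀ P : minimalPrimes A, LocallyDomain (normQuot A P ⊗[A] S)) :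
    LocallyDomain (CAlg2.normRed A ⊗[A] S) := by
  classical
  have := hfin.to_subtype
  have := Fintype.ofFinite (minimalPrimes A)
  let e : S ⊗[A] CAlg2.normRed A ≃+* Π P, S ⊗[A] normQuot A P :=
    (Algebra.TensorProduct.congr (AlgEquiv.refl : S ≃ₐ[A] S) (normRedEquivPi A hfin)).toRingEquiv.trans
      (Algebra.TensorProduct.piRight A A S (fun P => normQuot A P)).toRingEquiv
  have h1 : ∀ P : minimalPrimes A, LocallyDomain (S ⊗[A] normQuot A P) := fun P =>
    (h P).of_ringEquiv (Algebra.TensorProduct.comm A _ S).toRingEquiv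
  exact ((LocallyDomain.pi h1).of_ringEquiv e.symm).of_ringEquiv
    (Algebra.TensorProduct.comm A S _).toRingEquiv

set_option maxHeartbeats 1000000 in
/-- Over a local base change with purely inseparable residue extension, maximal ideals of an integral
algebra correspond. -/
theorem card_maximalSpectrum_tensor_eq {C S : Type u} [CommRing C] [Algebra A C] [Algebra.IsIntegral A C]
    [CommRing S] [IsLocalRing S] [Algebra A S] [IsLocalHom (algebraMap A S)] [Module.FaithfullyFlat A S]
    (q : ℕ) [ExpChar (ResidueField A) q]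
    (hres : ∀ s : S, ∃ N : ℕ, ∃ a : A, s ^ q ^ N - algebraMap A S a ∈ maximalIdeal S) :
    ENat.card (MaximalSpectrum (C ⊗[A] S)) = ENat.card (MaximalSpectrum C) := by
  let _ : Algebra S (C ⊗[A] S) := Algebra.TensorProduct.rightAlgebra
  have : Algebra.IsIntegral S (C ⊗[A] S) :=
    Algebra.IsIntegral.of_surjective (Algebra.TensorProduct.commRight A S C).toAlgHom
      (Algebra.TensorProduct.commRight A S C).surjective
  let iL : C →+* C ⊗[A] S := algebraMap C (C ⊗[A] S)
  let iR : S →+* C ⊗[A] S := Algebra.TensorProduct.includeRight.toRingHom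
  have hRL : ∀ a, iL (algebraMap A C a) = iR (algebraMap A S a) := fun a => by
    show algebraMap A C a ⊗ₜ[A] (1 : S) = (1 : C) ⊗ₜ[A] algebraMap A S a
    rw [Algebra.algebraMap_eq_smul_one, Algebra.algebraMap_eq_smul_one, TensorProduct.smul_tmul]
  have hover : ∀ n : Ideal (C ⊗[A] S), n.IsMaximal → n.comap iR = maximalIdeal S := fun n hn =>
    IsLocalRing.eq_maximalIdeal (show (n.comap (algebraMap S (C ⊗[A] S))).IsMaximal from
      have := hn
      Ideal.isMaximal_comap_of_isIntegral_of_isMaximal (R := S) (S := C ⊗[A] S) n)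
  have hchar : ∀ n : Ideal (C ⊗[A] S), n.IsMaximal → ExpChar ((C ⊗[A] S) ⧸ n) q := fun n hn => by
    let _ := Ideal.Quotient.field n
    have h0 : maximalIdeal A ≤ RingHom.ker ((Ideal.Quotient.mk n).comp (iR.comp (algebraMap A S))) :=
      fun a ha => Ideal.Quotient.eq_zero_iff_mem.mpr (by
        have h : algebraMap A S a ∈ maximalIdeal S := map_nonunit _ a ha
        rw [← hover n hn] at h; exact h)
    let ψ : ResidueField A →+* (C ⊗[A] S) ⧸ n := Ideal.Quotient.lift (maximalIdeal A) _ h0
    exact expChar_of_injective_ringHom ψ.injective q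
  have hrep : ∀ x : C ⊗[A] S, ∃ N : ℕ, ∃ c : C,
      ∀ n : Ideal (C ⊗[A] S), n.IsMaximal → x ^ q ^ N - iL c ∈ n := by
    intro x
    induction x with
    | zero => exact ⟨0, 0, fun n _ => by simp⟩
    | tmul c s =>
      obtain ⟨N, a, ha⟩ := hres s
      refine ⟨N, c ^ q ^ N * algebraMap A C a, fun n hn => ?_⟩
      rw [← hover n hn] at ha
      convert n.mul_mem_left (iL (c ^ q ^ N)) ha using 1
      rw [map_mul iL, hRL, map_sub, map_pow, map_pow, mul_sub, ← mul_pow]
      congr 2
      show c ⊗ₜ[A] s = c ⊗ₜ[A] (1 : S) * ((1 : C) ⊗ₜ[A] s)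
      simp
    | add x y hx hy =>
      obtain ⟨N₁, b, hb⟩ := hx
      obtain ⟨N₂, c, hc⟩ := hy
      refine ⟨N₁ + N₂, b ^ q ^ N₂ + c ^ q ^ N₁, fun n hn => ?_⟩
      have := hchar n hn
      have hb' := Ideal.Quotient.eq.mpr (hb n hn)
      have hc' := Ideal.Quotient.eq.mpr (hc n hn)
      rw [← Ideal.Quotient.eq, map_pow, map_add, add_pow_expChar_pow, pow_add, pow_mul, map_add iL,
        map_add, map_pow iL, map_pow iL, map_pow, map_pow, ← hb', ← hc', map_pow, map_pow,
        mul_comm (q ^ N₁) (q ^ N₂), pow_mul]
  have hmax : ∀ n : MaximalSpectrum (C ⊗[A] S), (n.asIdeal.comap iL).IsMaximal := fun n => by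
    have := n.isMaximal
    refine Ideal.isMaximal_of_isIntegral_of_isMaximal_comap (R := A) _ ?_
    have h1 : (maximalIdeal S).comap (algebraMap A S) = maximalIdeal A :=
      ((IsLocalRing.local_hom_TFAE (algebraMap A S)).out 0 4).mp ‹IsLocalHom (algebraMap A S)›
    rw [Ideal.comap_comap, show iL.comp (algebraMap A C) = iR.comp (algebraMap A S) from RingHom.ext hRL,
      ← Ideal.comap_comap, hover _ n.isMaximal, h1]
    exact maximalIdeal.isMaximal A
  refine ENat.card_congr (Equiv.ofBijective (fun n => ⟨n.asIdeal.comap iL, hmax n⟩)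
    ⟨fun n n' h => ?_, fun m => ?_⟩)
  · have h' : n.asIdeal.comap iL = n'.asIdeal.comap iL := congrArg MaximalSpectrum.asIdeal h
    refine MaximalSpectrum.ext (n.isMaximal.eq_of_le n'.isMaximal.ne_top fun x hx => ?_)
    obtain ⟨N, b, hb⟩ := hrep x
    have hq0 : 0 < q ^ N := pow_pos (expChar_pos (ResidueField A) q) N
    have h1 : iL b ∈ n.asIdeal := by
      simpa using n.asIdeal.sub_mem (Ideal.pow_mem_of_mem _ hx _ hq0) (hb _ n.isMaximal)
    have h2 : iL b ∈ n'.asIdeal := show b ∈ n'.asIdeal.comap iL from h' ▸ h1
    exact n'.isMaximal.isPrime.mem_of_pow_mem _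
      (by simpa using n'.asIdeal.add_mem (hb _ n'.isMaximal) h2)
  · have := m.isMaximal
    have hne : m.asIdeal.map iL ≠ ⊤ := fun ht => m.isMaximal.ne_top (by
      rw [← Ideal.comap_map_eq_self_of_faithfullyFlat (B := C ⊗[A] S) m.asIdeal, ht, Ideal.comap_top])
    obtain ⟨n, hn, hle⟩ := Ideal.exists_le_maximal _ hne
    exact ⟨⟨n, hn⟩, MaximalSpectrum.ext (m.isMaximal.eq_of_le (hmax ⟨n, hn⟩).ne_top
      (Ideal.map_le_iff_le_comap.mp hle)).symm⟩

variable {B : Type u} [CommRing B] [IsLocalRing B] [Algebra A B] [IsLocalHom (algebraMap A B)]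
  [Module.Flat A B]

/-- Local domains in `A'' ⊗ H`, for `H` a henselization of `B`. -/
theorem locallyDomain_tensor_of_normal
    (hN : ∀ (C : Type u) [CommRing C] [IsDomain C] [IsIntegrallyClosed C] [Algebra A C],
      EGA4.IsNormalRing (B ⊗[A] C))
    (hfin : (minimalPrimes A).Finite) {S : Type u} [CommRing S] [IsLocalRing S] [Algebra B S]
    [IsLocalHom (algebraMap B S)] [Algebra A S] [IsScalarTower A B S] (M : HensModel B S) :
    LocallyDomain (CAlg2.normRed A ⊗[A] S) := by
  refine locallyDomain_normRed_of hfin fun P => ?_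
  have := isIntegrallyClosed_normalization (A ⧸ P.1)
  have h1 := M.locallyDomain_tensor_of_isNormalRing (B ⊗[A] normQuot A P) (hN (normQuot A P))
  exact ((h1.of_ringEquiv (Algebra.TensorProduct.comm B (B ⊗[A] normQuot A P) S).toRingEquiv).of_ringEquiv
    (Algebra.TensorProduct.cancelBaseChange A B B S (normQuot A P)).toRingEquiv).of_ringEquiv
    (Algebra.TensorProduct.comm A S (normQuot A P)).toRingEquiv

/-- Geometric branches along a flat local map with normal fibres over normalizations. -/
theorem card_minimalPrimes_strictHenselization_eq_numGeomBranches_of_normal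
    (hN : ∀ (C : Type u) [CommRing C] [IsDomain C] [IsIntegrallyClosed C] [Algebra A C],
      EGA4.IsNormalRing (B ⊗[A] C))
    (S : Type u) [CommRing S] [IsLocalRing S] [Algebra B S] [IsLocalHom (algebraMap B S)]
    [Hensel.IsStrictHenselization B S] :
    ENat.card (minimalPrimes S) = Brnch.numGeomBranches A := by
  classical
  obtain ⟨M⟩ := hensModel_of_isStrictHenselization (R := B) (S := S)
  let _ : Algebra A S := ((algebraMap B S).comp (algebraMap A B)).toAlgebra
  have : IsScalarTower A B S := .of_algebraMap_eq fun _ => rfl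
  have : IsLocalHom (algebraMap A S) :=
    inferInstanceAs (IsLocalHom ((algebraMap B S).comp (algebraMap A B)))
  have := M.flat
  have : Module.Flat A S := Module.Flat.trans A B S
  by_cases hfin : (minimalPrimes A).Finite
  swap
  · have : Module.FaithfullyFlat A S := Module.FaithfullyFlat.of_flat_of_isLocalHom
    rw [card_minimalPrimes_eq_top A S hfin, Brnch.numGeomBranches, if_neg hfin]
  have hS := (inferInstance : Hensel.IsStrictHenselization B S)
  have := hS.henselian
  have := hS.isSepClosure.sep_closed
  have hint : Algebra.IsIntegral A (CAlg2.normRed A) := Algebra.IsIntegral.trans (CAlg2.red A)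
  have hb := bijOn_minimalPrimes_normRed (A := A) (S := S)
  rw [← ENat.card_congr hb.equiv,
    card_minimalPrimes_tensor_eq_card_hom (algebraMap (ResidueField S) (AlgebraicClosure (ResidueField S)))
      (locallyDomain_tensor_of_normal hN hfin M),
    numGeomBranches_eq_card_hom A hfin]
  let κ : ResidueField A →+* AlgebraicClosure (ResidueField S) :=
    (algebraMap (ResidueField S) (AlgebraicClosure (ResidueField S))).comp
      (ResidueField.map (algebraMap A S))
  let _ : Algebra (ResidueField A) (AlgebraicClosure (ResidueField S)) := κ.toAlgebra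
  let ι : AlgebraicClosure (ResidueField A) →ₐ[ResidueField A] AlgebraicClosure (ResidueField S) :=
    IsAlgClosed.lift
  have h : ι.toRingHom.comp (Brnch.toClosure A) =
      ((algebraMap (ResidueField S) (AlgebraicClosure (ResidueField S))).comp (residue S)).comp
        (algebraMap A S) := RingHom.ext fun a => by
    exact ι.commutes (residue A a)
  rw [card_hom_eq_of_isAlgClosed ι.toRingHom (Brnch.toClosure A), h]

/-- Geometric branches along a flat local map with normal fibres over normalizations. -/
theorem numGeomBranches_eq_of_normal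
    (hN : ∀ (C : Type u) [CommRing C] [IsDomain C] [IsIntegrallyClosed C] [Algebra A C],
      EGA4.IsNormalRing (B ⊗[A] C)) :
    Brnch.numGeomBranches B = Brnch.numGeomBranches A := by
  obtain ⟨S, _, _, _, _, hS⟩ := exists_isStrictHenselization B
  rw [← card_minimalPrimes_strictHenselization_eq_numGeomBranches B S,
    card_minimalPrimes_strictHenselization_eq_numGeomBranches_of_normal hN S]

set_option maxHeartbeats 1000000 in
/-- With purely inseparable residue extension the branches agree too. -/
theorem card_minimalPrimes_henselization_eq_numBranches_of_normal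
    (hN : ∀ (C : Type u) [CommRing C] [IsDomain C] [IsIntegrallyClosed C] [Algebra A C],
      EGA4.IsNormalRing (B ⊗[A] C))
    [IsPurelyInseparable (ResidueField A) (ResidueField B)]
    (S : Type u) [CommRing S] [IsLocalRing S] [Algebra B S] [IsLocalHom (algebraMap B S)]
    [Hensel.IsHenselization B S] :
    ENat.card (minimalPrimes S) = Brnch.numBranches A := by
  classical
  obtain ⟨M⟩ := hensModel_of_isHenselization (R := B) (S := S)
  let _ : Algebra A S := ((algebraMap B S).comp (algebraMap A B)).toAlgebra
  have : IsScalarTower A B S := .of_algebraMap_eq fun _ => rfl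
  have : IsLocalHom (algebraMap A S) :=
    inferInstanceAs (IsLocalHom ((algebraMap B S).comp (algebraMap A B)))
  have := M.flat
  have : Module.Flat A S := Module.Flat.trans A B S
  have : Module.FaithfullyFlat A S := Module.FaithfullyFlat.of_flat_of_isLocalHom
  by_cases hfin : (minimalPrimes A).Finite
  swap
  · rw [card_minimalPrimes_eq_top A S hfin, Brnch.numBranches, if_neg hfin]
  have := (inferInstance : Hensel.IsHenselization B S).henselian
  rw [← ENat.card_congr (bijOn_minimalPrimes_normRed (A := A) (S := S)).equiv, Brnch.numBranches, if_pos hfin]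
  let C := CAlg2.normRed A
  have hint : Algebra.IsIntegral A C := Algebra.IsIntegral.trans (CAlg2.red A)
  let _ : Algebra S (C ⊗[A] S) := Algebra.TensorProduct.rightAlgebra
  have : Algebra.IsIntegral S (C ⊗[A] S) :=
    Algebra.IsIntegral.of_surjective (Algebra.TensorProduct.commRight A S C).toAlgHom
      (Algebra.TensorProduct.commRight A S C).surjective
  rw [card_minimalPrimes_eq_card_maximalSpectrum (H := S) (locallyDomain_tensor_of_normal hN hfin M)]
  obtain ⟨q, hq⟩ := ExpChar.exists (ResidueField A)
  -- every residue class of `S` is, up to a power, one of `A`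
  have hres : ∀ s : S, ∃ N : ℕ, ∃ a : A, s ^ q ^ N - algebraMap A S a ∈ maximalIdeal S := by
    intro s
    obtain ⟨e⟩ := exists_algEquiv_of_isHenselization B S
    obtain ⟨b, hb⟩ := residue_surjective (Hens.pt (e.symm s))
    have h0 : residue S s = residue S (algebraMap B S b) := by
      rw [← sub_eq_zero, ← map_sub, residue_eq_zero_iff, IsLocalRing.mem_maximalIdeal]
      intro hu
      have h1 : e.symm (s - algebraMap B S b) ∈ maximalIdeal (Hens B (ResidueField B)) := by
        rw [Hens.mem_maximalIdeal_iff, map_sub, AlgEquiv.commutes, map_sub,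
          AlgHom.commutes, ← hb, ResidueField.algebraMap_eq, sub_self]
      exact (IsLocalRing.mem_maximalIdeal _).mp h1 (hu.map e.symm)
    obtain ⟨N, c, hc⟩ := (isPurelyInseparable_iff_pow_mem (ResidueField A) q).mp ‹_› (residue B b)
    obtain ⟨a, rfl⟩ := residue_surjective c
    have hc' : residue B (algebraMap A B a - b ^ q ^ N) = 0 := by
      rw [map_sub, map_pow, ← hc]; exact sub_self _
    refine ⟨N, a, ?_⟩
    rw [← residue_eq_zero_iff, map_sub, map_pow, h0, ← map_pow, ← map_sub,
      IsScalarTower.algebraMap_apply A B S, ← map_pow, ← map_sub, residue_eq_zero_iff]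
    exact map_nonunit (algebraMap B S) _ (by
      rw [← residue_eq_zero_iff, ← neg_sub, map_neg, hc', neg_zero])
  exact card_maximalSpectrum_tensor_eq q hres

end Groth.Hensel1
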