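import Mathlib.RingTheory.Henselian
import Mathlib.Tactic
import Mathlib.RingTheory.Nakayama
import Mathlib.RingTheory.LocalRing.ResidueField.Basic
import Mathlib.RingTheory.LocalRing.Module
import Mathlib.Algebra.Polynomial.Div
import Mathlib.RingTheory.Ideal.Quotient.Operations

/-!
# Roots from finite flat local algebras
-/

set_option autoImplicit false

namespace Groth.Hensel1

open IsLocalRing Polynomial

universe u

/-- If `A` is a finite flat local `R`-algebra generated by a root `x` of `f` lying over the simple
approximate root `a₀`, then `f` has a root congruent to `a₀`. -/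
theorem exists_root_of_localAlgebra {R : Type u} [CommRing R] [IsLocalRing R] {f : R[X]} {a₀ : R}
    (ha₀ : f.eval a₀ ∈ maximalIdeal R) (hu : IsUnit (f.derivative.eval a₀))
    {A : Type u} [CommRing A] [IsLocalRing A] [Algebra R A] [Module.Finite R A] [Module.Flat R A]
    (x : A) (hx : aeval x f = 0) (hxa : x - algebraMap R A a₀ ∈ maximalIdeal A)
    (hgen : ∀ y : A, ∃ p s : R[X], IsUnit (aeval x s) ∧ y * aeval x s = aeval x p) :
    ∃ a : R, f.IsRoot a ∧ a - a₀ ∈ maximalIdeal R := by
  have hres : ∀ p : R[X], ∃ q : A,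
      aeval x p = algebraMap R A (p.eval a₀) + (x - algebraMap R A a₀) * q := by
    intro p
    obtain ⟨q, hq⟩ : (X - C a₀) ∣ p - C (p.eval a₀) := dvd_iff_isRoot.mpr (by simp)
    refine ⟨aeval x q, ?_⟩
    have := congr_arg (aeval x) hq
    rw [map_sub, map_mul, map_sub, aeval_X, aeval_C, aeval_C] at this
    linear_combination this
  obtain ⟨g, hg⟩ : (X - C a₀) ∣ f - C (f.eval a₀) := dvd_iff_isRoot.mpr (by simp)
  have hga : g.eval a₀ = f.derivative.eval a₀ := by
    have := congr_arg (fun p => (derivative p).eval a₀) hg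
    simpa [derivative_mul] using this.symm
  have hgx : IsUnit (aeval x g) := by
    obtain ⟨q, hq⟩ := hres g
    by_contra hn
    have h1 := Ideal.sub_mem _ ((mem_maximalIdeal _).mpr hn) (Ideal.mul_mem_right q _ hxa)
    rw [hq, add_sub_cancel_right] at h1
    exact (mem_maximalIdeal _).mp h1 ((hga ▸ hu).map (algebraMap R A))
  have hxa' : x - algebraMap R A a₀ ∈ (maximalIdeal R).map (algebraMap R A) := by
    have h1 : aeval x (f - C (f.eval a₀)) = (x - algebraMap R A a₀) * aeval x g := by
      rw [hg, map_mul, map_sub, aeval_X, aeval_C]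
    rw [map_sub, hx, aeval_C, zero_sub] at h1
    refine (Ideal.mul_unit_mem_iff_mem _ hgx).mp ?_
    rw [← h1]
    exact neg_mem (Ideal.mem_map_of_mem _ ha₀)
  have htop : (⊤ : Submodule R A) ≤ Submodule.span R {(1 : A)} := by
    refine Submodule.le_of_le_smul_of_le_jacobson_bot Module.Finite.fg_top
      (jacobson_eq_maximalIdeal ⊥ bot_ne_top).ge fun y _ => ?_
    obtain ⟨p, s, hsu, hy⟩ := hgen y
    obtain ⟨qp, hqp⟩ := hres p
    obtain ⟨qs, hqs⟩ := hres s
    have hs : IsUnit (s.eval a₀) := by
      by_contra hn
      have h1 : aeval x s ∈ maximalIdeal A := by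
        rw [hqs]
        refine Ideal.add_mem _ ?_ (Ideal.mul_mem_right _ _ hxa)
        rw [Algebra.algebraMap_eq_smul_one]
        have h2 : algebraMap R A a₀ - x ∈ maximalIdeal A := by
          rw [← neg_sub]; exact neg_mem hxa
        by_contra hnm
        rw [mem_maximalIdeal, mem_nonunits_iff, not_not, ← Algebra.algebraMap_eq_smul_one] at hnm
        have : IsLocalHom (algebraMap R A) := by
          have : FaithfulSMul R A :=
            have : Module.Free R A := Module.free_of_flat_of_isLocalRing
            inferInstance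
          exact Algebra.IsIntegral.isLocalHom ..
        exact hn (isUnit_of_map_unit (algebraMap R A) _ hnm)
      exact (mem_maximalIdeal _).mp h1 hsu
    have key : y - algebraMap R A (p.eval a₀ * ↑hs.unit⁻¹) ∈
        (maximalIdeal R).map (algebraMap R A) := by
      refine (Ideal.mul_unit_mem_iff_mem _ hsu).mp ?_
      have e : algebraMap R A ↑hs.unit⁻¹ * algebraMap R A (s.eval a₀) = 1 := by
        rw [← map_mul, IsUnit.val_inv_mul, map_one]
      have : (y - algebraMap R A (p.eval a₀ * ↑hs.unit⁻¹)) * aeval x s =
          (x - algebraMap R A a₀) * (qp - algebraMap R A (p.eval a₀ * ↑hs.unit⁻¹) * qs) := by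
        rw [sub_mul, hy, hqp, hqs, map_mul]
        linear_combination -(algebraMap R A (p.eval a₀)) * e
      rw [this]
      exact Ideal.mul_mem_right _ _ hxa'
    rw [show y = algebraMap R A (p.eval a₀ * ↑hs.unit⁻¹) +
      (y - algebraMap R A (p.eval a₀ * ↑hs.unit⁻¹)) by ring]
    refine Submodule.add_mem_sup ?_ ?_
    · rw [Algebra.algebraMap_eq_smul_one]
      exact Submodule.smul_mem _ _ (Submodule.mem_span_singleton_self _)
    · rw [Ideal.smul_top_eq_map]
      exact key
  obtain ⟨a, ha⟩ := Submodule.mem_span_singleton.mp (htop (Submodule.mem_top (x := x)))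
  rw [← Algebra.algebraMap_eq_smul_one] at ha
  have : Module.Free R A := Module.free_of_flat_of_isLocalRing
  refine ⟨a, FaithfulSMul.algebraMap_injective R A ?_, ?_⟩
  · rw [map_zero, ← aeval_algebraMap_apply_eq_algebraMap_eval, ha, hx]
  · by_contra hn
    rw [mem_maximalIdeal, mem_nonunits_iff, not_not] at hn
    have := hn.map (algebraMap R A)
    rw [map_sub, ha] at this
    exact (mem_maximalIdeal _).mp hxa this

end Groth.Hensel1
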