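import Groth.Agent.Hensel1.Local
import Mathlib.RingTheory.Unramified.Field
import Mathlib.FieldTheory.IsSepClosed
import Mathlib.RingTheory.Etale.Basic

/-!
# Points of étale algebras over separably closed fields
-/

set_option autoImplicit false

namespace Groth.Hensel1

universe u v w

theorem exists_algHom_of_isSepClosed {k : Type u} [Field k] [IsSepClosed k] {A : Type v}
    [CommRing A] [Algebra k A] [Algebra.FormallyUnramified k A] [Algebra.EssFiniteType k A]
    {K : Type w} [Field K] [Algebra k K] (ψ : A →ₐ[k] K) :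
    ∃ c : A →ₐ[k] k, (Algebra.ofId k K).comp c = ψ := by
  have : Module.Finite k A := Algebra.FormallyUnramified.finite_of_free k A
  have : IsArtinianRing A := isArtinian_of_tower k inferInstance
  have : (RingHom.ker ψ.toRingHom).IsPrime := RingHom.ker_isPrime _
  have hmax : (RingHom.ker ψ.toRingHom).IsMaximal := Ideal.IsPrime.isMaximal' ‹_›
  let _ : Field (A ⧸ RingHom.ker ψ.toRingHom) := Ideal.Quotient.field _
  have : Algebra.FormallyUnramified k (A ⧸ RingHom.ker ψ.toRingHom) :=
    Algebra.FormallyUnramified.comp k A _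
  have : Algebra.IsSeparable k (A ⧸ RingHom.ker ψ.toRingHom) :=
    Algebra.FormallyUnramified.isSeparable _ _
  let e : k ≃ₐ[k] (A ⧸ RingHom.ker ψ.toRingHom) := AlgEquiv.ofBijective (Algebra.ofId k _)
    ⟨RingHom.injective (algebraMap k (A ⧸ RingHom.ker ψ.toRingHom)),
      IsSepClosed.algebraMap_surjective k _⟩
  refine ⟨e.symm.toAlgHom.comp (Ideal.Quotient.mkₐ k _), ?_⟩
  have h2 : (Algebra.ofId k K).comp e.symm.toAlgHom =
      Ideal.Quotient.liftₐ (RingHom.ker ψ.toRingHom) ψ (fun a ha => ha) := by
    refine AlgHom.ext fun y => ?_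
    obtain ⟨r, rfl⟩ := e.surjective y
    rw [AlgHom.comp_apply]
    show Algebra.ofId k K (e.symm (e r)) = _
    rw [e.symm_apply_apply, show e r = algebraMap k _ r from rfl, AlgHom.commutes]
    rfl
  rw [← AlgHom.comp_assoc, h2]
  exact Ideal.Quotient.liftₐ_comp ..

end Groth.Hensel1
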